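/-
Basic vocabulary for the proof of Aschbacher's theorem on the subgroups of the finite classical groups:
the algebra spanned by a matrix group, conjugation on matrices, invariant subspaces, and consequences
of (absolute) irreducibility.
-/
import Mathlib
import Cfsg.Prelude.Def_GeometricClasses

set_option autoImplicit false

namespace Cfsg.Agent.Lib.Aschbacher

open Cfsg Cfsg.Geo Matrix

variable {ι : Type} [Fintype ι] [DecidableEq ι] {F : Type*} [Field F]

/-- `H` normalises `N`. -/
def Normalises (H N : Subgroup (GL ι F)) : Prop :=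
  ∀ h ∈ H, ∀ x ∈ N, h * x * h⁻¹ ∈ N

/-- The subalgebra of the matrix algebra generated by the elements of `N`. -/
def spanAlg (N : Subgroup (GL ι F)) : Subalgebra F (Matrix ι ι F) :=
  Algebra.adjoin F (matrixSet N)

/-- Conjugation by an invertible matrix, as an algebra automorphism of the matrix algebra. -/
def conjM (g : GL ι F) : Matrix ι ι F ≃ₐ[F] Matrix ι ι F where
  toFun a := (g : Matrix ι ι F) * a * ((g⁻¹ : GL ι F) : Matrix ι ι F)
  invFun a := ((g⁻¹ : GL ι F) : Matrix ι ι F) * a * (g : Matrix ι ι F)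
  left_inv a := by simp [mul_assoc]
  right_inv a := by simp [mul_assoc]
  map_mul' a b := by simp [mul_assoc]
  map_add' a b := by simp [mul_add, add_mul]
  commutes' r := by
    rw [Algebra.algebraMap_eq_smul_one, Matrix.mul_smul, Matrix.smul_mul, mul_one, Units.mul_inv]

lemma conjM_apply (g : GL ι F) (a : Matrix ι ι F) :
    conjM g a = (g : Matrix ι ι F) * a * ((g⁻¹ : GL ι F) : Matrix ι ι F) := rfl

lemma conjM_coe (g x : GL ι F) :
    conjM g (x : Matrix ι ι F) = ((g * x * g⁻¹ : GL ι F) : Matrix ι ι F) := by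
  simp [conjM_apply]

lemma conjM_one (a : Matrix ι ι F) : conjM (1 : GL ι F) a = a := by
  simp [conjM_apply]

lemma conjM_mul (g h : GL ι F) (a : Matrix ι ι F) : conjM (g * h) a = conjM g (conjM h a) := by
  simp only [conjM_apply, Units.val_mul, _root_.mul_inv_rev, mul_assoc]

lemma conjM_inv_conjM (g : GL ι F) (a : Matrix ι ι F) : conjM g⁻¹ (conjM g a) = a := by
  rw [← conjM_mul, inv_mul_cancel, conjM_one]

lemma commute_of_conjM_eq {g : GL ι F} {a : Matrix ι ι F} (h : conjM g a = a) :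
    (g : Matrix ι ι F) * a = a * (g : Matrix ι ι F) := by
  conv_rhs => rw [← h, conjM_apply, mul_assoc, Units.inv_mul, mul_one]

lemma coe_mem_matrixSet {N : Subgroup (GL ι F)} {x : GL ι F} (hx : x ∈ N) :
    (x : Matrix ι ι F) ∈ matrixSet N := ⟨x, hx, rfl⟩

lemma coe_mem_spanAlg {N : Subgroup (GL ι F)} {x : GL ι F} (hx : x ∈ N) :
    (x : Matrix ι ι F) ∈ spanAlg N :=
  Algebra.subset_adjoin (coe_mem_matrixSet hx)

lemma spanAlg_mono {N N' : Subgroup (GL ι F)} (h : N ≤ N') : spanAlg N ≤ spanAlg N' := by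
  apply Algebra.adjoin_mono
  rintro _ ⟨x, hx, rfl⟩
  exact ⟨x, h hx, rfl⟩

lemma spanAlg_le {N : Subgroup (GL ι F)} {A : Subalgebra F (Matrix ι ι F)}
    (h : ∀ x ∈ N, (x : Matrix ι ι F) ∈ A) : spanAlg N ≤ A := by
  apply Algebra.adjoin_le
  rintro _ ⟨x, hx, rfl⟩
  exact h x hx

/-- The algebra spanned by a group is spanned linearly by its elements. -/
lemma spanAlg_toSubmodule (N : Subgroup (GL ι F)) :
    (spanAlg N).toSubmodule = Submodule.span F (matrixSet N) := by
  rw [spanAlg, Algebra.adjoin_eq_span]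
  congr 1
  apply le_antisymm
  · intro a ha
    induction ha using Submonoid.closure_induction with
    | mem x hx => exact hx
    | one => exact ⟨1, N.one_mem, rfl⟩
    | mul x y _ _ hx hy =>
      obtain ⟨g, hg, rfl⟩ := hx
      obtain ⟨k, hk, rfl⟩ := hy
      exact ⟨g * k, N.mul_mem hg hk, rfl⟩
  · exact Submonoid.subset_closure

lemma commute_spanAlg {N : Subgroup (GL ι F)} {b : Matrix ι ι F}
    (h : ∀ x ∈ N, b * (x : Matrix ι ι F) = (x : Matrix ι ι F) * b) {a : Matrix ι ι F}
    (ha : a ∈ spanAlg N) : b * a = a * b := by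
  have : spanAlg N ≤ Subalgebra.centralizer F {b} := by
    apply spanAlg_le
    intro x hx
    rw [Subalgebra.mem_centralizer_iff]
    intro y hy
    rw [Set.mem_singleton_iff] at hy
    subst hy
    exact h x hx
  exact Subalgebra.mem_centralizer_iff F |>.mp (this ha) b rfl

lemma spanAlg_commute_spanAlg {N N' : Subgroup (GL ι F)}
    (h : ∀ x ∈ N, ∀ y ∈ N', x * y = y * x) {a b : Matrix ι ι F}
    (ha : a ∈ spanAlg N) (hb : b ∈ spanAlg N') : a * b = b * a := by
  refine commute_spanAlg (N := N') (fun y hy => ?_) hb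
  symm
  refine commute_spanAlg (N := N) (fun x hx => ?_) ha
  rw [← Units.val_mul, ← Units.val_mul, h x hx y hy]

lemma conjM_mem_spanAlg {N : Subgroup (GL ι F)} {g : GL ι F}
    (hg : ∀ x ∈ N, g * x * g⁻¹ ∈ N) {a : Matrix ι ι F} (ha : a ∈ spanAlg N) :
    conjM g a ∈ spanAlg N := by
  have : spanAlg N ≤ (spanAlg N).comap (conjM g).toAlgHom := by
    apply spanAlg_le
    intro x hx
    show conjM g (x : Matrix ι ι F) ∈ spanAlg N
    rw [conjM_coe]
    exact coe_mem_spanAlg (hg x hx)
  exact this ha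

lemma conjM_mem_spanAlg_iff {H N : Subgroup (GL ι F)} (hnorm : Normalises H N) {g : GL ι F} (hg : g ∈ H)
    {a : Matrix ι ι F} : conjM g a ∈ spanAlg N ↔ a ∈ spanAlg N := by
  constructor
  · intro h
    have := conjM_mem_spanAlg (g := g⁻¹) (fun x hx => hnorm g⁻¹ (H.inv_mem hg) x hx) h
    simpa [conjM_apply, mul_assoc] using this
  · exact conjM_mem_spanAlg (fun x hx => hnorm g hg x hx)

lemma Normalises.self (H : Subgroup (GL ι F)) : Normalises H H :=
  fun _ hh _ hx => H.mul_mem (H.mul_mem hh hx) (H.inv_mem hh)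

lemma Normalises.mono_left {H H' N : Subgroup (GL ι F)} (h : Normalises H N) (hle : H' ≤ H) :
    Normalises H' N := fun g hg => h g (hle hg)

/-! ### Invariant subspaces -/

lemma toLin'_mulVec (g : Matrix ι ι F) (v : ι → F) : Matrix.toLin' g v = g *ᵥ v :=
  Matrix.toLin'_apply g v

/-- Irreducibility in terms of invariance of subspaces under the elements of the group. -/
lemma actsIrreducibly_iff {H : Subgroup (GL ι F)} :
    ActsIrreducibly (matrixSet H) ↔ ∀ W : Submodule F (ι → F),
      (∀ g ∈ H, ∀ w ∈ W, (g : Matrix ι ι F) *ᵥ w ∈ W) → W = ⊥ ∨ W = ⊤ := by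
  constructor
  · intro h W hW
    apply h W
    rintro _ ⟨g, hg, rfl⟩ _ ⟨w, hw, rfl⟩
    rw [toLin'_mulVec]
    exact hW g hg w hw
  · intro h W hW
    apply h W
    intro g hg w hw
    have := hW _ (coe_mem_matrixSet hg) (Submodule.mem_map_of_mem hw)
    rwa [toLin'_mulVec] at this

lemma le_subspaceStabilizer {H : Subgroup (GL ι F)} {W : Submodule F (ι → F)}
    (h : ∀ g ∈ H, ∀ w ∈ W, (g : Matrix ι ι F) *ᵥ w ∈ W) : H ≤ subspaceStabilizer W := by
  intro g hg v
  show v ∈ W ↔ (g : Matrix ι ι F) *ᵥ v ∈ W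
  refine ⟨fun hv => h g hg v hv, fun hv => ?_⟩
  have := h g⁻¹ (H.inv_mem hg) _ hv
  rwa [Matrix.mulVec_mulVec, Units.inv_mul, Matrix.one_mulVec] at this

lemma exists_invariant_of_not_irreducible {H : Subgroup (GL ι F)}
    (h : ¬ ActsIrreducibly (matrixSet H)) :
    ∃ W : Submodule F (ι → F), W ≠ ⊥ ∧ W ≠ ⊤ ∧ H ≤ subspaceStabilizer W ∧
      ∀ g ∈ H, ∀ w ∈ W, (g : Matrix ι ι F) *ᵥ w ∈ W := by
  rw [actsIrreducibly_iff] at h
  push Not at h
  obtain ⟨W, hW, h1, h2⟩ := h
  exact ⟨W, h1, h2, le_subspaceStabilizer hW, hW⟩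

lemma mem_scalars_of_commute {g : GL ι F} {c : F} (h : (g : Matrix ι ι F) = c • (1 : Matrix ι ι F)) :
    g ∈ scalars ι F := by
  rw [mem_scalars_iff]
  by_cases hc : c = 0
  · subst hc
    refine ⟨1, ?_⟩
    rw [zero_smul] at h
    have h1 : (g : Matrix ι ι F) * ((g⁻¹ : GL ι F) : Matrix ι ι F) = 1 := g.mul_inv
    rw [h, zero_mul] at h1
    rw [h, Units.val_one, one_smul, h1]
  · exact ⟨Units.mk0 c hc, h⟩

lemma scalars_commute {z : GL ι F} (hz : z ∈ scalars ι F) (g : GL ι F) : z * g = g * z := by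
  obtain ⟨c, hc⟩ := (mem_scalars_iff z).mp hz
  apply Units.ext
  simp [hc]

/-- An absolutely irreducible group has scalar centraliser. -/
lemma centralizer_scalar {N : Subgroup (GL ι F)} (hN : ActsAbsolutelyIrreducibly (matrixSet N))
    {g : GL ι F} (hg : ∀ x ∈ N, g * x = x * g) : g ∈ scalars ι F := by
  obtain ⟨c, hc⟩ := hN.2 (g : Matrix ι ι F) (by
    rintro _ ⟨x, hx, rfl⟩
    simp only []
    rw [← Units.val_mul, ← Units.val_mul, hg x hx])
  exact mem_scalars_of_commute hc

/-- A group of scalar matrices acts irreducibly only in dimension at most one. -/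
lemma card_le_one_of_le_scalars {H : Subgroup (GL ι F)} (hH : H ≤ scalars ι F)
    (hirr : ActsIrreducibly (matrixSet H)) : Fintype.card ι ≤ 1 := by
  by_contra hc
  push Not at hc
  obtain ⟨a, b, hab⟩ := Fintype.exists_pair_of_one_lt_card hc
  rw [actsIrreducibly_iff] at hirr
  have := hirr (Submodule.span F {Pi.single a (1 : F)}) (by
    intro g hg w hw
    obtain ⟨c, hc⟩ := (mem_scalars_iff g).mp (hH hg)
    rw [hc, Matrix.smul_mulVec, Matrix.one_mulVec]
    exact Submodule.smul_mem _ _ hw)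
  rcases this with h | h
  · have h1 : Pi.single a (1 : F) = (0 : ι → F) := by
      simpa [Submodule.span_singleton_eq_bot] using h
    simpa using congrFun h1 a
  · have h1 : (Pi.single b (1 : F) : ι → F) ∈ Submodule.span F {Pi.single a (1 : F)} := by
      rw [h]; trivial
    obtain ⟨c, hc⟩ := Submodule.mem_span_singleton.mp h1
    have := congrFun hc b
    simp [hab, Ne.symm hab] at this

end Cfsg.Agent.Lib.Aschbacher
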