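/-
Clifford theory in matrix form: for an irreducible group `H` normalising `N`, the algebra spanned by `N`
either has a non-trivial decomposition by central idempotents, or a centre which is a field larger than the
scalars, or is a full matrix algebra over the ground field.
-/
import Cfsg.Agent.Lib.Aschbacher.Basic

set_option autoImplicit false

namespace Cfsg.Agent.Lib.Aschbacher

open Cfsg Cfsg.Geo Matrix

variable {ι : Type} [Fintype ι] [DecidableEq ι] {F : Type*} [Field F]

/-- The centre of a subalgebra, as a subalgebra of the ambient matrix algebra. -/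
def centreAlg (A : Subalgebra F (Matrix ι ι F)) : Subalgebra F (Matrix ι ι F) :=
  A ⊓ Subalgebra.centralizer F (A : Set (Matrix ι ι F))

lemma mem_centreAlg {A : Subalgebra F (Matrix ι ι F)} {z : Matrix ι ι F} :
    z ∈ centreAlg A ↔ z ∈ A ∧ ∀ a ∈ A, z * a = a * z := by
  rw [centreAlg, Algebra.mem_inf, Subalgebra.mem_centralizer_iff]
  exact and_congr_right fun _ => ⟨fun h a ha => (h a ha).symm, fun h a ha => (h a ha).symm⟩

/-- The family of all primitive central idempotents of the algebra `A`. -/
structure IsCentralSplit (A : Subalgebra F (Matrix ι ι F)) {t : ℕ} (e : Fin t → Matrix ι ι F) : Prop where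
  mem : ∀ i, e i ∈ A
  central : ∀ i, ∀ a ∈ A, e i * a = a * e i
  idem : ∀ i, e i * e i = e i
  orth : ∀ i j, i ≠ j → e i * e j = 0
  sum_eq : ∑ i, e i = 1
  ne_zero : ∀ i, e i ≠ 0
  complete : ∀ c ∈ A, (∀ a ∈ A, c * a = a * c) → c * c = c → ∀ i, c * e i = 0 ∨ c * e i = e i

lemma isIdem_central_matrix {n : Type*} [Fintype n] [DecidableEq n] {D : Type*} [DivisionRing D]
    {c : Matrix n n D} (hc : ∀ a, c * a = a * c) (hi : c * c = c) : c = 0 ∨ c = 1 := by
  cases isEmpty_or_nonempty n
  · exact Or.inl (Subsingleton.elim _ _)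
  obtain ⟨r, rfl⟩ := Matrix.mem_range_scalar_of_commute_single (M := c)
    (fun i j _ => ((hc (Matrix.single i j 1)).symm : Commute (Matrix.single i j 1) c))
  have hr : r * r = r := by
    rw [← map_mul] at hi
    exact Matrix.scalar_inj.mp hi
  rcases eq_or_ne r 0 with h | h
  · left; rw [h, map_zero]
  · right
    have : r = 1 := mul_left_cancel₀ h (by rw [hr, mul_one])
    rw [this, map_one]

/-- A bijection of the matrices that preserves the algebra and the products of commuting elements permutes the
primitive central idempotents. -/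
lemma IsCentralSplit.exists_perm {A : Subalgebra F (Matrix ι ι F)} {t : ℕ} {e : Fin t → Matrix ι ι F}
    (he : IsCentralSplit A e) (φ : Matrix ι ι F ≃ Matrix ι ι F) (hA : ∀ a, φ a ∈ A ↔ a ∈ A)
    (h0 : φ 0 = 0)
    (hmul : ∀ x y, x * y = y * x → φ (x * y) = φ x * φ y) :
    ∃ σ : Equiv.Perm (Fin t), ∀ i, φ (e i) = e (σ i) := by
  have hcen : ∀ i, ∀ a ∈ A, φ (e i) * a = a * φ (e i) := by
    intro i a ha
    have hb : φ.symm a ∈ A := (hA _).mp (by rwa [Equiv.apply_symm_apply])
    have h1 := hmul (e i) (φ.symm a) (he.central i _ hb)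
    have h2 := hmul (φ.symm a) (e i) (he.central i _ hb).symm
    rw [Equiv.apply_symm_apply] at h1 h2
    rw [← h1, ← h2, he.central i _ hb]
  have hidem : ∀ i, φ (e i) * φ (e i) = φ (e i) := fun i => by
    rw [← hmul _ _ rfl, he.idem]
  have hmem : ∀ i, φ (e i) ∈ A := fun i => (hA _).mpr (he.mem i)
  have horth : ∀ i k, i ≠ k → φ (e i) * φ (e k) = 0 := fun i k h => by
    rw [← hmul _ _ (he.central i _ (he.mem k)), he.orth i k h, h0]
  have hne : ∀ i, φ (e i) ≠ 0 := fun i h => he.ne_zero i (φ.injective (h.trans h0.symm))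
  have hex : ∀ i, ∃ j, φ (e i) * e j = e j := by
    intro i
    by_contra hc
    push Not at hc
    apply hne i
    calc φ (e i) = φ (e i) * ∑ j, e j := by rw [he.sum_eq, mul_one]
      _ = 0 := by
        rw [Finset.mul_sum]
        exact Finset.sum_eq_zero fun j _ =>
          (he.complete _ (hmem i) (hcen i) (hidem i) j).resolve_right (hc j)
  choose π hπ using hex
  have hinj : Function.Injective π := by
    intro i k h
    by_contra hik
    apply he.ne_zero (π i)
    calc e (π i) = φ (e i) * (φ (e k) * e (π k)) := by rw [hπ k, ← h, hπ i]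
      _ = 0 := by rw [← mul_assoc, horth i k hik, zero_mul]
  let σ : Equiv.Perm (Fin t) := Equiv.ofBijective π (Finite.injective_iff_bijective.mp hinj)
  refine ⟨σ, fun i => ?_⟩
  calc φ (e i) = φ (e i) * ∑ j, e j := by rw [he.sum_eq, mul_one]
    _ = φ (e i) * e (π i) := by
      rw [Finset.mul_sum]
      refine Finset.sum_eq_single (π i) ?_ (fun h => absurd (Finset.mem_univ _) h)
      intro j _ hj
      obtain ⟨k, hk⟩ := σ.surjective j
      have hk' : π k = j := hk
      have hik : i ≠ k := by rintro rfl; exact hj hk'.symm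
      rw [← hk', ← hπ k, ← mul_assoc, horth i k hik, zero_mul]
    _ = e (π i) := hπ i

lemma IsCentralSplit.exists_perm_conj {A : Subalgebra F (Matrix ι ι F)} {t : ℕ}
    {e : Fin t → Matrix ι ι F} (he : IsCentralSplit A e) (g : GL ι F)
    (hA : ∀ a, conjM g a ∈ A ↔ a ∈ A) :
    ∃ σ : Equiv.Perm (Fin t), ∀ i, conjM g (e i) = e (σ i) :=
  he.exists_perm (conjM g).toEquiv hA (map_zero (conjM g)) (fun x y _ => map_mul (conjM g) x y)

/-- The range of a matrix as a subspace. -/
def rangeOf (a : Matrix ι ι F) : Submodule F (ι → F) := LinearMap.range (Matrix.toLin' a)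

lemma mem_rangeOf_idem {a : Matrix ι ι F} (ha : a * a = a) {v : ι → F} :
    v ∈ rangeOf a ↔ a *ᵥ v = v := by
  constructor
  · rintro ⟨w, rfl⟩
    rw [toLin'_mulVec, Matrix.mulVec_mulVec, ha]
  · intro h
    exact ⟨v, by rw [toLin'_mulVec, h]⟩

lemma map_rangeOf (g : GL ι F) (a : Matrix ι ι F) :
    (rangeOf a).map (Matrix.toLin' (g : Matrix ι ι F)) = rangeOf (conjM g a) := by
  rw [rangeOf, rangeOf, ← LinearMap.range_comp, ← Matrix.toLin'_mul, conjM_apply,
    Matrix.toLin'_mul _ ((g⁻¹ : GL ι F) : Matrix ι ι F), LinearMap.range_comp_of_range_eq_top]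
  rw [LinearMap.range_eq_top]
  intro v
  exact ⟨(g : Matrix ι ι F) *ᵥ v, by
    rw [toLin'_mulVec, Matrix.mulVec_mulVec, Units.inv_mul, Matrix.one_mulVec]⟩

/-- The subspaces cut out by central idempotents permuted by an irreducible group form a decomposition
stabilised by the group. -/
theorem IsCentralSplit.decomposition {H : Subgroup (GL ι F)} (hirr : ActsIrreducibly (matrixSet H))
    {A : Subalgebra F (Matrix ι ι F)} {t : ℕ} {e : Fin t → Matrix ι ι F} (he : IsCentralSplit A e)
    (hA : ∀ g ∈ H, ∀ a, conjM g a ∈ A ↔ a ∈ A) (ht : 2 ≤ t) :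
    ∃ m, IsMDecomposition m (fun i => rangeOf (e i)) ∧
      H ≤ decompositionStabilizer (fun i => rangeOf (e i)) ∧
      ∀ i j, ∃ g ∈ H, conjM g (e i) = e j := by
  classical
  have hperm : ∀ g ∈ H, ∃ σ : Equiv.Perm (Fin t), ∀ i, conjM g (e i) = e (σ i) :=
    fun g hg => he.exists_perm_conj g (hA g hg)
  have hinj : Function.Injective e := by
    intro i j h
    by_contra hij
    exact he.ne_zero i (by rw [← he.idem i]; nth_rewrite 2 [h]; exact he.orth i j hij)
  have htrans : ∀ i j, ∃ g ∈ H, conjM g (e i) = e j := by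
    intro i
    let S : Finset (Fin t) := Finset.univ.filter (fun j => ∃ g ∈ H, conjM g (e i) = e j)
    let f : Matrix ι ι F := ∑ j ∈ S, e j
    have hiS : i ∈ S := by
      simp only [S, Finset.mem_filter, Finset.mem_univ, true_and]
      exact ⟨1, H.one_mem, by simp [conjM_apply]⟩
    have hfe : ∀ j, e j * f = if j ∈ S then e j else 0 := by
      intro j
      simp only [f, Finset.mul_sum]
      split_ifs with hj
      · rw [Finset.sum_eq_single j (fun k _ hk => he.orth j k (Ne.symm hk)) (fun h => absurd hj h),
          he.idem]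
      · exact Finset.sum_eq_zero fun k hk => he.orth j k (fun h => hj (h ▸ hk))
    have hconj : ∀ g ∈ H, conjM g f = f := by
      intro g hg
      obtain ⟨σ, hσ⟩ := hperm g hg
      have hS : ∀ j ∈ S, σ j ∈ S := by
        intro j hj
        simp only [S, Finset.mem_filter, Finset.mem_univ, true_and] at hj ⊢
        obtain ⟨k, hk, hkj⟩ := hj
        refine ⟨g * k, H.mul_mem hg hk, ?_⟩
        rw [← hσ j, ← hkj]
        simp [conjM_apply, mul_assoc]
      have himg : S.image σ = S := by
        apply Finset.eq_of_subset_of_card_le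
        · intro j hj
          obtain ⟨k, hk, rfl⟩ := Finset.mem_image.mp hj
          exact hS k hk
        · rw [Finset.card_image_of_injective _ σ.injective]
      calc conjM g f = ∑ j ∈ S, e (σ j) := by
            rw [map_sum]; exact Finset.sum_congr rfl fun j _ => hσ j
        _ = ∑ j ∈ S.image σ, e j := (Finset.sum_image σ.injective.injOn).symm
        _ = f := by rw [himg]
    have hinv : ∀ g ∈ H, ∀ w ∈ rangeOf f, (g : Matrix ι ι F) *ᵥ w ∈ rangeOf f := by
      intro g hg w hw
      have := Submodule.mem_map_of_mem (f := Matrix.toLin' (g : Matrix ι ι F)) hw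
      rwa [map_rangeOf, hconj g hg, toLin'_mulVec] at this
    have hff : f * f = f := by
      calc f * f = ∑ j ∈ S, e j * f := Finset.sum_mul ..
        _ = f := Finset.sum_congr rfl fun j hj => by rw [hfe, if_pos hj]
    have hf1 : f = 1 := by
      rcases (actsIrreducibly_iff.mp hirr) _ hinv with h | h
      · exfalso
        have : f = 0 := by
          have h' : Matrix.toLin' f = 0 := LinearMap.range_eq_bot.mp h
          simpa using h'
        apply he.ne_zero i
        have h' := hfe i
        rw [if_pos hiS, this, mul_zero] at h'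
        exact h'.symm
      · apply Matrix.toLin'.injective
        refine LinearMap.ext fun v => ?_
        have hv : v ∈ rangeOf f := by rw [h]; trivial
        rw [toLin'_mulVec, toLin'_mulVec, Matrix.one_mulVec]
        exact (mem_rangeOf_idem hff).mp hv
    intro j
    have hj : j ∈ S := by
      by_contra hj
      have h' := hfe j
      rw [if_neg hj, hf1, mul_one] at h'
      exact he.ne_zero j h'
    simp only [S, Finset.mem_filter, Finset.mem_univ, true_and] at hj
    exact hj
  let i₀ : Fin t := ⟨0, by omega⟩
  refine ⟨Module.finrank F (rangeOf (e i₀)), ?_, ?_, htrans⟩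
  · refine ⟨ht, ?_, ?_, ?_, ?_⟩
    · apply Nat.pos_of_ne_zero
      intro h
      rw [Submodule.finrank_eq_zero] at h
      have h' : Matrix.toLin' (e i₀) = 0 := LinearMap.range_eq_bot.mp h
      exact he.ne_zero i₀ (by simpa using h')
    · intro i
      obtain ⟨g, _, hg⟩ := htrans i₀ i
      show Module.finrank F (rangeOf (e i)) = _
      rw [← hg, ← map_rangeOf]
      refine LinearEquiv.finrank_eq (Submodule.equivMapOfInjective _ ?_ _).symm
      intro v w hvw
      have := congrArg (fun u => ((g⁻¹ : GL ι F) : Matrix ι ι F) *ᵥ u) hvw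
      simpa [toLin'_mulVec, Matrix.mulVec_mulVec] using this
    · rw [iSupIndep_def]
      intro i
      rw [Submodule.disjoint_def]
      intro v hv hv'
      have hker : (⨆ (j) (_ : j ≠ i), rangeOf (e j)) ≤ LinearMap.ker (Matrix.toLin' (e i)) := by
        refine iSup₂_le fun j hj => ?_
        rintro w ⟨u, rfl⟩
        rw [LinearMap.mem_ker, toLin'_mulVec, toLin'_mulVec, Matrix.mulVec_mulVec,
          he.orth i j (Ne.symm hj), Matrix.zero_mulVec]
      have h1 := (mem_rangeOf_idem (he.idem i)).mp hv
      have h2 := hker hv'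
      rw [LinearMap.mem_ker, toLin'_mulVec, h1] at h2
      exact h2
    · rw [eq_top_iff]
      intro v _
      have : v = ∑ i, e i *ᵥ v := by rw [← Matrix.sum_mulVec, he.sum_eq, Matrix.one_mulVec]
      rw [this]
      exact Submodule.sum_mem _ fun i _ =>
        Submodule.mem_iSup_of_mem i ⟨v, toLin'_mulVec _ v⟩
  · intro g hg
    obtain ⟨σ, hσ⟩ := hperm g hg
    exact ⟨σ, fun i => by rw [map_rangeOf, hσ]⟩

variable [Finite F] [Nonempty ι]

/-- The algebra spanned by a group normalised by an irreducible group is semisimple. -/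
theorem isSemisimpleRing_spanAlg {H N : Subgroup (GL ι F)} (hirr : ActsIrreducibly (matrixSet H))
    (hnorm : Normalises H N) : IsSemisimpleRing ↥(spanAlg N) := by
  set A := spanAlg N with hA
  haveI : IsArtinianRing ↥A := IsArtinianRing.of_finite F ↥A
  rw [IsArtinianRing.isSemisimpleRing_iff_jacobson]
  set J := Ring.jacobson ↥A with hJ
  have hnil : IsNilpotent J := by
    rw [hJ, ← Ideal.jacobson_bot]
    exact IsArtinianRing.isNilpotent_jacobson_bot
  -- the common kernel of the radical
  let K : Submodule F (ι → F) :=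
    { carrier := {v | ∀ a ∈ J, (a : Matrix ι ι F) *ᵥ v = 0}
      add_mem' := fun hx hy a ha => by rw [Matrix.mulVec_add, hx a ha, hy a ha, add_zero]
      zero_mem' := fun a _ => Matrix.mulVec_zero _
      smul_mem' := fun c x hx a ha => by rw [Matrix.mulVec_smul, hx a ha, smul_zero] }
  have hstable : ∀ g ∈ H, ∀ a ∈ J, ∀ b : ↥A, (b : Matrix ι ι F) = conjM g (a : Matrix ι ι F) → b ∈ J := by
    intro g hg a ha b hb
    let α : ↥A →+* ↥A :=
      { toFun := fun x => ⟨conjM g⁻¹ (x : Matrix ι ι F),
          (conjM_mem_spanAlg_iff hnorm (H.inv_mem hg)).mpr x.2⟩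
        map_one' := Subtype.ext (map_one (conjM g⁻¹))
        map_mul' := fun x y => Subtype.ext (map_mul (conjM g⁻¹) _ _)
        map_zero' := Subtype.ext (map_zero (conjM g⁻¹))
        map_add' := fun x y => Subtype.ext (map_add (conjM g⁻¹) _ _) }
    have hsurj : Function.Surjective α := fun x =>
      ⟨⟨conjM g (x : Matrix ι ι F), (conjM_mem_spanAlg_iff hnorm hg).mpr x.2⟩, Subtype.ext (by
        simp [α, conjM_apply, mul_assoc])⟩
    have hinj : Function.Injective α := fun x y h =>
      Subtype.ext ((conjM g⁻¹).injective (congrArg Subtype.val h))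
    have hcomap : (Ring.jacobson ↥A).comap α = Ring.jacobson ↥A := by
      rw [← Ideal.jacobson_bot, Ideal.comap_jacobson_of_surjective hsurj]
      congr 1
      rw [eq_bot_iff]
      intro x hx
      rw [Ideal.mem_comap, Ideal.mem_bot] at hx
      rw [Ideal.mem_bot]
      exact hinj (hx.trans (map_zero α).symm)
    rw [hJ, ← hcomap, Ideal.mem_comap]
    have : α b = a := Subtype.ext (by simp [α, hb, conjM_apply, mul_assoc])
    rw [this]
    exact ha
  have hKinv : ∀ g ∈ H, ∀ v ∈ K, (g : Matrix ι ι F) *ᵥ v ∈ K := by
    intro g hg v hv a ha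
    have hb := hstable g⁻¹ (H.inv_mem hg) a ha
      ⟨conjM g⁻¹ (a : Matrix ι ι F), (conjM_mem_spanAlg_iff hnorm (H.inv_mem hg)).mpr a.2⟩ rfl
    have h := hv _ hb
    simp only [conjM_apply, inv_inv] at h
    have h' := congrArg (fun u => (g : Matrix ι ι F) *ᵥ u) h
    simpa [Matrix.mulVec_mulVec, ← mul_assoc] using h'
  have hKne : K ≠ ⊥ := by
    obtain ⟨n, hn⟩ := hnil
    intro hK
    have key : ∀ k, ∀ v : ι → F, (∀ a ∈ J ^ k, (a : Matrix ι ι F) *ᵥ v = 0) → v = 0 := by
      intro k
      induction k with
      | zero =>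
        intro v hv
        have := hv 1 (by rw [Submodule.pow_zero, Ideal.one_eq_top]; trivial)
        simpa using this
      | succ k ih =>
        intro v hv
        apply ih
        intro a ha
        have : (a : Matrix ι ι F) *ᵥ v ∈ K := by
          intro b hb
          rw [Matrix.mulVec_mulVec]
          exact hv (b * a) (by
            rcases Nat.eq_zero_or_pos k with rfl | hk
            · rw [Submodule.pow_one]
              haveI : J.IsTwoSided := by rw [hJ]; infer_instance
              exact Ideal.mul_mem_right a J hb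
            · haveI : J.IsTwoSided := by rw [hJ]; infer_instance
              rw [Ideal.IsTwoSided.pow_succ]
              exact Ideal.mul_mem_mul hb ha)
        rw [hK] at this
        exact this
    obtain ⟨v, hv⟩ := exists_ne (0 : ι → F)
    exact hv (key n v (fun a ha => by
      rw [hn, Ideal.zero_eq_bot, Ideal.mem_bot] at ha
      simp [ha]))
  rcases (actsIrreducibly_iff.mp hirr) K hKinv with h | h
  · exact absurd h hKne
  · rw [eq_bot_iff]
    intro a ha
    rw [Ideal.mem_bot]
    apply Subtype.ext
    apply Matrix.toLin'.injective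
    refine LinearMap.ext fun v => ?_
    have hv : v ∈ K := by rw [h]; trivial
    simpa [toLin'_mulVec] using hv a ha

/-- The trichotomy for a group normalised by an irreducible group. -/
theorem spanAlg_trichotomy {H N : Subgroup (GL ι F)} (hirr : ActsIrreducibly (matrixSet H))
    (hnorm : Normalises H N) :
    (∃ (t : ℕ) (e : Fin t → Matrix ι ι F), 2 ≤ t ∧ IsCentralSplit (spanAlg N) e) ∨
    (∃ r, 2 ≤ r ∧ IsFieldSubalgebra r (centreAlg (spanAlg N))) ∨
    (∃ (d : ℕ) (φ : Matrix (Fin d) (Fin d) F →ₐ[F] Matrix ι ι F),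
      0 < d ∧ Function.Injective φ ∧ φ.range = spanAlg N) := by
  classical
  haveI : IsSemisimpleRing ↥(spanAlg N) := isSemisimpleRing_spanAlg hirr hnorm
  obtain ⟨k, D, d, iD, iA, iF, hd, ⟨Φ⟩⟩ :=
    IsSemisimpleRing.exists_algEquiv_pi_matrix_divisionRing_finite F ↥(spanAlg N)
  set A := spanAlg N with hA
  rcases Nat.lt_or_ge k 2 with hk | hk
  swap
  · left
    refine ⟨k, fun i => ((Φ.symm (Pi.single i 1) : ↥A) : Matrix ι ι F), hk, ?_⟩
    refine ⟨fun i => (Φ.symm _).2, ?_, ?_, ?_, ?_, ?_, ?_⟩
    · intro i a ha
      have : Φ.symm (Pi.single i 1) * (⟨a, ha⟩ : ↥A) = ⟨a, ha⟩ * Φ.symm (Pi.single i 1) := by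
        apply Φ.injective
        rw [map_mul, map_mul, Φ.apply_symm_apply]
        funext j
        rcases eq_or_ne j i with rfl | hj
        · simp
        · simp [Pi.single_eq_of_ne hj]
      exact congrArg Subtype.val this
    · intro i
      rw [← Subalgebra.coe_mul, ← map_mul]
      congr 2
      funext j
      rcases eq_or_ne j i with rfl | hj
      · simp
      · simp [Pi.single_eq_of_ne hj]
    · intro i j hij
      rw [← Subalgebra.coe_mul, ← map_mul]
      have : (Pi.single i 1 : Π l, Matrix (Fin (d l)) (Fin (d l)) (D l)) * Pi.single j 1 = 0 := by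
        funext l
        rcases eq_or_ne l i with rfl | hl
        · simp [Pi.single_eq_of_ne hij]
        · simp [Pi.single_eq_of_ne hl]
      rw [this, map_zero]
      rfl
    · rw [← AddSubmonoidClass.coe_finsetSum, ← map_sum, Finset.univ_sum_single]
      exact congrArg Subtype.val (map_one Φ.symm)
    · intro i h
      have h' : Φ.symm (Pi.single i 1) = 0 := Subtype.ext h
      rw [EmbeddingLike.map_eq_zero_iff, Pi.single_eq_zero_iff] at h'
      haveI := hd i
      exact one_ne_zero h'
    · intro c hc hcc hci i
      set x := Φ ⟨c, hc⟩ with hx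
      have hcen : ∀ a, x * a = a * x := by
        intro a
        obtain ⟨b, rfl⟩ := Φ.surjective a
        rw [hx, ← map_mul, ← map_mul]
        congr 1
        exact Subtype.ext (hcc _ b.2)
      have hxi : x * x = x := by
        rw [hx, ← map_mul]
        congr 1
        exact Subtype.ext hci
      have hcomp : x i = 0 ∨ x i = 1 := by
        refine isIdem_central_matrix (fun a => ?_) (congrFun hxi i)
        have := congrFun (hcen (Pi.single i a)) i
        simpa using this
      have hval : ∀ y, x * Pi.single i 1 = y →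
          c * ((Φ.symm (Pi.single i 1) : ↥A) : Matrix ι ι F) = ((Φ.symm y : ↥A) : Matrix ι ι F) := by
        intro y hy
        rw [← hy, map_mul, hx, Φ.symm_apply_apply]
        rfl
      rcases hcomp with h | h
      · left
        rw [hval 0 (by
          funext l
          rcases eq_or_ne l i with rfl | hl
          · simp [h]
          · simp [Pi.single_eq_of_ne hl])]
        simp
      · right
        exact hval _ (by
          funext l
          rcases eq_or_ne l i with rfl | hl
          · simp [h]
          · simp [Pi.single_eq_of_ne hl])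
  · right
    have hk1 : k = 1 := by
      by_contra hk1
      have hk0 : k = 0 := by omega
      subst hk0
      have : (1 : ↥A) = 0 := Φ.injective (Subsingleton.elim _ _)
      exact one_ne_zero (congrArg Subtype.val this : (1 : Matrix ι ι F) = 0)
    subst hk1
    haveI : NeZero (d 0) := hd 0
    let ev := Pi.evalAlgHom F (fun i => Matrix (Fin (d i)) (Fin (d i)) (D i)) 0
    have hev : Function.Bijective ev := by
      refine ⟨fun x y h => ?_, fun x => ⟨Pi.single 0 x, by simp [ev]⟩⟩
      funext i
      rw [Fin.fin_one_eq_zero i]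
      exact h
    let Ψ : ↥A ≃ₐ[F] Matrix (Fin (d 0)) (Fin (d 0)) (D 0) := Φ.trans (AlgEquiv.ofBijective ev hev)
    haveI : Finite (D 0) := Module.finite_of_finite F
    have hcomm : ∀ a b : D 0, a * b = b * a := fun a b => (littleWedderburn (D 0)).mul_comm a b
    have hcen : ∀ z : Matrix ι ι F, z ∈ centreAlg A ↔
        ∃ r : D 0, z = ((Ψ.symm (Matrix.scalar _ r) : ↥A) : Matrix ι ι F) := by
      intro z
      rw [mem_centreAlg]
      constructor
      · rintro ⟨hz, hzc⟩
        obtain ⟨r, hr⟩ := Matrix.mem_range_scalar_of_commute_single (M := Ψ ⟨z, hz⟩) (fun i j _ => by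
          obtain ⟨b, hb⟩ := Ψ.surjective (Matrix.single i j 1)
          show _ * _ = _ * _
          rw [← hb, ← map_mul, ← map_mul]
          congr 1
          exact Subtype.ext (hzc _ b.2).symm)
        exact ⟨r, by rw [hr, Ψ.symm_apply_apply]⟩
      · rintro ⟨r, rfl⟩
        refine ⟨(Ψ.symm _).2, fun a ha => ?_⟩
        have : Ψ.symm (Matrix.scalar _ r) * ⟨a, ha⟩ = ⟨a, ha⟩ * Ψ.symm (Matrix.scalar _ r) := by
          apply Ψ.injective
          rw [map_mul, map_mul, Ψ.apply_symm_apply]
          exact Matrix.scalar_commute r (fun r' => hcomm r r') _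
        exact congrArg Subtype.val this
    rcases Nat.lt_or_ge (Module.finrank F (D 0)) 2 with hD | hD
    swap
    · left
      refine ⟨Module.finrank F (D 0), hD, ?_, ?_, ?_⟩
      · intro x hx y hy
        exact ((mem_centreAlg.mp hx).2 y (mem_centreAlg.mp hy).1)
      · intro x hx hx0
        obtain ⟨r, rfl⟩ := (hcen x).mp hx
        have hr : r ≠ 0 := by
          rintro rfl
          simp at hx0
        refine ⟨_, (hcen _).mpr ⟨r⁻¹, rfl⟩, ?_⟩
        rw [← Subalgebra.coe_mul, ← map_mul, ← map_mul, mul_inv_cancel₀ hr, map_one, map_one]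
        rfl
      · let ψ : D 0 →ₗ[F] Matrix ι ι F :=
          { toFun := fun r => ((Ψ.symm (Matrix.scalar _ r) : ↥A) : Matrix ι ι F)
            map_add' := fun r s => by rw [map_add, map_add]; rfl
            map_smul' := fun c r => by
              rw [RingHom.id_apply, ← Subalgebra.coe_smul, ← map_smul]
              congr 2
              ext a b
              rcases eq_or_ne a b with rfl | hab
              · simp
              · simp [Matrix.diagonal_apply_ne _ hab] }
        have hψ : Function.Injective ψ := fun r s h =>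
          Matrix.scalar_inj.mp (Ψ.symm.injective (Subtype.ext h))
        have hrange : (centreAlg A).toSubmodule = LinearMap.range ψ := by
          ext z
          rw [Subalgebra.mem_toSubmodule, hcen z, LinearMap.mem_range]
          exact exists_congr fun r => eq_comm
        rw [← Subalgebra.finrank_toSubmodule, hrange]
        exact LinearMap.finrank_range_of_inj hψ
    · right
      have hD1 : Module.finrank F (D 0) = 1 := by
        have := Module.finrank_pos (R := F) (M := D 0)
        omega
      have hofId : Function.Bijective (Algebra.ofId F (D 0)) := by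
        refine ⟨(algebraMap F (D 0)).injective, fun x => ?_⟩
        obtain ⟨c, hc⟩ := (finrank_eq_one_iff_of_nonzero' (1 : D 0) one_ne_zero).mp hD1 x
        exact ⟨c, by rw [Algebra.ofId_apply, Algebra.algebraMap_eq_smul_one, hc]⟩
      let χ : Matrix (Fin (d 0)) (Fin (d 0)) F ≃ₐ[F] ↥A :=
        ((AlgEquiv.ofBijective _ hofId).mapMatrix).trans Ψ.symm
      refine ⟨d 0, A.val.comp χ.toAlgHom, Nat.pos_of_neZero _, ?_, ?_⟩
      · exact Subtype.val_injective.comp χ.injective
      · ext z
        simp only [AlgHom.mem_range, AlgHom.comp_apply]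
        constructor
        · rintro ⟨a, rfl⟩
          exact (χ a).2
        · intro hz
          exact ⟨χ.symm ⟨z, hz⟩, by simp⟩

end Cfsg.Agent.Lib.Aschbacher
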