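/-
A minimal non-scalar normal subgroup that is absolutely irreducible and has scalar commutators is a group of
symplectic type of exponent `r * gcd(2, r)`.
-/
import Cfsg.Agent.Lib.Aschbacher.Basic

set_option autoImplicit false

namespace Cfsg.Agent.Lib.Aschbacher

open Cfsg Cfsg.Geo Matrix

variable {ι : Type} [Fintype ι] [DecidableEq ι] {F : Type*} [Field F]

/-- Absolutely irreducible groups of symplectic type, as they occur in Aschbacher's theorem. -/
structure IsSymplecticCore (r : ℕ) (R : Subgroup (GL ι F)) : Prop where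
  type : IsSymplecticTypeGroup r R
  absIrred : ActsAbsolutelyIrreducibly (matrixSet R)
  span_top : spanAlg R = ⊤
  ne_char : (r : F) ≠ 0
  comm_scalar : ∀ x ∈ R, ∀ y ∈ R, x * y * x⁻¹ * y⁻¹ ∈ scalars ι F
  center_iff : ∀ x : R, x ∈ Subgroup.center R ↔ (x : GL ι F) ∈ scalars ι F
  center_cases : (Odd r ∧ Nat.card (Subgroup.center R) = r) ∨
    (r = 2 ∧ (Nat.card (Subgroup.center R) = 2 ∨ Nat.card (Subgroup.center R) = 4))
  card_cases : ∃ m, 1 ≤ m ∧ Fintype.card ι = r ^ m ∧
    Nat.card R = Nat.card (Subgroup.center R) * r ^ (2 * m)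

lemma mul_pow_of_commutator_central {G : Type*} [Group G] {x y c : G} (h : y * x = c * (x * y))
    (hc : ∀ z, c * z = z * c) (k : ℕ) : (x * y) ^ k = c ^ (k.choose 2) * (x ^ k * y ^ k) := by
  have hck : ∀ (i : ℕ) (z : G), c ^ i * z = z * c ^ i := fun i z => Commute.pow_left (hc z) i
  have hyk : ∀ j : ℕ, y ^ j * x = c ^ j * (x * y ^ j) := by
    intro j
    induction j with
    | zero => simp
    | succ j ih =>
      calc y ^ (j + 1) * x = y ^ j * (y * x) := by rw [pow_succ, mul_assoc]
        _ = y ^ j * (c * (x * y)) := by rw [h]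
        _ = c * (y ^ j * x * y) := by rw [← mul_assoc, ← hc, mul_assoc, mul_assoc]
        _ = c * (c ^ j * (x * y ^ j) * y) := by rw [ih]
        _ = c ^ (j + 1) * (x * y ^ (j + 1)) := by rw [pow_succ', pow_succ]; simp only [mul_assoc]
  induction k with
  | zero => simp
  | succ k ih =>
    rw [pow_succ, ih, Nat.choose_succ_succ, Nat.choose_one_right, add_comm, pow_add]
    calc c ^ k.choose 2 * (x ^ k * y ^ k) * (x * y)
        = c ^ k.choose 2 * (x ^ k * (y ^ k * x) * y) := by simp only [mul_assoc]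
      _ = c ^ k.choose 2 * (x ^ k * (c ^ k * (x * y ^ k)) * y) := by rw [hyk]
      _ = c ^ k.choose 2 * ((x ^ k * c ^ k) * (x * y ^ k) * y) := by simp only [mul_assoc]
      _ = c ^ k.choose 2 * ((c ^ k * x ^ k) * (x * y ^ k) * y) := by rw [← hck]
      _ = c ^ k.choose 2 * c ^ k * (x ^ (k + 1) * y ^ (k + 1)) := by
        rw [pow_succ, pow_succ]; simp only [mul_assoc]

/-- Conjugation by an element of `H` as an automorphism of a normalised subgroup. -/
def normAut {H N : Subgroup (GL ι F)} (hnorm : Normalises H N) {h : GL ι F} (hh : h ∈ H) : N ≃* N where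
  toFun x := ⟨h * x * h⁻¹, hnorm h hh x x.2⟩
  invFun x := ⟨h⁻¹ * x * h, by simpa using hnorm h⁻¹ (H.inv_mem hh) x x.2⟩
  left_inv x := by ext : 1; simp [mul_assoc]
  right_inv x := by ext : 1; simp [mul_assoc]
  map_mul' x y := by ext : 1; simp [mul_assoc]

lemma normalises_map_of_characteristic {H N : Subgroup (GL ι F)} (hnorm : Normalises H N)
    (A : Subgroup N) [hA : A.Characteristic] : Normalises H (A.map N.subtype) := by
  rintro h hh _ ⟨a, ha, rfl⟩
  refine ⟨normAut hnorm hh a, ?_, rfl⟩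
  exact (Subgroup.characteristic_iff_map_eq.mp hA (normAut hnorm hh)).le ⟨a, ha, rfl⟩

variable [Finite F]

/-- The minimal normal subgroup with scalar commutators is of symplectic type. -/
theorem isSymplecticCore_of_minimal {H N : Subgroup (GL ι F)} [Nonempty ι]
    (hnorm : Normalises H N) (hns : ¬ N ≤ scalars ι F)
    (hmin : ∀ K : Subgroup (GL ι F), K ≤ N → Normalises H K → K ≤ scalars ι F ∨ K = N)
    (habs : ActsAbsolutelyIrreducibly (matrixSet N)) (hfull : spanAlg N = ⊤)
    (hder : ∀ x ∈ N, ∀ y ∈ N, x * y * x⁻¹ * y⁻¹ ∈ scalars ι F) :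
    ∃ r, IsSymplecticCore r N := by
  classical
  set S := scalars ι F with hS
  have : S.Normal := scalars_normal
  set Z := S.subgroupOf N with hZ
  have hZn : Z.Normal := inferInstanceAs (S.subgroupOf N).Normal
  have hcenter : Subgroup.center N = Z := by
    ext x
    rw [Subgroup.mem_center_iff, Subgroup.mem_subgroupOf]
    constructor
    · intro hx
      exact centralizer_scalar habs fun y hy => (congrArg Subtype.val (hx ⟨y, hy⟩)).symm
    · intro hx y
      exact Subtype.ext (scalars_commute hx y).symm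
  have habne : ¬ ∀ x ∈ N, ∀ y ∈ N, x * y = y * x := fun h =>
    hns fun x hx => centralizer_scalar habs (fun y hy => h x hx y hy)
  have hcommQ : ∀ a b : N ⧸ Z, a * b = b * a := by
    intro a b
    obtain ⟨x, rfl⟩ := QuotientGroup.mk_surjective a
    obtain ⟨y, rfl⟩ := QuotientGroup.mk_surjective b
    rw [← QuotientGroup.mk_mul, ← QuotientGroup.mk_mul, QuotientGroup.eq, Subgroup.mem_subgroupOf]
    have := hder (y : GL ι F)⁻¹ (N.inv_mem y.2) (x : GL ι F)⁻¹ (N.inv_mem x.2)
    simpa [mul_assoc] using this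
  letI : CommGroup (N ⧸ Z) := { (inferInstance : Group (N ⧸ Z)) with mul_comm := hcommQ }
  have : Group.IsNilpotent N :=
    Subgroup.isNilpotent_of_ker_le_center (QuotientGroup.mk' Z)
      (by rw [QuotientGroup.ker_mk', hcenter])
  have hQne : Nat.card (N ⧸ Z) ≠ 1 := by
    intro h
    apply hns
    have htop : Z = ⊤ := Subgroup.index_eq_one.mp h
    intro x hx
    have : (⟨x, hx⟩ : N) ∈ Z := by rw [htop]; trivial
    exact this
  obtain ⟨r, hr, hrdvd⟩ := Nat.exists_prime_and_dvd hQne
  have : Fact r.Prime := ⟨hr⟩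
  -- N is an r-group
  obtain ⟨P⟩ := (inferInstance : Nonempty (Sylow r N))
  have hPn : (P : Subgroup N).Normal :=
    ((Group.isNilpotent_of_finite_tfae (G := N)).out 0 3 rfl rfl).mp ‹Group.IsNilpotent N› r ⟨hr⟩ P
  have : (P : Subgroup N).Characteristic := Sylow.characteristic_of_normal P hPn
  have hPtop : (P : Subgroup N) = ⊤ := by
    rcases hmin _ (Subgroup.map_subtype_le _) (normalises_map_of_characteristic hnorm (P : Subgroup N))
      with h | h
    · exfalso
      have hPZ : (P : Subgroup N) ≤ Z := fun x hx => h ⟨x, hx, rfl⟩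
      exact P.not_dvd_index (hrdvd.trans (Subgroup.index_dvd_of_le hPZ))
    · rw [eq_top_iff]
      intro x _
      have hx : (x : GL ι F) ∈ (P : Subgroup N).map N.subtype := by rw [h]; exact x.2
      obtain ⟨y, hy, hyx⟩ := hx
      exact Subtype.ext hyx ▸ hy
  have hp : IsPGroup r N := by
    have := P.2
    rw [hPtop] at this
    exact this.of_equiv Subgroup.topEquiv
  -- scalar commutators have order dividing r
  have hscal : ∀ x ∈ N, ∀ y ∈ N, y * x * y⁻¹ * x⁻¹ ∈ S := fun x hx y hy => hder y hy x hx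
  have hyx : ∀ x y : GL ι F, y * x = y * x * y⁻¹ * x⁻¹ * (x * y) := fun x y => by
    simp [mul_assoc]
  -- existence of an element outside the scalars with r-th power in the scalars
  have hex : ∃ x ∈ N, x ∉ S ∧ x ^ r ∈ S := by
    obtain ⟨x, hx, hxs⟩ := SetLike.not_le_iff_exists.mp hns
    have hk : ∃ j, x ^ (r ^ j) ∈ S := by
      obtain ⟨j, hj⟩ := hp ⟨x, hx⟩
      exact ⟨j, by
        have : x ^ (r ^ j) = 1 := congrArg Subtype.val hj
        rw [this]; exact S.one_mem⟩
    obtain ⟨j, hj, hjmin⟩ : ∃ j, x ^ (r ^ j) ∈ S ∧ ∀ i < j, x ^ (r ^ i) ∉ S :=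
      ⟨Nat.find hk, Nat.find_spec hk, fun i hi => Nat.find_min hk hi⟩
    rcases j with - | j
    · simp at hj; exact absurd hj hxs
    · exact ⟨x ^ (r ^ j), N.pow_mem hx _, hjmin j (Nat.lt_succ_self j), by
        rw [← pow_mul, ← pow_succ]; exact hj⟩
  let T : Subgroup (GL ι F) :=
    { carrier := {x | x ∈ N ∧ x ^ r ∈ S}
      one_mem' := ⟨N.one_mem, by rw [one_pow]; exact S.one_mem⟩
      inv_mem' := fun hx => ⟨N.inv_mem hx.1, by rw [inv_pow]; exact S.inv_mem hx.2⟩
      mul_mem' := fun {x y} hx hy => ⟨N.mul_mem hx.1 hy.1, by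
        rw [mul_pow_of_commutator_central (hyx x y) (scalars_commute (hscal x hx.1 y hy.1))]
        exact S.mul_mem (S.pow_mem (hscal x hx.1 y hy.1) _) (S.mul_mem hx.2 hy.2)⟩ }
  have hT : T = N := by
    rcases hmin T (fun x hx => hx.1) (fun h hh x hx => ⟨hnorm h hh x hx.1, by
        rw [conj_pow]; exact Subgroup.Normal.conj_mem inferInstance _ hx.2 h⟩) with h | h
    · obtain ⟨x, hx, hxs, hxr⟩ := hex
      exact absurd (h ⟨hx, hxr⟩) hxs
    · exact h
  have hpowS : ∀ x ∈ N, x ^ r ∈ S := fun x hx => (hT.symm ▸ hx : x ∈ T).2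
  have hcr : ∀ x ∈ N, ∀ y ∈ N, (y * x * y⁻¹ * x⁻¹) ^ r = 1 := by
    intro x hx y hy
    set c := y * x * y⁻¹ * x⁻¹ with hc
    have h1 : y * x * y⁻¹ = c * x := by rw [hc]; simp [mul_assoc]
    have h2 : (c * x) ^ r = c ^ r * x ^ r :=
      (show Commute c x from scalars_commute (hscal x hx y hy) x).mul_pow r
    have h3 : (y * x * y⁻¹) ^ r = x ^ r := by
      rw [conj_pow, ← scalars_commute (hpowS x hx) y, mul_inv_cancel_right]
    rw [h1, h2] at h3
    exact mul_eq_right.mp h3
  set k := r * Nat.gcd 2 r with hk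
  have hrk : r ∣ k.choose 2 := by
    rcases hr.eq_two_or_odd with h | h
    · subst h; decide
    · have h2 : Nat.gcd 2 r = 1 := by
        rw [Nat.coprime_primes Nat.prime_two hr |> fun h => h.mpr (by omega)]
      rw [hk, h2, mul_one]
      exact hr.dvd_choose_self (by omega) (by have := hr.two_le; omega)
  let K : Subgroup (GL ι F) :=
    { carrier := {x | x ∈ N ∧ x ^ k = 1}
      one_mem' := ⟨N.one_mem, one_pow k⟩
      inv_mem' := fun hx => ⟨N.inv_mem hx.1, by rw [inv_pow, hx.2, inv_one]⟩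
      mul_mem' := fun {x y} hx hy => ⟨N.mul_mem hx.1 hy.1, by
        rw [mul_pow_of_commutator_central (hyx x y) (scalars_commute (hscal x hx.1 y hy.1)), hx.2, hy.2,
          one_mul, mul_one]
        obtain ⟨j, hj⟩ := hrk
        rw [hj, pow_mul, hcr x hx.1 y hy.1, one_pow]⟩ }
  have hScyc : IsCyclic S := by
    rw [hS, scalars]
    exact isCyclic_of_surjective _ (MonoidHom.rangeRestrict_surjective _)
  have hK : K = N := by
    rcases hmin K (fun x hx => hx.1) (fun h hh x hx => ⟨hnorm h hh x hx.1, by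
        rw [conj_pow, hx.2, mul_one, mul_inv_cancel]⟩) with h | h
    swap
    · exact h
    · exfalso
      let ψ : N →* GL ι F :=
        { toFun := fun x => (x : GL ι F) ^ k
          map_one' := one_pow k
          map_mul' := fun x y => by
            show ((x : GL ι F) * y) ^ k = _
            rw [mul_pow_of_commutator_central (hyx (x : GL ι F) y)
              (scalars_commute (hscal _ x.2 _ y.2))]
            obtain ⟨j, hj⟩ := hrk
            rw [hj, pow_mul, hcr _ x.2 _ y.2, one_pow, one_mul] }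
      have hψS : ψ.range ≤ S := by
        rintro _ ⟨x, rfl⟩
        show (x : GL ι F) ^ k ∈ S
        rw [hk, pow_mul]
        exact S.pow_mem (hpowS _ x.2) _
      haveI : IsCyclic ψ.range :=
        isCyclic_of_injective (Subgroup.inclusion hψS) (Subgroup.inclusion_injective hψS)
      obtain ⟨⟨_, a, rfl⟩, ha⟩ := IsCyclic.exists_generator (α := ψ.range)
      apply habne
      have key : ∀ x : N, ∃ (j : ℤ) (z : GL ι F), z ∈ S ∧ (x : GL ι F) = z * (a : GL ι F) ^ j := by
        intro x
        obtain ⟨j, hj⟩ := ha ⟨ψ x, x, rfl⟩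
        refine ⟨j, (x : GL ι F) * ((a : GL ι F) ^ j)⁻¹, ?_, by simp⟩
        have hj' : ψ (a ^ j) = ψ x := by
          rw [map_zpow]
          exact congrArg Subtype.val hj
        have h1 : ψ (x * (a ^ j)⁻¹) = 1 := by rw [map_mul, map_inv, hj', mul_inv_cancel]
        have h2 : ((x * (a ^ j)⁻¹ : N) : GL ι F) ∈ K := ⟨(x * (a ^ j)⁻¹ : N).2, h1⟩
        have h3 := h h2
        simpa using h3
      intro x hx y hy
      obtain ⟨i, z, hz, hxz⟩ := key ⟨x, hx⟩
      obtain ⟨j, w, hw, hyw⟩ := key ⟨y, hy⟩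
      simp only at hxz hyw
      rw [hxz, hyw]
      calc z * (a : GL ι F) ^ i * (w * (a : GL ι F) ^ j)
          = z * w * ((a : GL ι F) ^ i * (a : GL ι F) ^ j) := by
            rw [mul_assoc, mul_assoc, ← mul_assoc _ w, ← scalars_commute hw, mul_assoc]
        _ = w * z * ((a : GL ι F) ^ j * (a : GL ι F) ^ i) := by
            rw [scalars_commute hz w, ← _root_.zpow_add, ← _root_.zpow_add, add_comm]
        _ = w * (a : GL ι F) ^ j * (z * (a : GL ι F) ^ i) := by
            rw [mul_assoc w z, mul_assoc w, ← mul_assoc z, scalars_commute hz, mul_assoc]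
  have hexp_dvd : Monoid.exponent N ∣ k := Monoid.exponent_dvd_of_forall_pow_eq_one fun x =>
    Subtype.ext (by
      have : (x : GL ι F) ∈ K := by rw [hK]; exact x.2
      exact this.2)
  -- a non-trivial commutator
  obtain ⟨x₀, hx₀, y₀, hy₀, hxy₀⟩ : ∃ x ∈ N, ∃ y ∈ N, x * y ≠ y * x := by
    push Not at habne
    exact habne
  have hc₀ : y₀ * x₀ * y₀⁻¹ * x₀⁻¹ ≠ 1 := fun h => hxy₀ (by
    have := hyx x₀ y₀
    rw [h, one_mul] at this
    exact this.symm)
  have hc₀mem : y₀ * x₀ * y₀⁻¹ * x₀⁻¹ ∈ N :=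
    N.mul_mem (N.mul_mem (N.mul_mem hy₀ hx₀) (N.inv_mem hy₀)) (N.inv_mem hx₀)
  have hexp_ne : Monoid.exponent N ≠ 1 := by
    intro h
    have h1 := Monoid.pow_exponent_eq_one (⟨y₀ * x₀ * y₀⁻¹ * x₀⁻¹, hc₀mem⟩ : N)
    rw [h, pow_one] at h1
    exact hc₀ (congrArg Subtype.val h1)
  have hodd_gcd : r ≠ 2 → Nat.gcd 2 r = 1 := fun h => (Nat.coprime_primes Nat.prime_two hr).mpr (Ne.symm h)
  have hexp : Monoid.exponent N = r * Nat.gcd 2 r := by
    rcases eq_or_ne r 2 with h2 | h2
    · subst h2
      have hk4 : k = 4 := by rw [hk]; rfl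
      rw [hk4] at hexp_dvd
      show Monoid.exponent N = 4
      obtain ⟨i, hi, hi'⟩ := (Nat.dvd_prime_pow Nat.prime_two (m := 2)).mp hexp_dvd
      have hcases : Monoid.exponent N = 2 ∨ Monoid.exponent N = 4 := by
        interval_cases i
        · exact absurd hi' hexp_ne
        · exact Or.inl hi'
        · exact Or.inr hi'
      rcases hcases with h | h
      · exfalso
        apply habne
        intro x hx y hy
        have := mul_comm_of_exponent_two h (⟨x, hx⟩ : N) ⟨y, hy⟩
        exact congrArg Subtype.val this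
      · exact h
    · rw [hk, hodd_gcd h2, mul_one] at hexp_dvd
      rw [hodd_gcd h2, mul_one]
      exact ((Nat.dvd_prime hr).mp hexp_dvd).resolve_left hexp_ne
  -- the centre
  have hZcyc : IsCyclic Z :=
    isCyclic_of_injective
      ({ toFun := fun z => (⟨((z : N) : GL ι F), z.2⟩ : S)
         map_one' := rfl
         map_mul' := fun _ _ => rfl } : Z →* S)
      (fun a b h => Subtype.ext (Subtype.ext (congrArg (fun s : S => (s : GL ι F)) h)))
  have hZdvd : Nat.card Z ∣ k := by
    rw [← IsCyclic.exponent_eq_card]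
    exact (Monoid.exponent_submonoid_dvd Z.toSubmonoid).trans hexp_dvd
  have hZne : Nat.card Z ≠ 1 := by
    intro h
    apply hc₀
    rw [Subgroup.card_eq_one, Subgroup.eq_bot_iff_forall] at h
    exact congrArg Subtype.val (h ⟨_, hc₀mem⟩ (hscal x₀ hx₀ y₀ hy₀))
  have hcases : (Odd r ∧ Nat.card (Subgroup.center N) = r) ∨
      (r = 2 ∧ (Nat.card (Subgroup.center N) = 2 ∨ Nat.card (Subgroup.center N) = 4)) := by
    rw [hcenter]
    rcases eq_or_ne r 2 with h2 | h2
    · right
      subst h2
      refine ⟨rfl, ?_⟩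
      rw [show k = 4 by rw [hk]; rfl] at hZdvd
      obtain ⟨i, hi, hi'⟩ := (Nat.dvd_prime_pow Nat.prime_two (m := 2)).mp hZdvd
      interval_cases i
      · exact absurd hi' hZne
      · exact Or.inl hi'
      · exact Or.inr hi'
    · left
      refine ⟨hr.odd_of_ne_two h2, ?_⟩
      rw [hk, hodd_gcd h2, mul_one] at hZdvd
      exact ((Nat.dvd_prime hr).mp hZdvd).resolve_left hZne
  -- the characteristic
  have hchar : (r : F) ≠ 0 := by
    intro h0
    obtain ⟨p, hpc⟩ := CharP.exists F
    have hdvd := (CharP.cast_eq_zero_iff F p r).mp h0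
    have : Fact p.Prime := ⟨CharP.char_is_prime F p⟩
    rw [Nat.prime_dvd_prime_iff_eq (CharP.char_is_prime F p) hr] at hdvd
    subst hdvd
    apply hc₀
    obtain ⟨c, hc⟩ := (mem_scalars_iff _).mp (hscal x₀ hx₀ y₀ hy₀)
    have hpow : ((c : F) • (1 : Matrix ι ι F)) ^ p = 1 := by
      rw [← hc, ← Units.val_pow_eq_pow_val, hcr x₀ hx₀ y₀ hy₀, Units.val_one]
    rw [smul_pow, one_pow] at hpow
    have hcp : (c : F) ^ p = 1 := by
      have := congrFun (congrFun hpow (Classical.arbitrary ι)) (Classical.arbitrary ι)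
      simpa using this
    have hc1 : (c : F) = 1 := frobenius_inj F p (by simp [frobenius_def, hcp])
    apply Units.ext
    rw [hc, hc1, one_smul, Units.val_one]
  -- the index of the centre is the square of the dimension
  have hχ : ∀ (y : N) (q : N ⧸ Z), ∃ c : F,
      conjM (y : GL ι F) (((q.out : N) : GL ι F) : Matrix ι ι F) = c • (((q.out : N) : GL ι F) : Matrix ι ι F) := by
    intro y q
    obtain ⟨c, hc⟩ := (mem_scalars_iff _).mp (hscal _ q.out.2 _ y.2)
    refine ⟨c, ?_⟩
    rw [conjM_coe]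
    have : (y : GL ι F) * (q.out : N) * (y : GL ι F)⁻¹ =
        ((y : GL ι F) * (q.out : N) * (y : GL ι F)⁻¹ * ((q.out : N) : GL ι F)⁻¹) * (q.out : N) := by
      rw [inv_mul_cancel_right]
    rw [this, Units.val_mul, hc, Matrix.smul_mul, one_mul]
  choose χ hχ using hχ
  have hsep : ∀ p q : N ⧸ Z, p ≠ q → ∃ y : N, χ y p ≠ χ y q := by
    intro p q hpq
    by_contra hcon
    push Not at hcon
    apply hpq
    rw [← QuotientGroup.out_eq' p, ← QuotientGroup.out_eq' q, QuotientGroup.eq]
    refine hcenter.le ?_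
    rw [Subgroup.mem_center_iff]
    intro y
    have h1 := hχ y p
    have h2 := hχ y q
    rw [hcon y] at h1
    have hne : χ y q ≠ 0 := by
      intro h
      rw [h, zero_smul] at h2
      exact (((y : GL ι F) * (q.out : N) * (y : GL ι F)⁻¹).isUnit.ne_zero) (by rw [← conjM_coe]; exact h2)
    have h3 : conjM (y : GL ι F)
        (((p.out : N) : GL ι F)⁻¹ * ((q.out : N) : GL ι F) : GL ι F).val =
        (((p.out : N) : GL ι F)⁻¹ * ((q.out : N) : GL ι F) : GL ι F).val := by
      have hinv : conjM (y : GL ι F) ((((p.out : N) : GL ι F)⁻¹ : GL ι F) : Matrix ι ι F) =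
          (χ y q)⁻¹ • ((((p.out : N) : GL ι F)⁻¹ : GL ι F) : Matrix ι ι F) := by
        have hm := congrArg (fun X => X * conjM (y : GL ι F)
          ((((p.out : N) : GL ι F)⁻¹ : GL ι F) : Matrix ι ι F)) h1
        simp only [← map_mul, Units.mul_inv, map_one, Matrix.smul_mul] at hm
        have hm2 := congrArg (fun X => (χ y q)⁻¹ • (((((p.out : N) : GL ι F)⁻¹ : GL ι F) : Matrix ι ι F) * X)) hm
        simp only [mul_one, Matrix.mul_smul, ← mul_assoc, Units.inv_mul, one_mul, smul_smul,
          inv_mul_cancel₀ hne, one_smul] at hm2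
        exact hm2.symm
      rw [Units.val_mul, map_mul, hinv, h2, Matrix.smul_mul, Matrix.mul_smul, smul_smul,
        inv_mul_cancel₀ hne, one_smul]
    rw [conjM_coe] at h3
    have h4 := Units.ext h3
    apply Subtype.ext
    show (y : GL ι F) * ((((p.out : N) : GL ι F))⁻¹ * ((q.out : N) : GL ι F)) = _
    exact mul_inv_eq_iff_eq_mul.mp h4
  let M : N ⧸ Z → Matrix ι ι F := fun q => (((q.out : N) : GL ι F) : Matrix ι ι F)
  have : Fintype (N ⧸ Z) := Fintype.ofFinite _
  have hindep : LinearIndependent F M := by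
    rw [Fintype.linearIndependent_iff]
    suffices ∀ (s : Finset (N ⧸ Z)) (a : N ⧸ Z → F), ∑ q ∈ s, a q • M q = 0 → ∀ q ∈ s, a q = 0 by
      exact fun a ha q => this Finset.univ a ha q (Finset.mem_univ _)
    intro s
    induction s using Finset.strongInduction with
    | H s ih =>
      intro a ha q hq
      by_contra haq
      by_cases hex' : ∃ p ∈ s, p ≠ q ∧ a p ≠ 0
      · obtain ⟨p, hp', hpq, hap⟩ := hex'
        obtain ⟨y, hy⟩ := hsep p q hpq
        have h1 := congrArg (conjM (y : GL ι F)) ha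
        rw [map_sum, map_zero] at h1
        simp only [map_smul, hχ, M] at h1
        have h2 : ∑ l ∈ s.erase p, (a l * (χ y l - χ y p)) • M l = 0 := by
          rw [Finset.sum_erase]
          · simp only [M, mul_sub, sub_smul, Finset.sum_sub_distrib, smul_smul] at h1 ⊢
            rw [h1, zero_sub, neg_eq_zero]
            have : ∑ l ∈ s, (a l * χ y p) • (((l.out : N) : GL ι F) : Matrix ι ι F) = χ y p • ∑ l ∈ s, a l • M l := by
              rw [Finset.smul_sum]
              exact Finset.sum_congr rfl fun l _ => by rw [smul_smul, mul_comm]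
            rw [this, ha, smul_zero]
          · simp
        have h3 := ih (s.erase p) (Finset.erase_ssubset hp') _ h2 q
          (Finset.mem_erase.mpr ⟨Ne.symm hpq, hq⟩)
        rcases mul_eq_zero.mp h3 with h | h
        · exact haq h
        · exact hy (sub_eq_zero.mp h).symm
      · push Not at hex'
        rw [Finset.sum_eq_single q (fun p hp' hpq => by rw [hex' p hp' hpq, zero_smul])
          (fun h => absurd hq h)] at ha
        rcases smul_eq_zero.mp ha with h | h
        · exact haq h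
        · exact ((q.out : N) : GL ι F).isUnit.ne_zero h
  have hspan : ⊤ ≤ Submodule.span F (Set.range M) := by
    rw [← Algebra.top_toSubmodule, ← hfull, spanAlg_toSubmodule, Submodule.span_le]
    rintro _ ⟨x, hx, rfl⟩
    obtain ⟨z, hz⟩ := QuotientGroup.mk_out_eq_mul Z ⟨x, hx⟩
    obtain ⟨c, hc⟩ := (mem_scalars_iff ((z : N) : GL ι F)⁻¹).mp (S.inv_mem z.2)
    have hx' : x = ((z : N) : GL ι F)⁻¹ * (((⟨x, hx⟩ : N) : N ⧸ Z).out : N) := by
      rw [hz, Subgroup.coe_mul, scalars_commute (show ((z : N) : GL ι F)⁻¹ ∈ scalars ι F from S.inv_mem z.2), mul_inv_cancel_right]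
    show (x : Matrix ι ι F) ∈ Submodule.span F (Set.range M)
    rw [hx', Units.val_mul, hc, Matrix.smul_mul, one_mul]
    exact Submodule.smul_mem _ _ (Submodule.subset_span ⟨_, rfl⟩)
  have hdim : Fintype.card ι * Fintype.card ι = Nat.card (N ⧸ Z) := by
    have h := Module.finrank_eq_card_basis (Module.Basis.mk hindep hspan)
    rw [Module.finrank_matrix, Module.finrank_self, mul_one] at h
    rw [Nat.card_eq_fintype_card]
    exact h
  obtain ⟨s, hs⟩ := IsPGroup.iff_card.mp (hp.to_quotient Z)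
  obtain ⟨m, -, hm⟩ := (Nat.dvd_prime_pow hr).mp (Dvd.intro (Fintype.card ι) (hdim.trans hs))
  have hm1 : 1 ≤ m := by
    by_contra h
    have h0 : m = 0 := by omega
    rw [h0, pow_zero] at hm
    rw [hm, one_mul] at hdim
    exact hQne hdim.symm
  refine ⟨r, ⟨⟨hr, hp, ?_, hexp⟩, habs, hfull, hchar, hder, ?_, hcases, m, hm1, hm, ?_⟩⟩
  · intro A hA hAc
    have hAZ : A ≤ Z := by
      rcases hmin _ (Subgroup.map_subtype_le _) (normalises_map_of_characteristic hnorm A) with h | h
      · exact fun x hx => h ⟨x, hx, rfl⟩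
      · exfalso
        apply habne
        intro x hx y hy
        obtain ⟨a, ha, rfl⟩ : x ∈ A.map N.subtype := by rw [h]; exact hx
        obtain ⟨b, hb, rfl⟩ : y ∈ A.map N.subtype := by rw [h]; exact hy
        have := hAc.is_comm.comm ⟨a, ha⟩ ⟨b, hb⟩
        exact congrArg (fun z : A => ((z : N) : GL ι F)) this
    exact isCyclic_of_injective (Subgroup.inclusion hAZ) (Subgroup.inclusion_injective hAZ)
  · intro x
    rw [hcenter]
    exact Subgroup.mem_subgroupOf
  · rw [hcenter, two_mul, pow_add, ← hm, hdim, mul_comm]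
    exact Subgroup.card_eq_card_quotient_mul_card_subgroup Z

end Cfsg.Agent.Lib.Aschbacher
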