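/-
Frames for matrix subalgebras isomorphic to full matrix algebras: a homomorphism from a matrix algebra is a
Kronecker embedding after a change of basis, commuting families of such embeddings give tensor decompositions,
and the normalisers are the tensor stabilisers.
-/
import Cfsg.Agent.Lib.Aschbacher.Basic

set_option autoImplicit false

namespace Cfsg.Agent.Lib.Aschbacher

open Cfsg Cfsg.Geo Matrix
open scoped Kronecker

set_option maxHeartbeats 1000000

variable {ι : Type} [Fintype ι] [DecidableEq ι] {F : Type*} [Field F]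
variable {κ : Type} [Fintype κ] [DecidableEq κ]

/-- The matrix algebra on the index set `κ` transported to `ι` along `e` and the change of basis `B`. -/
def framed (e : ι ≃ κ) (B : GL ι F) : Matrix κ κ F ≃ₐ[F] Matrix ι ι F :=
  (Matrix.reindexAlgEquiv F F e.symm).trans (conjM B)

lemma framed_apply (e : ι ≃ κ) (B : GL ι F) (a : Matrix κ κ F) :
    framed e B a = (B : Matrix ι ι F) * a.submatrix e e * ((B⁻¹ : GL ι F) : Matrix ι ι F) := by
  simp [framed, conjM_apply, Matrix.reindex_apply]

lemma mem_map_glReindex_conj {e : ι ≃ κ} {B : GL ι F} {K : Subgroup (GL κ F)} {g : GL ι F} {k : GL κ F}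
    (hk : k ∈ K) (hg : (g : Matrix ι ι F) = framed e B (k : Matrix κ κ F)) :
    g ∈ (K.map (glReindex e.symm).toMonoidHom).map (MulAut.conj B).toMonoidHom := by
  refine ⟨glReindex e.symm k, ⟨k, hk, rfl⟩, ?_⟩
  apply Units.ext
  rw [hg, framed_apply]
  simp [glReindex, Matrix.reindex_apply]

/-- An element of `GL ι` seen in a frame. -/
def inFrame (e : ι ≃ κ) (B : GL ι F) (g : GL ι F) : GL κ F :=
  Units.mapEquiv (framed e B).symm.toMulEquiv g

lemma framed_inFrame (e : ι ≃ κ) (B : GL ι F) (g : GL ι F) :
    framed e B (inFrame e B g : Matrix κ κ F) = (g : Matrix ι ι F) :=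
  (framed e B).apply_symm_apply _

/-- A homomorphism from a matrix algebra is the standard embedding in a suitable frame. -/
theorem exists_frame [Nonempty κ] (φ : Matrix κ κ F →ₐ[F] Matrix ι ι F) :
    ∃ (m : ℕ) (e : ι ≃ κ × Fin m) (B : GL ι F),
      ∀ a, φ a = framed e B (a ⊗ₖ (1 : Matrix (Fin m) (Fin m) F)) := by
  classical
  let x₀ : κ := Classical.arbitrary κ
  let U : Submodule F (ι → F) := LinearMap.range (Matrix.toLin' (φ (Matrix.single x₀ x₀ 1)))
  let w := Module.finBasis F U
  let m := Module.finrank F U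
  let v : κ × Fin m → (ι → F) := fun p => φ (Matrix.single p.1 x₀ 1) *ᵥ (w p.2 : ι → F)
  have hU : ∀ u ∈ U, φ (Matrix.single x₀ x₀ 1) *ᵥ u = u := by
    rintro _ ⟨u, rfl⟩
    rw [toLin'_mulVec, Matrix.mulVec_mulVec, ← map_mul, Matrix.single_mul_single_same, mul_one]
  have hsingle : ∀ (a : κ) (p : κ × Fin m), φ (Matrix.single x₀ a 1) *ᵥ v p =
      if a = p.1 then (w p.2 : ι → F) else 0 := by
    intro a p
    simp only [v, Matrix.mulVec_mulVec, ← map_mul]
    split_ifs with h
    · subst h
      rw [Matrix.single_mul_single_same, mul_one, hU _ (w p.2).2]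
    · rw [Matrix.single_mul_single_of_ne (h := h), map_zero, Matrix.zero_mulVec]
  have hli : LinearIndependent F v := by
    rw [Fintype.linearIndependent_iff]
    intro c hc p
    have h1 : φ (Matrix.single x₀ p.1 1) *ᵥ (∑ q, c q • v q) = 0 := by rw [hc, Matrix.mulVec_zero]
    rw [Matrix.mulVec_sum] at h1
    simp only [Matrix.mulVec_smul, hsingle, smul_ite, smul_zero] at h1
    rw [Fintype.sum_prod_type, Finset.sum_eq_single p.1 (fun b _ hb => by
      simp [Ne.symm hb]) (fun h => absurd (Finset.mem_univ _) h)] at h1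
    simp only [↓reduceIte] at h1
    have h2 : ∑ k, c (p.1, k) • w k = 0 := by
      apply Subtype.ext
      simpa using h1
    exact Fintype.linearIndependent_iff.mp w.linearIndependent _ h2 p.2
  have hspan : ⊤ ≤ Submodule.span F (Set.range v) := by
    intro u _
    have hu : u = ∑ x, φ (Matrix.single x x 1) *ᵥ u := by
      rw [← Matrix.sum_mulVec, ← map_sum, Matrix.sum_single_eq_diagonal]
      simp
    rw [hu]
    refine Submodule.sum_mem _ fun x _ => ?_
    have hz : φ (Matrix.single x₀ x 1) *ᵥ u ∈ U := by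
      refine ⟨φ (Matrix.single x₀ x 1) *ᵥ u, ?_⟩
      rw [toLin'_mulVec, Matrix.mulVec_mulVec, ← map_mul, Matrix.single_mul_single_same, mul_one]
    have hx : φ (Matrix.single x x 1) *ᵥ u =
        φ (Matrix.single x x₀ 1) *ᵥ (φ (Matrix.single x₀ x 1) *ᵥ u) := by
      rw [Matrix.mulVec_mulVec, ← map_mul, Matrix.single_mul_single_same, mul_one]
    rw [hx]
    have hsum := w.sum_repr ⟨_, hz⟩
    have hsum' := congrArg Subtype.val hsum
    simp only [AddSubmonoidClass.coe_finsetSum, Submodule.coe_smul] at hsum'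
    rw [← hsum', Matrix.mulVec_sum]
    refine Submodule.sum_mem _ fun k _ => ?_
    rw [Matrix.mulVec_smul]
    exact Submodule.smul_mem _ _ (Submodule.subset_span ⟨(x, k), rfl⟩)
  let bas : Module.Basis (κ × Fin m) F (ι → F) := Module.Basis.mk hli hspan
  let e : ι ≃ κ × Fin m := (Pi.basisFun F ι).indexEquiv bas
  let Bm : Matrix ι ι F := Matrix.of fun i j => v (e j) i
  have hBm : IsUnit Bm := by
    rw [← Matrix.linearIndependent_cols_iff_isUnit]
    exact hli.comp _ e.injective
  obtain ⟨B, hB⟩ := hBm
  refine ⟨m, e, B, fun a => ?_⟩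
  have hav : ∀ p : κ × Fin m, φ a *ᵥ v p = ∑ x, a x p.1 • v (x, p.2) := by
    intro p
    simp only [v, Matrix.mulVec_mulVec, ← map_mul]
    have : a * Matrix.single p.1 x₀ 1 = ∑ x, a x p.1 • Matrix.single x x₀ (1 : F) := by
      ext i j
      rw [Matrix.sum_apply]
      rcases eq_or_ne j x₀ with rfl | hj
      · rw [Matrix.mul_single_apply_same, Finset.sum_eq_single i (fun b _ hb => by
          simp [Matrix.single_apply, hb]) (fun h => absurd (Finset.mem_univ _) h)]
        simp
      · rw [Matrix.mul_single_apply_of_ne _ _ _ _ _ hj, Finset.sum_eq_zero]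
        intro b _
        simp [Matrix.single_apply, Ne.symm hj]
    rw [this, map_sum, Matrix.sum_mulVec]
    exact Finset.sum_congr rfl fun x _ => by rw [map_smul, Matrix.smul_mulVec]
  have key : φ a * (B : Matrix ι ι F) =
      (B : Matrix ι ι F) * (a ⊗ₖ (1 : Matrix (Fin m) (Fin m) F)).submatrix e e := by
    rw [hB]
    ext i j
    have h := congrFun (hav (e j)) i
    rw [Finset.sum_apply] at h
    simp only [Matrix.mul_apply, Pi.smul_apply, smul_eq_mul] at h ⊢
    refine h.trans (Eq.symm ?_)
    rw [← Equiv.sum_comp e.symm, Fintype.sum_prod_type]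
    refine Finset.sum_congr rfl fun x _ => ?_
    rw [Finset.sum_eq_single (e j).2 (fun b _ hb => by simp [Matrix.one_apply, hb])
      (fun h => absurd (Finset.mem_univ _) h)]
    simp only [Bm, v, Matrix.of_apply, Equiv.apply_symm_apply, Matrix.submatrix_apply, kroneckerMap_apply,
      Matrix.one_apply_eq, mul_one]
    ring
  rw [framed_apply, ← key, mul_assoc, Units.mul_inv, mul_one]

/-- Matrices commuting with `M ⊗ 1` have the form `1 ⊗ b`. -/
lemma exists_one_kronecker [Nonempty κ] {m : ℕ} {X : Matrix (κ × Fin m) (κ × Fin m) F}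
    (h : ∀ a : Matrix κ κ F, X * (a ⊗ₖ (1 : Matrix (Fin m) (Fin m) F)) = (a ⊗ₖ 1) * X) :
    ∃ b : Matrix (Fin m) (Fin m) F, X = (1 : Matrix κ κ F) ⊗ₖ b := by
  classical
  have key : ∀ (p q r : κ) (s : κ) (k l : Fin m),
      (if q = s then X (r, k) (p, l) else 0) = (if p = r then X (q, k) (s, l) else 0) := by
    intro p q r s k l
    have h1 := congrFun (congrFun (h (Matrix.single p q 1)) (r, k)) (s, l)
    simpa [Matrix.mul_apply, Fintype.sum_prod_type, Matrix.single_apply, Matrix.one_apply,
      ite_and] using h1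
  let x₀ : κ := Classical.arbitrary κ
  refine ⟨Matrix.of fun k l => X (x₀, k) (x₀, l), ?_⟩
  ext ⟨r, k⟩ ⟨s, l⟩
  simp only [kroneckerMap_apply, Matrix.of_apply, Matrix.one_apply, ite_mul, one_mul, zero_mul]
  split_ifs with hrs
  · subst hrs
    simpa using key r x₀ r x₀ k l
  · have := key s s r s k l
    simpa [Ne.symm hrs] using this

lemma kronecker_one_inj [Nonempty κ] {m : ℕ} {b c : Matrix (Fin m) (Fin m) F}
    (h : (1 : Matrix κ κ F) ⊗ₖ b = (1 : Matrix κ κ F) ⊗ₖ c) : b = c := by
  ext k l
  let x₀ : κ := Classical.arbitrary κ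
  simpa using congrFun (congrFun h (x₀, k)) (x₀, l)

/-- If the centraliser of the image is scalar, the multiplicity is one. -/
theorem exists_frame_of_centralizer_scalar [Nonempty κ] [Nonempty ι]
    (φ : Matrix κ κ F →ₐ[F] Matrix ι ι F)
    (hc : ∀ X, (∀ a, X * φ a = φ a * X) → ∃ c : F, X = c • 1) :
    ∃ (e : ι ≃ κ) (B : GL ι F), ∀ a, φ a = framed e B a := by
  obtain ⟨m, e, B, hφ⟩ := exists_frame φ
  have hm : m = 1 := by
    rcases Nat.lt_trichotomy m 1 with h | h | h
    · exfalso
      have hm0 : m = 0 := by omega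
      subst hm0
      exact IsEmpty.false (e (Classical.arbitrary ι)).2
    · exact h
    · exfalso
      let E : Matrix (Fin m) (Fin m) F := Matrix.single ⟨0, by omega⟩ ⟨0, by omega⟩ 1
      obtain ⟨c, hcX⟩ := hc (framed e B (1 ⊗ₖ E)) (fun a => by
        rw [hφ, ← map_mul, ← map_mul, ← Matrix.mul_kronecker_mul, ← Matrix.mul_kronecker_mul]
        simp)
      have h2 : (1 : Matrix κ κ F) ⊗ₖ E = (1 : Matrix κ κ F) ⊗ₖ (c • (1 : Matrix (Fin m) (Fin m) F)) := by
        apply (framed e B).injective
        rw [hcX, Matrix.kronecker_smul, Matrix.one_kronecker_one, map_smul, map_one]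
      have h3 := kronecker_one_inj h2
      have h00 := congrFun (congrFun h3 ⟨0, by omega⟩) ⟨0, by omega⟩
      have h11 := congrFun (congrFun h3 ⟨1, by omega⟩) ⟨1, by omega⟩
      simp [E, Matrix.single_apply, Fin.ext_iff] at h00 h11
      rw [← h11] at h00
      exact one_ne_zero h00
  subst hm
  refine ⟨e.trans (Equiv.prodUnique κ (Fin 1)), B, fun a => ?_⟩
  rw [hφ, framed_apply, framed_apply]
  congr 2
  ext i j
  simp [Matrix.one_apply, Subsingleton.elim (e i).2 (e j).2]

/-- The permutation matrix of `τ`, as an element of the general linear group. -/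
def permGL (τ : κ ≃ κ) : GL κ F where
  val := (1 : Matrix κ κ F).submatrix τ id
  inv := (1 : Matrix κ κ F).submatrix τ.symm id
  val_inv := by
    ext i j
    simp [Matrix.mul_apply, Matrix.one_apply, Equiv.symm_apply_eq, ← Equiv.eq_symm_apply]
  inv_val := by
    ext i j
    simp [Matrix.mul_apply, Matrix.one_apply, Equiv.symm_apply_eq, ← Equiv.eq_symm_apply]

lemma conjM_permGL (τ : κ ≃ κ) (a : Matrix κ κ F) : conjM (permGL τ) a = a.submatrix τ τ := by
  ext i j
  simp [conjM_apply, permGL, Matrix.mul_apply, Matrix.one_apply, Equiv.symm_apply_eq,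
    Finset.sum_ite_eq]

/-- Endomorphisms of a matrix algebra are inner. -/
theorem exists_inner [Nonempty κ] (α : Matrix κ κ F →ₐ[F] Matrix κ κ F) :
    ∃ b : GL κ F, ∀ a, α a = conjM b a := by
  obtain ⟨m, e, B, hα⟩ := exists_frame α
  have hm : m = 1 := by
    have := Fintype.card_congr e
    rw [Fintype.card_prod, Fintype.card_fin] at this
    have hpos : 0 < Fintype.card κ := Fintype.card_pos
    nlinarith
  subst hm
  refine ⟨B * permGL (e.trans (Equiv.prodUnique κ (Fin 1))), fun a => ?_⟩
  rw [hα, framed_apply]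
  have h2 : conjM (B * permGL (e.trans (Equiv.prodUnique κ (Fin 1)))) a =
      conjM B (conjM (permGL (e.trans (Equiv.prodUnique κ (Fin 1)))) a) := by
    simp [conjM_apply, mul_assoc]
  rw [h2, conjM_permGL, conjM_apply]
  congr 2
  ext i j
  simp [Matrix.one_apply, Subsingleton.elim (e i).2 (e j).2]

/-- The normaliser of a tensor factor is the stabiliser of the tensor decomposition. -/
theorem mem_tensorProductSubgroup {d m : ℕ} (hd : 0 < d) (e : ι ≃ Fin d × Fin m) (B : GL ι F)
    {g : GL ι F}
    (hg : ∀ a : Matrix (Fin d) (Fin d) F, ∃ a' : Matrix (Fin d) (Fin d) F,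
      conjM g (framed e B (a ⊗ₖ (1 : Matrix (Fin m) (Fin m) F))) = framed e B (a' ⊗ₖ 1))
    (hm : 0 < m) :
    g ∈ tensorProductSubgroup d m e B := by
  classical
  haveI : Nonempty (Fin d) := ⟨⟨0, hd⟩⟩
  haveI : Nonempty (Fin m) := ⟨⟨0, hm⟩⟩
  choose α hα using hg
  have hinj : ∀ {a b : Matrix (Fin d) (Fin d) F},
      a ⊗ₖ (1 : Matrix (Fin m) (Fin m) F) = b ⊗ₖ 1 → a = b := by
    intro a b h
    ext i j
    simpa using congrFun (congrFun h (i, ⟨0, hm⟩)) (j, ⟨0, hm⟩)
  let G : GL (Fin d × Fin m) F := inFrame e B g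
  have hG : ∀ a, conjM G (a ⊗ₖ (1 : Matrix (Fin m) (Fin m) F)) = α a ⊗ₖ 1 := by
    intro a
    apply (framed e B).injective
    rw [← hα a, conjM_apply, conjM_apply, map_mul, map_mul, framed_inFrame]
    congr 1
    have : G⁻¹ = inFrame e B g⁻¹ := by simp [G, inFrame]
    rw [this, framed_inFrame]
  let αh : Matrix (Fin d) (Fin d) F →ₐ[F] Matrix (Fin d) (Fin d) F :=
    AlgHom.ofLinearMap
      { toFun := α
        map_add' := fun a b => hinj (by
          rw [← hG, Matrix.add_kronecker, map_add, hG, hG, Matrix.add_kronecker])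
        map_smul' := fun c a => hinj (by
          rw [← hG, Matrix.smul_kronecker, map_smul, hG, RingHom.id_apply, Matrix.smul_kronecker]) }
      (hinj (by
        show α 1 ⊗ₖ (1 : Matrix (Fin m) (Fin m) F) = 1 ⊗ₖ 1
        rw [← hG, Matrix.one_kronecker_one, map_one]))
      (fun a b => hinj (by
        show α (a * b) ⊗ₖ (1 : Matrix (Fin m) (Fin m) F) = (α a * α b) ⊗ₖ 1
        conv_rhs => rw [← mul_one (1 : Matrix (Fin m) (Fin m) F), Matrix.mul_kronecker_mul]
        rw [← hG, ← hG, ← hG, ← map_mul, ← Matrix.mul_kronecker_mul, mul_one]))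
  obtain ⟨b, hb⟩ := exists_inner αh
  have hb' : ∀ a, α a = conjM b a := hb
  let b1 : GL (Fin d × Fin m) F :=
    ⟨(b : Matrix (Fin d) (Fin d) F) ⊗ₖ 1, ((b⁻¹ : GL (Fin d) F) : Matrix (Fin d) (Fin d) F) ⊗ₖ 1,
      by rw [← Matrix.mul_kronecker_mul, Units.mul_inv, one_mul, Matrix.one_kronecker_one],
      by rw [← Matrix.mul_kronecker_mul, Units.inv_mul, one_mul, Matrix.one_kronecker_one]⟩
  have hb1 : ∀ a : Matrix (Fin d) (Fin d) F,
      conjM b1 (a ⊗ₖ (1 : Matrix (Fin m) (Fin m) F)) = conjM b a ⊗ₖ 1 := by
    intro a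
    show ((b : Matrix (Fin d) (Fin d) F) ⊗ₖ (1 : Matrix (Fin m) (Fin m) F)) * (a ⊗ₖ (1 : Matrix (Fin m) (Fin m) F)) *
      (((b⁻¹ : GL (Fin d) F) : Matrix (Fin d) (Fin d) F) ⊗ₖ (1 : Matrix (Fin m) (Fin m) F)) = _
    rw [← Matrix.mul_kronecker_mul, ← Matrix.mul_kronecker_mul, one_mul, one_mul]
    rfl
  obtain ⟨c, hc⟩ := exists_one_kronecker (κ := Fin d) (m := m) (X := ((b1⁻¹ * G : GL (Fin d × Fin m) F) : Matrix (Fin d × Fin m) (Fin d × Fin m) F)) (fun a => by
    exact commute_of_conjM_eq (g := b1⁻¹ * G) (by rw [conjM_mul, hG, hb', ← hb1, conjM_inv_conjM]))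
  obtain ⟨c', hc'⟩ := exists_one_kronecker (κ := Fin d) (m := m)
    (X := (((b1⁻¹ * G)⁻¹ : GL (Fin d × Fin m) F) : Matrix (Fin d × Fin m) (Fin d × Fin m) F)) (fun a => by
    have h1 := congrArg (fun X => (((b1⁻¹ * G)⁻¹ : GL (Fin d × Fin m) F) : Matrix (Fin d × Fin m) (Fin d × Fin m) F) * X *
      (((b1⁻¹ * G)⁻¹ : GL (Fin d × Fin m) F) : Matrix (Fin d × Fin m) (Fin d × Fin m) F))
      (show ((b1⁻¹ * G : GL (Fin d × Fin m) F) : Matrix (Fin d × Fin m) (Fin d × Fin m) F) * (a ⊗ₖ (1 : Matrix (Fin m) (Fin m) F)) =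
        (a ⊗ₖ 1) * ((b1⁻¹ * G : GL (Fin d × Fin m) F) : Matrix (Fin d × Fin m) (Fin d × Fin m) F) by
          rw [hc, ← Matrix.mul_kronecker_mul, ← Matrix.mul_kronecker_mul, one_mul, mul_one, one_mul, mul_one])
    simp only [← mul_assoc, Units.inv_mul, one_mul] at h1
    simp only [mul_assoc, Units.mul_inv, mul_one] at h1
    exact h1.symm)
  have hcc : c * c' = 1 := by
    apply kronecker_one_inj (κ := Fin d)
    have h' : ((1 : Matrix (Fin d) (Fin d) F) ⊗ₖ c) * ((1 : Matrix (Fin d) (Fin d) F) ⊗ₖ c') = 1 := by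
      rw [← hc, ← hc', Units.mul_inv]
    rwa [← Matrix.mul_kronecker_mul, one_mul, ← Matrix.one_kronecker_one] at h'
  refine mem_map_glReindex_conj (k := G) ?_ (framed_inFrame e B g).symm
  refine ⟨b, ⟨c, c', hcc, mul_eq_one_comm.mp hcc⟩, ?_⟩
  show (G : Matrix _ _ F) = (b : Matrix (Fin d) (Fin d) F) ⊗ₖ c
  have : (G : Matrix _ _ F) = (b1 : Matrix _ _ F) * ((b1⁻¹ * G : GL (Fin d × Fin m) F) : Matrix (Fin d × Fin m) (Fin d × Fin m) F) := by
    rw [← Units.val_mul, mul_inv_cancel_left]
  rw [this, hc]
  show ((b : Matrix (Fin d) (Fin d) F) ⊗ₖ (1 : Matrix (Fin m) (Fin m) F)) * _ = _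
  rw [← Matrix.mul_kronecker_mul, mul_one, one_mul]

/-! ### Tensor powers -/

variable {d t : ℕ}

/-- The tensor product of a family of `d × d` matrices. -/
def pureTensor (as : Fin t → Matrix (Fin d) (Fin d) F) : Matrix (Fin t → Fin d) (Fin t → Fin d) F :=
  Matrix.of fun x y => ∏ i, as i (x i) (y i)

lemma pureTensor_mul (as bs : Fin t → Matrix (Fin d) (Fin d) F) :
    pureTensor as * pureTensor bs = pureTensor (as * bs) := by
  ext x y
  simp [pureTensor, Matrix.mul_apply, Fintype.prod_sum, Finset.prod_mul_distrib]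

lemma pureTensor_one : pureTensor (1 : Fin t → Matrix (Fin d) (Fin d) F) = 1 := by
  ext x y
  rcases eq_or_ne x y with rfl | h
  · simp [pureTensor]
  · obtain ⟨i, hi⟩ := Function.ne_iff.mp h
    rw [Matrix.one_apply_ne h]
    exact Finset.prod_eq_zero (Finset.mem_univ i) (by simp [hi])

/-- The embedding of `d × d` matrices as the `i`-th tensor factor. -/
def factorM (i : Fin t) (a : Matrix (Fin d) (Fin d) F) : Matrix (Fin t → Fin d) (Fin t → Fin d) F :=
  pureTensor (Function.update (1 : Fin t → Matrix (Fin d) (Fin d) F) i a)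

lemma factorM_apply (i : Fin t) (a : Matrix (Fin d) (Fin d) F) (x y : Fin t → Fin d) :
    factorM i a x y = a (x i) (y i) * if ∀ l, l ≠ i → x l = y l then 1 else 0 := by
  rw [factorM, pureTensor, Matrix.of_apply, ← Finset.mul_prod_erase _ _ (Finset.mem_univ i)]
  rw [Function.update_self]
  congr 1
  split_ifs with h
  · exact Finset.prod_eq_one fun l hl => by
      have hli : l ≠ i := (Finset.mem_erase.mp hl).1
      rw [Function.update_of_ne hli, h l hli]
      simp
  · push Not at h
    obtain ⟨l, hli, hl⟩ := h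
    exact Finset.prod_eq_zero (Finset.mem_erase.mpr ⟨hli, Finset.mem_univ _⟩) (by
      rw [Function.update_of_ne hli]
      simp [hl])

/-- A commuting family of homomorphisms from `d × d` matrices combines into one from their tensor power. -/
theorem exists_combined [Nonempty ι] (φ : Fin t → Matrix (Fin d) (Fin d) F →ₐ[F] Matrix ι ι F)
    (hcomm : ∀ i j, i ≠ j → ∀ a b, φ i a * φ j b = φ j b * φ i a) (hd : 0 < d) :
    ∃ Φ : Matrix (Fin t → Fin d) (Fin t → Fin d) F →ₐ[F] Matrix ι ι F,
      ∀ i a, Φ (factorM i a) = φ i a := by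
  classical
  let Ψ : (Π _ : Fin t, Matrix (Fin d) (Fin d) F) →* Matrix ι ι F :=
    MonoidHom.noncommPiCoprod (fun i => (φ i : Matrix (Fin d) (Fin d) F →* Matrix ι ι F))
      (fun i j hij a b => hcomm i j hij a b)
  have hΨ : ∀ i a, Ψ (Pi.mulSingle i a) = φ i a := fun i a => by exact MonoidHom.noncommPiCoprod_mulSingle ..
  have hzero : ∀ f : Fin t → Matrix (Fin d) (Fin d) F, ∀ i, f i = 0 → Ψ f = 0 := by
    intro f i hi
    have : f = Pi.mulSingle i 0 * f := by
      funext l
      rcases eq_or_ne l i with rfl | hl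
      · simp [hi]
      · simp [Pi.mulSingle_eq_of_ne hl]
    rw [this, map_mul, hΨ, map_zero, zero_mul]
  have hup : ∀ (f : Fin t → Matrix (Fin d) (Fin d) F) i a,
      Ψ (Function.update f i a) = φ i a * Ψ (Function.update f i 1) := by
    intro f i a
    rw [← hΨ, ← map_mul]
    congr 1
    funext l
    rcases eq_or_ne l i with rfl | hl
    · simp
    · simp [Pi.mulSingle_eq_of_ne hl, Function.update_of_ne hl]
  let P : (Fin t → Fin d) → (Fin t → Fin d) → Matrix ι ι F :=
    fun x y => Ψ (fun i => Matrix.single (x i) (y i) 1)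
  have hPP : ∀ x y y' z, P x y * P y' z = if y = y' then P x z else 0 := by
    intro x y y' z
    simp only [P, ← map_mul]
    split_ifs with h
    · subst h
      congr 1
      funext i
      simp
    · obtain ⟨i, hi⟩ := Function.ne_iff.mp h
      exact hzero _ i (Matrix.single_mul_single_of_ne (h := hi) ..)
  have hsplit : ∀ (i : Fin t) (a : Matrix (Fin d) (Fin d) F) (y : Fin t → Fin d),
      φ i a * P y y = ∑ j, a j (y i) • P (Function.update y i j) y := by
    intro i a y
    have hy : (fun l => Matrix.single (y l) (y l) (1 : F)) =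
        Function.update (fun l => Matrix.single (y l) (y l) (1 : F)) i (Matrix.single (y i) (y i) 1) := by
      simp
    have hmul : a * Matrix.single (y i) (y i) 1 = ∑ j, a j (y i) • Matrix.single j (y i) (1 : F) := by
      ext p q
      rw [Matrix.sum_apply]
      rcases eq_or_ne q (y i) with rfl | hq
      · rw [Matrix.mul_single_apply_same, Finset.sum_eq_single p (fun b _ hb => by
          simp [Matrix.single_apply, hb]) (fun h => absurd (Finset.mem_univ _) h)]
        simp
      · rw [Matrix.mul_single_apply_of_ne _ _ _ _ _ hq, Finset.sum_eq_zero]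
        intro b _
        simp [Matrix.single_apply, Ne.symm hq]
    have hj : ∀ j, P (Function.update y i j) y = φ i (Matrix.single j (y i) 1) *
        Ψ (Function.update (fun l => Matrix.single (y l) (y l) (1 : F)) i 1) := by
      intro j
      rw [← hup]
      simp only [P]
      congr 1
      funext l
      rcases eq_or_ne l i with rfl | hl
      · simp
      · simp [Function.update_of_ne hl]
    simp only [hj, ← smul_mul_assoc, ← Finset.sum_mul, ← map_smul, ← map_sum, ← hmul]
    rw [map_mul, mul_assoc, ← hup, ← hy]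
  have hone : ∑ x, P x x = 1 := by
    by_contra hne
    set R : Matrix ι ι F := 1 - ∑ x, P x x with hR
    have hR0 : R ≠ 0 := sub_ne_zero.mpr (Ne.symm hne)
    have hPR : ∀ x, P x x * R = 0 := by
      intro x
      rw [hR, mul_sub, mul_one, Finset.mul_sum, Finset.sum_eq_single x (fun y _ hy => by
        rw [hPP, if_neg (Ne.symm hy)]) (fun h => absurd (Finset.mem_univ _) h), hPP, if_pos rfl, sub_self]
    suffices ∀ s : Finset (Fin t), ∃ x : Fin t → Fin d,
        Ψ (fun i => if i ∈ s then Matrix.single (x i) (x i) 1 else 1) * R ≠ 0 by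
      obtain ⟨x, hx⟩ := this Finset.univ
      simp only [Finset.mem_univ, if_true] at hx
      exact hx (hPR x)
    intro s
    induction s using Finset.induction_on with
    | empty =>
      refine ⟨fun _ => ⟨0, hd⟩, ?_⟩
      simp only [Finset.notMem_empty, if_false]
      have : Ψ (fun _ => 1) = 1 := map_one Ψ
      rw [this, one_mul]
      exact hR0
    | insert i s hi ih =>
      obtain ⟨x, hx⟩ := ih
      set X := Ψ (fun l => if l ∈ s then Matrix.single (x l) (x l) 1 else 1) * R with hX
      have hsum : X = ∑ j, φ i (Matrix.single j j 1) * X := by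
        rw [← Finset.sum_mul, ← map_sum, Matrix.sum_single_eq_diagonal]
        simp
      obtain ⟨j, -, hj⟩ := Finset.exists_ne_zero_of_sum_ne_zero (hsum ▸ hx)
      refine ⟨Function.update x i j, fun h => hj ?_⟩
      rw [hX, ← mul_assoc, ← hΨ, ← map_mul]
      have heq : Pi.mulSingle i (Matrix.single j j (1 : F)) *
          (fun l => if l ∈ s then Matrix.single (x l) (x l) (1 : F) else 1) =
          fun l => if l ∈ insert i s then
            Matrix.single (Function.update x i j l) (Function.update x i j l) (1 : F) else 1 := by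
        funext l
        rcases eq_or_ne l i with rfl | hl
        · simp [hi]
        · simp [Pi.mulSingle_eq_of_ne hl, hl, Function.update_of_ne hl]
      rw [heq]
      exact h
  let L : Matrix (Fin t → Fin d) (Fin t → Fin d) F →ₗ[F] Matrix ι ι F :=
    { toFun := fun X => ∑ x, ∑ y, X x y • P x y
      map_add' := fun X Y => by simp [add_smul, Finset.sum_add_distrib]
      map_smul' := fun c X => by simp [Finset.smul_sum, smul_smul] }
  refine ⟨AlgHom.ofLinearMap L ?_ ?_, ?_⟩
  · show ∑ x, ∑ y, (1 : Matrix _ _ F) x y • P x y = 1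
    rw [← hone]
    refine Finset.sum_congr rfl fun x _ => ?_
    rw [Finset.sum_eq_single x (fun y _ hy => by simp [Matrix.one_apply_ne (Ne.symm hy)])
      (fun h => absurd (Finset.mem_univ _) h)]
    simp
  · intro X Y
    show ∑ x, ∑ z, (X * Y) x z • P x z = (∑ x, ∑ y, X x y • P x y) * (∑ y, ∑ z, Y y z • P y z)
    rw [Finset.sum_mul]
    refine Finset.sum_congr rfl fun x _ => ?_
    simp only [Matrix.mul_apply, Finset.sum_smul]
    rw [Finset.sum_comm, Finset.sum_mul]
    refine Finset.sum_congr rfl fun y _ => ?_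
    rw [Finset.mul_sum, Finset.sum_eq_single (s := Finset.univ) (f := fun y' => _ * _) y
      (fun y' _ hy' => by
        rw [Finset.mul_sum]
        exact Finset.sum_eq_zero fun z _ => by rw [smul_mul_smul_comm, hPP, if_neg (Ne.symm hy'), smul_zero])
      (fun h => absurd (Finset.mem_univ _) h), Finset.mul_sum]
    exact Finset.sum_congr rfl fun z _ => by rw [smul_mul_smul_comm, hPP, if_pos rfl]
  · intro i a
    show ∑ x, ∑ y, factorM i a x y • P x y = φ i a
    rw [Finset.sum_comm]
    calc ∑ y, ∑ x, factorM i a x y • P x y = ∑ y, φ i a * P y y := by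
          refine Finset.sum_congr rfl fun y _ => ?_
          have hinj' : Function.Injective (fun j : Fin d => Function.update y i j) := fun p q h => by
            simpa using congrFun h i
          have himg : ∑ x ∈ Finset.univ.image (fun j : Fin d => Function.update y i j),
              a (x i) (y i) • P x y = ∑ j, a j (y i) • P (Function.update y i j) y := by
            rw [Finset.sum_image hinj'.injOn]
            simp
          rw [hsplit, ← himg]
          symm
          refine Finset.sum_subset_zero_on_sdiff (Finset.subset_univ _) ?_ ?_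
          · intro x hx
            rw [Finset.mem_sdiff] at hx
            rw [factorM_apply, if_neg, mul_zero, zero_smul]
            intro h
            apply hx.2
            rw [Finset.mem_image]
            refine ⟨x i, Finset.mem_univ _, funext fun l => ?_⟩
            rcases eq_or_ne l i with rfl | hl
            · simp
            · rw [Function.update_of_ne hl, h l hl]
          · intro x hx
            rw [Finset.mem_image] at hx
            obtain ⟨j, -, rfl⟩ := hx
            rw [factorM_apply, if_pos (fun l hl => by rw [Function.update_of_ne hl]), mul_one]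
      _ = φ i a := by rw [← Finset.mul_sum, hone, mul_one]

/-- The permutation of tensor factors as a permutation of the index set. -/
def factorPerm (σ : Equiv.Perm (Fin t)) : (Fin t → Fin d) ≃ (Fin t → Fin d) where
  toFun x := x ∘ σ
  invFun x := x ∘ σ.symm
  left_inv x := by funext i; simp
  right_inv x := by funext i; simp

lemma conjM_factorPerm (σ : Equiv.Perm (Fin t)) (i : Fin t) (a : Matrix (Fin d) (Fin d) F) :
    conjM (permGL (factorPerm σ)) (factorM i a) = factorM (σ i) a := by
  rw [conjM_permGL]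
  ext x y
  simp only [Matrix.submatrix_apply, factorM_apply, factorPerm, Equiv.coe_fn_mk, Function.comp_apply]
  congr 1
  apply if_congr ?_ rfl rfl
  constructor
  · intro h l hl
    have := h (σ.symm l) (fun h' => hl (by rw [← h', Equiv.apply_symm_apply]))
    simpa using this
  · intro h l hl
    exact h (σ l) (fun h' => hl (σ.injective h'))

/-- A group element permuting the factors of a tensor power lies in the tensor wreath stabiliser. -/
theorem mem_tensorWreathSubgroup [Nonempty ι] (hd : 0 < d) (ht : 0 < t)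
    (e : ι ≃ (Fin t → Fin d)) (B : GL ι F) {g : GL ι F} (π : Equiv.Perm (Fin t))
    (hg : ∀ i a, ∃ a', conjM g (framed e B (factorM i a)) = framed e B (factorM (π i) a'))
    (hc : ∀ X : Matrix ι ι F, (∀ i a, X * framed e B (factorM i a) = framed e B (factorM i a) * X) →
      ∃ c : F, X = c • 1) :
    g ∈ tensorWreathSubgroup d t e B := by
  classical
  haveI : Nonempty (Fin d) := ⟨⟨0, hd⟩⟩
  choose α hα using hg
  have hinj : ∀ {i : Fin t} {a b : Matrix (Fin d) (Fin d) F}, factorM i a = factorM i b → a = b := by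
    intro i a b h
    ext p q
    have := congrFun (congrFun h (Function.update (fun _ => (⟨0, hd⟩ : Fin d)) i p))
      (Function.update (fun _ => (⟨0, hd⟩ : Fin d)) i q)
    rw [factorM_apply, factorM_apply, if_pos (fun l hl => by simp [Function.update_of_ne hl])] at this
    simpa using this
  have hfadd : ∀ (i : Fin t) (a b : Matrix (Fin d) (Fin d) F), factorM i (a + b) = factorM i a + factorM i b := by
    intro i a b
    ext x y
    simp only [Matrix.add_apply, factorM_apply, add_mul]
  have hfsmul : ∀ (i : Fin t) (c : F) (a : Matrix (Fin d) (Fin d) F), factorM i (c • a) = c • factorM i a := by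
    intro i c a
    ext x y
    simp only [Matrix.smul_apply, factorM_apply, smul_eq_mul, mul_assoc]
  have hfmul : ∀ (i : Fin t) (a b : Matrix (Fin d) (Fin d) F), factorM i (a * b) = factorM i a * factorM i b := by
    intro i a b
    rw [factorM, factorM, factorM, pureTensor_mul]
    congr 1
    funext l
    rcases eq_or_ne l i with rfl | hl
    · simp
    · simp [Function.update_of_ne hl]
  have hfone : ∀ (i : Fin t), factorM i (1 : Matrix (Fin d) (Fin d) F) = 1 := by
    intro i
    rw [factorM, show Function.update (1 : Fin t → Matrix (Fin d) (Fin d) F) i 1 = 1 by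
      exact Function.update_eq_self i (1 : Fin t → Matrix (Fin d) (Fin d) F), pureTensor_one]
  let G : GL (Fin t → Fin d) F := inFrame e B g
  have hG : ∀ i a, conjM G (factorM i a) = factorM (π i) (α i a) := by
    intro i a
    apply (framed e B).injective
    rw [← hα i a, conjM_apply, conjM_apply, map_mul, map_mul, framed_inFrame]
    congr 1
    have : G⁻¹ = inFrame e B g⁻¹ := by simp [G, inFrame]
    rw [this, framed_inFrame]
  let αh : Fin t → (Matrix (Fin d) (Fin d) F →ₐ[F] Matrix (Fin d) (Fin d) F) := fun i =>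
    AlgHom.ofLinearMap
      { toFun := α i
        map_add' := fun a b => hinj (i := π i) (by rw [← hG, hfadd, map_add, hG, hG, hfadd])
        map_smul' := fun c a => hinj (i := π i) (by
          rw [← hG, hfsmul, map_smul, hG, RingHom.id_apply, hfsmul]) }
      (hinj (i := π i) (by
        show factorM (π i) (α i 1) = factorM (π i) 1
        rw [← hG, hfone, map_one, hfone]))
      (fun a b => hinj (i := π i) (by
        show factorM (π i) (α i (a * b)) = factorM (π i) (α i a * α i b)
        rw [← hG, hfmul, map_mul, hG, hG, hfmul]))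
  choose b hb using fun i => exists_inner (αh i)
  have hb' : ∀ i a, α i a = conjM (b i) a := hb
  -- the pure tensor of the inner automorphisms
  let bs : Fin t → GL (Fin d) F := fun j => b (π.symm j)
  let T : GL (Fin t → Fin d) F :=
    ⟨pureTensor (fun j => (bs j : Matrix (Fin d) (Fin d) F)),
      pureTensor (fun j => ((bs j)⁻¹ : GL (Fin d) F).val),
      by rw [pureTensor_mul, ← pureTensor_one]; congr 1; funext j; simp,
      by rw [pureTensor_mul, ← pureTensor_one]; congr 1; funext j; simp⟩
  have hT : ∀ j a, conjM T (factorM j a) = factorM j (conjM (bs j) a) := by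
    intro j a
    show pureTensor (fun l => (bs l : Matrix (Fin d) (Fin d) F)) *
      pureTensor (Function.update (1 : Fin t → Matrix (Fin d) (Fin d) F) j a) *
      pureTensor (fun l => ((bs l)⁻¹ : GL (Fin d) F).val) = _
    rw [pureTensor_mul, pureTensor_mul, factorM]
    congr 1
    funext l
    rcases eq_or_ne l j with rfl | hl
    · simp [conjM_apply]
    · simp [Function.update_of_ne hl]
  let S : GL (Fin t → Fin d) F := T * permGL (factorPerm π)
  have hS : ∀ i a, conjM S (factorM i a) = conjM G (factorM i a) := by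
    intro i a
    have : conjM S (factorM i a) = conjM T (conjM (permGL (factorPerm π)) (factorM i a)) := by
      simp [S, conjM_apply, mul_assoc]
    rw [this, conjM_factorPerm, hT, hG, hb']
    simp [bs]
  obtain ⟨c, hcX⟩ := hc (framed e B ((S⁻¹ * G : GL (Fin t → Fin d) F) : Matrix (Fin t → Fin d) (Fin t → Fin d) F)) (fun i a => by
    rw [← map_mul, ← map_mul]
    congr 1
    exact commute_of_conjM_eq (g := S⁻¹ * G) (by rw [conjM_mul, ← hS, conjM_inv_conjM]))
  have hcne : c ≠ 0 := by
    rintro rfl
    have h' : ((S⁻¹ * G : GL _ F) : Matrix (Fin t → Fin d) (Fin t → Fin d) F) = 0 := by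
      apply (framed e B).injective
      rw [hcX, zero_smul, map_zero]
    exact (S⁻¹ * G).isUnit.ne_zero h'
  have hG' : ((S⁻¹ * G : GL _ F) : Matrix (Fin t → Fin d) (Fin t → Fin d) F) = c • 1 := by
    apply (framed e B).injective
    rw [hcX, map_smul, map_one]
  refine mem_map_glReindex_conj (k := G) ?_ (framed_inFrame e B g).symm
  have hGS : G = S * (S⁻¹ * G) := by group
  rw [hGS]
  refine Subgroup.mul_mem _ (Subgroup.mul_mem _ ?_ ?_) ?_
  · exact Subgroup.subset_closure (Or.inl ⟨bs, fun x y => rfl⟩)
  · refine Subgroup.subset_closure (Or.inr ⟨π, fun x y => ?_⟩)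
    simp [permGL, factorPerm, Matrix.one_apply, eq_comm]
  · refine Subgroup.subset_closure (Or.inl ?_)
    let i₀ : Fin t := ⟨0, ht⟩
    refine ⟨Function.update 1 i₀ (Units.mk ((c : F) • 1) (c⁻¹ • 1) (by simp [hcne, smul_smul])
      (by simp [hcne, smul_smul])), fun x y => ?_⟩
    rw [hG']
    have hup : (fun l => ((Function.update (1 : Fin t → GL (Fin d) F) i₀
        (Units.mk ((c : F) • 1) (c⁻¹ • 1) (by simp [hcne, smul_smul]) (by simp [hcne, smul_smul]))) l :
        Matrix (Fin d) (Fin d) F)) =
        Function.update (1 : Fin t → Matrix (Fin d) (Fin d) F) i₀ (c • 1) := by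
      funext l
      rcases eq_or_ne l i₀ with rfl | hl
      · simp
      · simp [Function.update_of_ne hl]
    have : (c • (1 : Matrix (Fin t → Fin d) (Fin t → Fin d) F)) x y = factorM i₀ (c • 1) x y := by
      rw [hfsmul, hfone]
    rw [this, factorM, pureTensor, Matrix.of_apply]
    exact Finset.prod_congr rfl fun l _ => by rw [← congrFun hup l]

end Cfsg.Agent.Lib.Aschbacher
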