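/-
The form-independent part of Aschbacher's theorem: an irreducible group of matrices over a finite field has a
decomposition by central idempotents of a normal subgroup, or a field extension, or a tensor decomposition, or
a normal subgroup of symplectic type, or is tensor induced, or is almost simple modulo scalars.
-/
import Cfsg.Agent.Lib.Aschbacher.Split
import Cfsg.Agent.Lib.Aschbacher.Tensor
import Cfsg.Agent.Lib.Aschbacher.SymplType

set_option autoImplicit false

namespace Cfsg.Agent.Lib.Aschbacher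

open Cfsg Cfsg.Geo Matrix
open scoped Kronecker

set_option maxHeartbeats 2000000

variable {ι : Type} [Fintype ι] [DecidableEq ι] {F : Type*} [Field F]

/-! ### Absolute irreducibility and the spanned algebra -/

lemma absIrred_of_span_top {N : Subgroup (GL ι F)} (h : spanAlg N = ⊤) :
    ActsAbsolutelyIrreducibly (matrixSet N) := by
  refine ⟨actsIrreducibly_iff.mpr fun W hW => ?_, fun X hX => ?_⟩
  · have hA : ∀ a : Matrix ι ι F, ∀ w ∈ W, a *ᵥ w ∈ W := by
      intro a w hw
      have ha : a ∈ Submodule.span F (matrixSet N) := by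
        rw [← spanAlg_toSubmodule, h]; trivial
      induction ha using Submodule.span_induction with
      | mem x hx => obtain ⟨g, hg, rfl⟩ := hx; exact hW g hg w hw
      | zero => rw [Matrix.zero_mulVec]; exact W.zero_mem
      | add x y _ _ hx hy => rw [Matrix.add_mulVec]; exact W.add_mem hx hy
      | smul c x _ hx => rw [Matrix.smul_mulVec]; exact W.smul_mem c hx
    by_cases hW0 : W = ⊥
    · exact Or.inl hW0
    · right
      obtain ⟨v, hv, hv0⟩ := W.ne_bot_iff.mp hW0
      obtain ⟨i, hi⟩ := Function.ne_iff.mp hv0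
      rw [eq_top_iff]
      intro u _
      have := hA (Matrix.vecMulVec u (Pi.single i (v i)⁻¹)) v hv
      rwa [Matrix.vecMulVec_mulVec, single_dotProduct, inv_mul_cancel₀ hi, MulOpposite.op_one, one_smul]
        at this
  · cases isEmpty_or_nonempty ι
    · exact ⟨0, Subsingleton.elim _ _⟩
    have hall : ∀ a : Matrix ι ι F, X * a = a * X := fun a => by
      refine commute_spanAlg (N := N) (fun x hx => hX _ (coe_mem_matrixSet hx)) ?_
      rw [h]; trivial
    obtain ⟨c, hc⟩ := Matrix.mem_range_scalar_of_commute_single (M := X) (fun i j _ =>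
      (hall (Matrix.single i j 1)).symm)
    exact ⟨c, by rw [← hc]; simp [Matrix.smul_one_eq_diagonal]⟩

lemma scalar_of_mem_bot {X : Matrix ι ι F} (h : X ∈ (⊥ : Subalgebra F (Matrix ι ι F))) :
    ∃ c : F, X = c • 1 := by
  obtain ⟨c, rfl⟩ := Algebra.mem_bot.mp h
  exact ⟨c, Algebra.algebraMap_eq_smul_one c⟩

lemma le_scalars_of_span_le_bot {N : Subgroup (GL ι F)} (h : spanAlg N ≤ ⊥) : N ≤ scalars ι F := by
  intro x hx
  obtain ⟨c, hc⟩ := scalar_of_mem_bot (h (coe_mem_spanAlg hx))
  exact mem_scalars_of_commute hc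

/-! ### The outcomes -/

/-- A normal subgroup whose algebra splits by central idempotents, cutting out a decomposition. -/
def HasImprimitive (H : Subgroup (GL ι F)) : Prop :=
  ∃ (N : Subgroup (GL ι F)) (t : ℕ) (e : Fin t → Matrix ι ι F) (m : ℕ),
    N ≤ H ∧ Normalises H N ∧ IsCentralSplit (spanAlg N) e ∧
    IsMDecomposition m (fun i => rangeOf (e i)) ∧
    H ≤ decompositionStabilizer (fun i => rangeOf (e i)) ∧
    ∀ i j, ∃ g ∈ H, conjM g (e i) = e j

/-- A normal subgroup whose algebra has a centre that is a field larger than the scalars. -/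
def HasExtension (H : Subgroup (GL ι F)) : Prop :=
  ∃ (N : Subgroup (GL ι F)) (r : ℕ), N ≤ H ∧ Normalises H N ∧ ¬ N ≤ scalars ι F ∧ 2 ≤ r ∧
    IsFieldSubalgebra r (centreAlg (spanAlg N))

/-- A normal subgroup whose algebra is a proper tensor factor. -/
def HasTensor (H : Subgroup (GL ι F)) : Prop :=
  ∃ (N : Subgroup (GL ι F)) (d m : ℕ) (e : ι ≃ Fin d × Fin m) (B : GL ι F),
    N ≤ H ∧ Normalises H N ∧ 2 ≤ d ∧ 2 ≤ m ∧
    (∀ X, X ∈ spanAlg N ↔ ∃ a, X = framed e B (a ⊗ₖ (1 : Matrix (Fin m) (Fin m) F))) ∧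
    H ≤ tensorProductSubgroup d m e B

/-- An absolutely irreducible normal subgroup of symplectic type. -/
def HasSymplecticCore (H : Subgroup (GL ι F)) : Prop :=
  ∃ (R : Subgroup (GL ι F)) (r : ℕ), R ≤ H ∧ Normalises H R ∧ IsSymplecticCore r R

/-- A normal subgroup that is a product of several commuting perfect groups acting on tensor factors. -/
def HasTensorInduced (H : Subgroup (GL ι F)) : Prop :=
  ∃ (t d : ℕ) (M : Fin t → Subgroup (GL ι F)) (e : ι ≃ (Fin t → Fin d)) (B : GL ι F),
    2 ≤ t ∧ 2 ≤ d ∧ (∀ i, M i ≤ H) ∧ (∀ i, ⁅M i, M i⁆ = M i) ∧ (∀ i, ¬ M i ≤ scalars ι F) ∧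
    (∀ i X, X ∈ spanAlg (M i) ↔ ∃ a, X = framed e B (factorM i a)) ∧
    Normalises H (⨆ i, M i) ∧ spanAlg (⨆ i, M i) = ⊤ ∧
    (∀ h ∈ H, ∃ π : Equiv.Perm (Fin t), ∀ i, (M i).map (MulAut.conj h).toMonoidHom = M (π i)) ∧
    (∀ i j, ∃ h ∈ H, (M i).map (MulAut.conj h).toMonoidHom = M j) ∧
    H ≤ tensorWreathSubgroup d t e B

/-- All conditions of the residual class that mention neither forms nor subfields. -/
structure IsCorePre (H P : Subgroup (GL ι F)) : Prop where
  le : P ≤ H
  normal : ∀ h ∈ H, ∀ x ∈ P, h * x * h⁻¹ ∈ P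
  perfect : ⁅P, P⁆ = P
  simple : IsSimpleGroup (P ⧸ (scalars ι F).subgroupOf P)
  nonabelian : ¬ IsMulCommutative (P ⧸ (scalars ι F).subgroupOf P)
  centralizer_scalar : ∀ h ∈ H, (∀ x ∈ P, h * x * h⁻¹ * x⁻¹ ∈ scalars ι F) → h ∈ scalars ι F
  absIrred : ActsAbsolutelyIrreducibly (matrixSet P)
  span_top : spanAlg P = ⊤

/-- An almost simple group. -/
def HasCore (H : Subgroup (GL ι F)) : Prop :=
  ∃ P : Subgroup (GL ι F), IsCorePre H P

lemma IsCorePre.residual {H P : Subgroup (GL ι F)} (h : IsCorePre H P)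
    (hsub : ∀ F₀ : Subfield F, F₀ ≠ ⊤ → ¬ RealisableOver F₀ (matrixSet P)) : IsResidualCore H P :=
  ⟨h.le, h.normal, h.perfect, h.simple, h.nonabelian, h.centralizer_scalar, h.absIrred, hsub⟩

/-! ### Conjugates -/

/-- The conjugate of a subgroup. -/
abbrev cj (g : GL ι F) (K : Subgroup (GL ι F)) : Subgroup (GL ι F) :=
  K.map (MulAut.conj g).toMonoidHom

lemma mem_cj {g x : GL ι F} {K : Subgroup (GL ι F)} : x ∈ cj g K ↔ g⁻¹ * x * g ∈ K := by
  constructor
  · rintro ⟨k, hk, rfl⟩
    simpa [mul_assoc] using hk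
  · intro h
    exact ⟨_, h, by simp [mul_assoc]⟩

lemma cj_cj (g h : GL ι F) (K : Subgroup (GL ι F)) : cj g (cj h K) = cj (g * h) K := by
  ext x
  simp [mem_cj, mul_assoc]

lemma cj_one (K : Subgroup (GL ι F)) : cj 1 K = K := by
  ext x
  simp [mem_cj]

lemma normalises_iff_cj {H N : Subgroup (GL ι F)} : Normalises H N ↔ ∀ h ∈ H, cj h N ≤ N := by
  constructor
  · rintro hn h hh _ ⟨x, hx, rfl⟩
    exact hn h hh x hx
  · intro hn h hh x hx
    exact hn h hh ⟨x, hx, rfl⟩

lemma Normalises.commutator {H N : Subgroup (GL ι F)} (h : Normalises H N) : Normalises H ⁅N, N⁆ := by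
  rw [normalises_iff_cj] at h ⊢
  intro g hg
  rw [cj, Subgroup.map_commutator]
  exact Subgroup.commutator_mono (h g hg) (h g hg)

lemma cj_le_scalars_iff {g : GL ι F} {K : Subgroup (GL ι F)} :
    cj g K ≤ scalars ι F ↔ K ≤ scalars ι F := by
  constructor
  · intro h x hx
    have hx' := h (mem_cj.mpr (by simpa [mul_assoc] using hx) : g * x * g⁻¹ ∈ cj g K)
    simpa [mul_assoc] using scalars_normal.conj_mem _ hx' g⁻¹
  · intro h x hx
    have := scalars_normal.conj_mem _ (h (mem_cj.mp hx)) g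
    simpa [mul_assoc] using this

lemma mem_spanAlg_cj {g : GL ι F} {K : Subgroup (GL ι F)} {X : Matrix ι ι F} :
    X ∈ spanAlg (cj g K) ↔ conjM g⁻¹ X ∈ spanAlg K := by
  constructor
  · intro h
    have : spanAlg (cj g K) ≤ (spanAlg K).comap (conjM g⁻¹).toAlgHom := by
      apply spanAlg_le
      intro x hx
      show conjM g⁻¹ (x : Matrix ι ι F) ∈ spanAlg K
      rw [conjM_coe, inv_inv]
      exact coe_mem_spanAlg (mem_cj.mp hx)
    exact this h
  · intro h
    have : spanAlg K ≤ (spanAlg (cj g K)).comap (conjM g).toAlgHom := by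
      apply spanAlg_le
      intro x hx
      show conjM g (x : Matrix ι ι F) ∈ spanAlg (cj g K)
      rw [conjM_coe]
      exact coe_mem_spanAlg (mem_cj.mpr (by simpa [mul_assoc] using hx))
    have h' : conjM g (conjM g⁻¹ X) ∈ spanAlg (cj g K) := this h
    rwa [← conjM_mul, mul_inv_cancel, conjM_one] at h'

/-- A perfect group whose commutators with `y` are scalar commutes with `y`. -/
lemma commute_of_perfect {K : Subgroup (GL ι F)} (hK : ⁅K, K⁆ = K) {y : GL ι F}
    (h : ∀ m ∈ K, m * y * m⁻¹ * y⁻¹ ∈ scalars ι F) : ∀ m ∈ K, m * y = y * m := by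
  have hle : ⁅K, K⁆ ≤ Subgroup.centralizer {y} := by
    rw [Subgroup.commutator_le]
    intro a ha b hb
    rw [Subgroup.mem_centralizer_singleton_iff]
    obtain ⟨ca, hca, ha'⟩ : ∃ c, c ∈ scalars ι F ∧ a * y = c * (y * a) :=
      ⟨_, h a ha, by simp [mul_assoc]⟩
    obtain ⟨cb, hcb, hb'⟩ : ∃ c, c ∈ scalars ι F ∧ b * y = c * (y * b) :=
      ⟨_, h b hb, by simp [mul_assoc]⟩
    have hai : a⁻¹ * y = ca⁻¹ * (y * a⁻¹) := by
      have e : y * a⁻¹ = ca * (a⁻¹ * y) := by
        have := congrArg (fun z => a⁻¹ * z * a⁻¹) ha'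
        simp only [← mul_assoc, inv_mul_cancel, one_mul] at this
        rw [this, ← scalars_commute hca a⁻¹]
        simp [mul_assoc]
      rw [e, inv_mul_cancel_left]
    have hbi : b⁻¹ * y = cb⁻¹ * (y * b⁻¹) := by
      have e : y * b⁻¹ = cb * (b⁻¹ * y) := by
        have := congrArg (fun z => b⁻¹ * z * b⁻¹) hb'
        simp only [← mul_assoc, inv_mul_cancel, one_mul] at this
        rw [this, ← scalars_commute hcb b⁻¹]
        simp [mul_assoc]
      rw [e, inv_mul_cancel_left]
    have hcai := (scalars ι F).inv_mem hca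
    have hcbi := (scalars ι F).inv_mem hcb
    rw [commutatorElement_def]
    calc a * b * a⁻¹ * b⁻¹ * y = a * b * a⁻¹ * (b⁻¹ * y) := by simp only [mul_assoc]
      _ = cb⁻¹ * (a * b * (a⁻¹ * y) * b⁻¹) := by
        rw [hbi, ← mul_assoc _ cb⁻¹, ← scalars_commute hcbi]; simp only [mul_assoc]
      _ = cb⁻¹ * (ca⁻¹ * (a * (b * y) * a⁻¹ * b⁻¹)) := by
        rw [hai, ← mul_assoc _ ca⁻¹, ← scalars_commute hcai]; simp only [mul_assoc]
      _ = cb⁻¹ * (ca⁻¹ * (cb * (a * y * b * a⁻¹ * b⁻¹))) := by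
        rw [hb', ← mul_assoc a cb, ← scalars_commute hcb a]; simp only [mul_assoc]
      _ = cb⁻¹ * (ca⁻¹ * (cb * (ca * (y * (a * b * a⁻¹ * b⁻¹))))) := by
        rw [ha']; simp only [mul_assoc]
      _ = y * (a * b * a⁻¹ * b⁻¹) := by
        rw [← mul_assoc ca⁻¹ cb, scalars_commute hcai cb, mul_assoc, inv_mul_cancel_left,
          inv_mul_cancel_left]
  intro m hm
  exact Subgroup.mem_centralizer_singleton_iff.mp (hle (by rw [hK]; exact hm))

variable [Finite F]

/-- Clifford's theorem for one normal subgroup. -/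
theorem normal_cases {H N : Subgroup (GL ι F)} [Nonempty ι] (hirr : ActsIrreducibly (matrixSet H))
    (hNH : N ≤ H) (hnorm : Normalises H N) (hns : ¬ N ≤ scalars ι F) :
    HasImprimitive H ∨ HasExtension H ∨ HasTensor H ∨ spanAlg N = ⊤ := by
  rcases spanAlg_trichotomy hirr hnorm with ⟨t, e, ht, he⟩ | ⟨r, hr, hE⟩ | ⟨d, φ, hd, hinj, hφ⟩
  · left
    obtain ⟨m, hm, hst, htr⟩ :=
      he.decomposition hirr (fun g hg a => conjM_mem_spanAlg_iff hnorm hg) ht
    exact ⟨N, t, e, m, hNH, hnorm, he, hm, hst, htr⟩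
  · exact Or.inr (Or.inl ⟨N, r, hNH, hnorm, hns, hr, hE⟩)
  · haveI : Nonempty (Fin d) := ⟨⟨0, hd⟩⟩
    obtain ⟨m, e, B, hframe⟩ := exists_frame φ
    have hmem : ∀ X, X ∈ spanAlg N ↔ ∃ a, X = framed e B (a ⊗ₖ (1 : Matrix (Fin m) (Fin m) F)) := by
      intro X
      rw [← hφ, AlgHom.mem_range]
      exact exists_congr fun a => by rw [hframe, eq_comm]
    have hd2 : 2 ≤ d := by
      by_contra h
      have hd1 : d = 1 := by omega
      subst hd1
      apply hns
      apply le_scalars_of_span_le_bot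
      intro X hX
      obtain ⟨a, rfl⟩ := (hmem X).mp hX
      have : a = a 0 0 • (1 : Matrix (Fin 1) (Fin 1) F) := by
        ext i j
        simp [Subsingleton.elim i 0, Subsingleton.elim j 0]
      rw [this, Matrix.smul_kronecker, Matrix.one_kronecker_one, map_smul, map_one]
      exact Subalgebra.smul_mem _ (one_mem _) _
    rcases Nat.lt_or_ge m 2 with hm | hm
    · right; right; right
      have hm1 : m = 1 := by
        rcases Nat.eq_zero_or_pos m with h | h
        · subst h
          exact isEmptyElim (e (Classical.arbitrary ι)).2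
        · omega
      subst hm1
      rw [eq_top_iff]
      intro X _
      refine (hmem X).mpr ⟨Matrix.of fun i j => (framed e B).symm X (i, 0) (j, 0), ?_⟩
      rw [← AlgEquiv.symm_apply_eq]
      ext ⟨i, k⟩ ⟨j, l⟩
      simp [Subsingleton.elim k 0, Subsingleton.elim l 0]
    · right; right; left
      refine ⟨N, d, m, e, B, hNH, hnorm, hd2, hm, hmem, fun g hg => ?_⟩
      refine mem_tensorProductSubgroup hd e B (fun a => ?_) (by omega)
      exact (hmem _).mp ((conjM_mem_spanAlg_iff hnorm hg).mpr ((hmem _).mpr ⟨a, rfl⟩))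

/-- A minimal non-scalar subgroup normalised by a given group. -/
lemma exists_minimal_normalised {H N : Subgroup (GL ι F)} (hn : Normalises H N) (hns : ¬ N ≤ scalars ι F) :
    ∃ K, K ≤ N ∧ Normalises H K ∧ ¬ K ≤ scalars ι F ∧
      ∀ L, L ≤ K → Normalises H L → L ≤ scalars ι F ∨ L = K := by
  classical
  obtain ⟨K, hK⟩ := Set.Finite.exists_minimal
    (Set.toFinite {K : Subgroup (GL ι F) | K ≤ N ∧ Normalises H K ∧ ¬ K ≤ scalars ι F})
    ⟨N, le_rfl, hn, hns⟩
  refine ⟨K, hK.prop.1, hK.prop.2.1, hK.prop.2.2, fun L hL hLn => ?_⟩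
  by_cases hLs : L ≤ scalars ι F
  · exact Or.inl hLs
  · exact Or.inr (le_antisymm hL (hK.le_of_le ⟨hL.trans hK.prop.1, hLn, hLs⟩ hL))

/-- The structure of irreducible subgroups of `GL(ι, F)`. -/
theorem structure_of_irreducible {H : Subgroup (GL ι F)} (hirr : ActsIrreducibly (matrixSet H))
    (hn : 2 ≤ Fintype.card ι) :
    HasImprimitive H ∨ HasExtension H ∨ HasTensor H ∨ HasSymplecticCore H ∨ HasTensorInduced H ∨
      HasCore H := by
  classical
  haveI : Nonempty ι := Fintype.card_pos_iff.mp (by omega)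
  have hHns : ¬ H ≤ scalars ι F := fun h => by have := card_le_one_of_le_scalars h hirr; omega
  obtain ⟨N, hNH, hNn, hNs, hNmin⟩ := exists_minimal_normalised (Normalises.self H) hHns
  rcases normal_cases hirr hNH hNn hNs with h | h | h | hfull
  · exact Or.inl h
  · exact Or.inr (Or.inl h)
  · exact Or.inr (Or.inr (Or.inl h))
  have habs := absIrred_of_span_top hfull
  rcases hNmin ⁅N, N⁆ (Subgroup.commutator_le_self N) hNn.commutator with hder | hperf
  · -- symplectic type
    obtain ⟨r, hr⟩ := isSymplecticCore_of_minimal hNn hNs hNmin habs hfull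
      (fun x hx y hy => hder (Subgroup.commutator_mem_commutator hx hy))
    exact Or.inr (Or.inr (Or.inr (Or.inl ⟨N, r, hNH, hNn, hr⟩)))
  obtain ⟨M, hMN, hMn, hMs, hMmin⟩ := exists_minimal_normalised (Normalises.self N) hNs
  -- the conjugates of M
  have hconj : ∀ h ∈ H, cj h M ≤ N ∧ Normalises N (cj h M) ∧ ¬ cj h M ≤ scalars ι F ∧
      ∀ L, L ≤ cj h M → Normalises N L → L ≤ scalars ι F ∨ L = cj h M := by
    intro h hh
    refine ⟨(Subgroup.map_mono hMN).trans ((normalises_iff_cj.mp hNn) h hh), ?_,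
      fun h' => hMs (cj_le_scalars_iff.mp h'), ?_⟩
    · intro x hx m hm
      rw [mem_cj] at hm ⊢
      have := hMn (h⁻¹ * x * h) (by simpa using hNn h⁻¹ (H.inv_mem hh) x hx) _ hm
      simpa [mul_assoc] using this
    · intro L hL hLn
      have h1 : cj h⁻¹ L ≤ M := by
        have := Subgroup.map_mono (f := (MulAut.conj h⁻¹).toMonoidHom) hL
        rwa [← cj, ← cj, cj_cj, inv_mul_cancel, cj_one] at this
      have h2 : Normalises N (cj h⁻¹ L) := by
        intro x hx m hm
        rw [mem_cj] at hm ⊢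
        have := hLn (h * x * h⁻¹) (hNn h hh x hx) _ hm
        simpa [mul_assoc] using this
      rcases hMmin _ h1 h2 with h3 | h3
      · exact Or.inl (cj_le_scalars_iff.mp h3)
      · right
        rw [← h3, cj_cj, mul_inv_cancel, cj_one]
  let S : Set (Subgroup (GL ι F)) := (fun h => cj h M) '' (H : Set (GL ι F))
  haveI : Fintype S := Fintype.ofFinite _
  let t := Fintype.card S
  let Ms : Fin t → Subgroup (GL ι F) := fun i => ((Fintype.equivFin S).symm i).1
  have hMsinj : Function.Injective Ms :=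
    Subtype.val_injective.comp (Fintype.equivFin S).symm.injective
  have hMsmem : ∀ i, ∃ h ∈ H, Ms i = cj h M := fun i => by
    obtain ⟨h, hh, he⟩ := ((Fintype.equivFin S).symm i).2
    exact ⟨h, hh, he.symm⟩
  have hMscover : ∀ h ∈ H, ∃ i, Ms i = cj h M := fun h hh =>
    ⟨Fintype.equivFin S ⟨_, h, hh, rfl⟩, by simp [Ms]⟩
  obtain ⟨i₀, hi₀⟩ := hMscover 1 H.one_mem
  rw [cj_one] at hi₀
  have hMsN : ∀ i, Ms i ≤ N := fun i => by
    obtain ⟨h, hh, he⟩ := hMsmem i
    rw [he]; exact (hconj h hh).1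
  have hMsmin : ∀ i, Normalises N (Ms i) ∧ ¬ Ms i ≤ scalars ι F ∧
      ∀ L, L ≤ Ms i → Normalises N L → L ≤ scalars ι F ∨ L = Ms i := fun i => by
    obtain ⟨h, hh, he⟩ := hMsmem i
    rw [he]; exact (hconj h hh).2
  have hperm : ∀ h ∈ H, ∀ i, ∃ j, cj h (Ms i) = Ms j := fun h hh i => by
    obtain ⟨k, hk, he⟩ := hMsmem i
    obtain ⟨j, hj⟩ := hMscover (h * k) (H.mul_mem hh hk)
    exact ⟨j, by rw [he, cj_cj, hj]⟩
  have hsup : ⨆ i, Ms i = N := by
    refine (hNmin _ (iSup_le hMsN) ?_).resolve_left fun h => hMs (hi₀ ▸ le_trans (le_iSup Ms i₀) h)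
    rw [normalises_iff_cj]
    intro h hh
    rw [cj, Subgroup.map_iSup]
    refine iSup_le fun i => ?_
    obtain ⟨j, hj⟩ := hperm h hh i
    rw [← cj, hj]
    exact le_iSup Ms j
  have hcross : ∀ i j, i ≠ j → ∀ x ∈ Ms i, ∀ y ∈ Ms j, x * y * x⁻¹ * y⁻¹ ∈ scalars ι F := by
    intro i j hij x hx y hy
    have hL : Ms i ⊓ Ms j ≤ scalars ι F := by
      rcases (hMsmin i).2.2 _ inf_le_left (fun g hg z hz =>
        ⟨(hMsmin i).1 g hg z hz.1, (hMsmin j).1 g hg z hz.2⟩) with h | h
      · exact h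
      · exfalso
        have hle : Ms i ≤ Ms j := h ▸ inf_le_right
        rcases (hMsmin j).2.2 _ hle (hMsmin i).1 with h' | h'
        · exact (hMsmin i).2.1 h'
        · exact hij (hMsinj h')
    apply hL
    refine ⟨?_, (Ms j).mul_mem ((hMsmin j).1 x (hMsN i hx) y hy) ((Ms j).inv_mem hy)⟩
    have := (Ms i).mul_mem hx ((hMsmin i).1 y (hMsN j hy) x⁻¹ ((Ms i).inv_mem hx))
    simpa [mul_assoc] using this
  have hMperf : ⁅M, M⁆ = M := by
    refine (hMmin _ (Subgroup.commutator_le_self M) hMn.commutator).resolve_left fun hMder => ?_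
    have hown : ∀ i, ⁅Ms i, Ms i⁆ ≤ scalars ι F := fun i => by
      obtain ⟨h, hh, he⟩ := hMsmem i
      rw [he, cj, ← Subgroup.map_commutator]
      exact cj_le_scalars_iff.mpr hMder
    have hall : ∀ i j, ∀ x ∈ Ms i, ∀ y ∈ Ms j, x * y * x⁻¹ * y⁻¹ ∈ scalars ι F := fun i j x hx y hy => by
      rcases eq_or_ne i j with rfl | hij
      · exact hown i (Subgroup.commutator_mem_commutator hx hy)
      · exact hcross i j hij x hx y hy
    let π := QuotientGroup.mk' (scalars ι F)
    have hcomm : ∀ i j, ∀ x ∈ Ms i, ∀ y ∈ Ms j, π x * π y = π y * π x := fun i j x hx y hy => by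
      have h1 : π (x * y * x⁻¹ * y⁻¹) = 1 :=
        (QuotientGroup.eq_one_iff _).mpr (hall i j x hx y hy)
      simp only [map_mul, map_inv] at h1
      exact mul_inv_eq_iff_eq_mul.mp (mul_inv_eq_one.mp h1)
    have hstep : ∀ i, ∀ x ∈ Ms i, ∀ y ∈ N, π x * π y = π y * π x := by
      intro i x hx y hy
      have hle : (⨆ j, Ms j) ≤ (Subgroup.centralizer {π x}).comap π :=
        iSup_le fun j z hz => Subgroup.mem_centralizer_singleton_iff.mpr (hcomm i j x hx z hz).symm
      exact (Subgroup.mem_centralizer_singleton_iff.mp (hle (hsup.symm ▸ hy))).symm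
    apply hNs
    rw [← hperf, Subgroup.commutator_le]
    intro x hx y hy
    have hle : (⨆ i, Ms i) ≤ (Subgroup.centralizer {π y}).comap π :=
      iSup_le fun i z hz => Subgroup.mem_centralizer_singleton_iff.mpr (hstep i z hz y hy)
    have hxy := Subgroup.mem_centralizer_singleton_iff.mp (hle (hsup.symm ▸ hx))
    rw [← QuotientGroup.eq_one_iff, commutatorElement_def]
    show π (x * y * x⁻¹ * y⁻¹) = 1
    simp only [map_mul, map_inv]
    rw [hxy]
    simp
  have hMsperf : ∀ i, ⁅Ms i, Ms i⁆ = Ms i := fun i => by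
    obtain ⟨h, hh, he⟩ := hMsmem i
    rw [he, cj, ← Subgroup.map_commutator, hMperf]
  rcases Nat.lt_or_ge t 2 with ht | ht
  · -- almost simple
    have hsub : ∀ i, i = i₀ := fun i => Fin.ext (by have := i.isLt; have := i₀.isLt; omega)
    have hNM : N = M := le_antisymm (hsup ▸ iSup_le fun i => by rw [hsub i, hi₀]) hMN
    subst hNM
    refine Or.inr (Or.inr (Or.inr (Or.inr (Or.inr ⟨N, hNH, hNn, hMperf, ?_, ?_, ?_, habs, hfull⟩))))
    · haveI : Nontrivial (N ⧸ (scalars ι F).subgroupOf N) := QuotientGroup.nontrivial_iff.mpr (by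
        intro h
        exact hNs (Subgroup.subgroupOf_eq_top.mp h))
      refine ⟨fun K hK => ?_⟩
      let K' := K.comap (QuotientGroup.mk' ((scalars ι F).subgroupOf N))
      have hK'n : Normalises N (K'.map N.subtype) := by
        rintro x hx _ ⟨k, hk, rfl⟩
        exact ⟨⟨x, hx⟩ * k * (⟨x, hx⟩ : N)⁻¹, (hK.comap _).conj_mem k hk _, rfl⟩
      have hsurj := QuotientGroup.mk'_surjective ((scalars ι F).subgroupOf N)
      rcases hMmin _ (Subgroup.map_subtype_le _) hK'n with h | h
      · left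
        rw [eq_bot_iff]
        intro q hq
        obtain ⟨x, rfl⟩ := hsurj q
        rw [Subgroup.mem_bot, QuotientGroup.mk'_apply, QuotientGroup.eq_one_iff]
        exact h ⟨x, hq, rfl⟩
      · right
        rw [eq_top_iff]
        intro q _
        obtain ⟨x, rfl⟩ := hsurj q
        have hx : (x : GL ι F) ∈ K'.map N.subtype := by rw [h]; exact x.2
        obtain ⟨k, hk, hkx⟩ := hx
        exact Subtype.ext hkx ▸ hk
    · intro hc
      apply hNs
      rw [← hperf, Subgroup.commutator_le]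
      intro x hx y hy
      have := hc.is_comm.comm (QuotientGroup.mk (⟨x, hx⟩ : N)) (QuotientGroup.mk (⟨y, hy⟩ : N))
      rw [← mul_inv_eq_one] at this
      have h1 : ((⟨x, hx⟩ : N) * ⟨y, hy⟩ * ((⟨y, hy⟩ : N) * ⟨x, hx⟩)⁻¹ :
          N) ∈ (scalars ι F).subgroupOf N := (QuotientGroup.eq_one_iff _).mp (by exact this)
      rw [commutatorElement_def]
      simpa [Subgroup.mem_subgroupOf, mul_assoc] using h1
    · intro h hh hx
      refine centralizer_scalar habs fun x hxN => ((commute_of_perfect hMperf (fun m hm => ?_)) x hxN).symm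
      have := (scalars ι F).inv_mem (hx m hm)
      simpa [mul_assoc] using this
  · -- tensor induced
    have hcommute : ∀ i j, i ≠ j → ∀ x ∈ Ms i, ∀ y ∈ Ms j, x * y = y * x := fun i j hij x hx y hy =>
      commute_of_perfect (hMsperf i) (fun m hm => hcross i j hij m hm y hy) x hx
    -- a matrix commuting with all the factors is scalar
    have hscalar : ∀ X : Matrix ι ι F,
        (∀ i, ∀ x ∈ Ms i, X * (x : Matrix ι ι F) = (x : Matrix ι ι F) * X) → ∃ c : F, X = c • 1 := by
      intro X hX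
      apply habs.2
      rintro _ ⟨x, hx, rfl⟩
      let C : Subgroup (GL ι F) :=
        { carrier := {g | X * (g : Matrix ι ι F) = (g : Matrix ι ι F) * X}
          one_mem' := by simp
          mul_mem' := fun {a b} ha hb => by
            show X * _ = _ * X
            rw [Units.val_mul, ← mul_assoc, ha, mul_assoc, hb, mul_assoc]
          inv_mem' := fun {a} ha => by
            show X * _ = _ * X
            calc X * ((a⁻¹ : GL ι F) : Matrix ι ι F)
                = ((a⁻¹ : GL ι F) : Matrix ι ι F) * ((a : Matrix ι ι F) * X) * ((a⁻¹ : GL ι F) : Matrix ι ι F) := by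
                  rw [← mul_assoc, Units.inv_mul, one_mul]
              _ = ((a⁻¹ : GL ι F) : Matrix ι ι F) * X := by
                  rw [← ha, mul_assoc, mul_assoc, Units.mul_inv, mul_one] }
      have hle : (⨆ i, Ms i) ≤ C := iSup_le fun i z hz => hX i z hz
      exact hle (hsup.symm ▸ hx)
    have hMirr : ActsIrreducibly (matrixSet N) := habs.1
    rcases spanAlg_trichotomy hMirr hMn with ⟨k, e, hk, he⟩ | ⟨r, hr, hE⟩ | ⟨d, φ, hd, hinj, hφ⟩
    · exfalso
      have hcen : ∀ l, e l = 1 := by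
        intro l
        obtain ⟨c, hc⟩ := hscalar (e l) (fun i x hx => by
          rcases eq_or_ne i i₀ with rfl | hi
          · exact he.central l _ (coe_mem_spanAlg (hi₀ ▸ hx))
          · symm
            refine commute_spanAlg (N := M) (fun y hy => ?_) (he.mem l)
            rw [← Units.val_mul, ← Units.val_mul,
              hcommute i i₀ hi x hx y (hi₀.symm ▸ hy)])
        have hcc : c * c = c := by
          have := he.idem l
          rw [hc, smul_mul_smul_comm, one_mul] at this
          have := congrFun (congrFun this (Classical.arbitrary ι)) (Classical.arbitrary ι)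
          simpa using this
        have hc0 : c ≠ 0 := fun h => he.ne_zero l (by rw [hc, h, zero_smul])
        rw [hc, mul_left_cancel₀ hc0 (hcc.trans (mul_one c).symm), one_smul]
      have := he.orth ⟨0, by omega⟩ ⟨1, by omega⟩ (by simp)
      rw [hcen, hcen, one_mul] at this
      exact one_ne_zero this
    · exfalso
      have hle : centreAlg (spanAlg M) ≤ ⊥ := by
        intro z hz
        obtain ⟨c, rfl⟩ := hscalar z (fun i x hx => by
          rcases eq_or_ne i i₀ with rfl | hi
          · exact (mem_centreAlg.mp hz).2 _ (coe_mem_spanAlg (hi₀ ▸ hx))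
          · symm
            refine commute_spanAlg (N := M) (fun y hy => ?_) (mem_centreAlg.mp hz).1
            rw [← Units.val_mul, ← Units.val_mul,
              hcommute i i₀ hi x hx y (hi₀.symm ▸ hy)])
        exact Subalgebra.smul_mem _ (one_mem _) c
      have := hE.finrank_eq
      rw [le_bot_iff.mp hle, Subalgebra.finrank_bot] at this
      omega
    haveI : Nonempty (Fin d) := ⟨⟨0, hd⟩⟩
    have hd2 : 2 ≤ d := by
      by_contra h
      have hd1 : d = 1 := by omega
      subst hd1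
      apply hMs
      apply le_scalars_of_span_le_bot
      intro X hX
      rw [← hφ, AlgHom.mem_range] at hX
      obtain ⟨a, rfl⟩ := hX
      have : a = a 0 0 • (1 : Matrix (Fin 1) (Fin 1) F) := by
        ext i j
        simp [Subsingleton.elim i 0, Subsingleton.elim j 0]
      rw [this, map_smul, map_one]
      exact Subalgebra.smul_mem _ (one_mem _) _
    choose g hgH hg using hMsmem
    let φs : Fin t → Matrix (Fin d) (Fin d) F →ₐ[F] Matrix ι ι F := fun i =>
      (conjM (g i)).toAlgHom.comp φ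
    have hφs : ∀ i X, X ∈ spanAlg (Ms i) ↔ ∃ a, X = φs i a := by
      intro i X
      rw [hg i, mem_spanAlg_cj, ← hφ, AlgHom.mem_range]
      refine exists_congr fun a => ⟨fun h => ?_, fun h => ?_⟩
      · show X = conjM (g i) (φ a)
        rw [h, ← conjM_mul, mul_inv_cancel, conjM_one]
      · rw [h]
        exact (conjM_inv_conjM (g i) (φ a)).symm
    obtain ⟨Φ, hΦ⟩ := exists_combined φs (fun i j hij a b =>
      spanAlg_commute_spanAlg (hcommute i j hij) ((hφs i _).mpr ⟨a, rfl⟩) ((hφs j _).mpr ⟨b, rfl⟩))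
      hd
    obtain ⟨e, B, hframe⟩ := exists_frame_of_centralizer_scalar Φ (fun X hX => hscalar X (fun i x hx => by
      obtain ⟨a, ha⟩ := (hφs i _).mp (coe_mem_spanAlg hx)
      rw [ha, ← hΦ]
      exact hX _))
    have hmem : ∀ i X, X ∈ spanAlg (Ms i) ↔ ∃ a, X = framed e B (factorM i a) := fun i X => by
      rw [hφs]
      exact exists_congr fun a => by rw [← hframe, hΦ]
    have hpermH : ∀ h ∈ H, ∃ π : Equiv.Perm (Fin t), ∀ i, cj h (Ms i) = Ms (π i) := by
      intro h hh
      choose π hπ using hperm h hh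
      have hπinj : Function.Injective π := fun i j hij => hMsinj (by
        have := congrArg (cj h⁻¹) (show cj h (Ms i) = cj h (Ms j) by rw [hπ i, hπ j, hij])
        rwa [cj_cj, cj_cj, inv_mul_cancel, cj_one, cj_one] at this)
      exact ⟨Equiv.ofBijective π (Finite.injective_iff_bijective.mp hπinj), hπ⟩
    refine Or.inr (Or.inr (Or.inr (Or.inr (Or.inl ⟨t, d, Ms, e, B, ht, hd2,
      fun i => (hMsN i).trans hNH, hMsperf, fun i => (hMsmin i).2.1, hmem,
      hsup.symm ▸ hNn, hsup.symm ▸ hfull, hpermH, fun i j => ?_, fun h hh => ?_⟩))))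
    · refine ⟨g j * (g i)⁻¹, H.mul_mem (hgH j) (H.inv_mem (hgH i)), ?_⟩
      show cj (g j * (g i)⁻¹) (Ms i) = Ms j
      rw [hg i, hg j, cj_cj, inv_mul_cancel_right]
    · obtain ⟨π, hπ⟩ := hpermH h hh
      refine mem_tensorWreathSubgroup (by omega) (by omega) e B π (fun i a => ?_) (fun X hX => ?_)
      · apply (hmem (π i) _).mp
        rw [← hπ i, mem_spanAlg_cj, conjM_inv_conjM]
        exact (hmem i _).mpr ⟨a, rfl⟩
      · refine hscalar X fun i x hx => ?_
        obtain ⟨a, ha⟩ := (hmem i _).mp (coe_mem_spanAlg hx)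
        rw [ha]
        exact hX i a

end Cfsg.Agent.Lib.Aschbacher
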