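/-
Forms given by Gram matrices with a twist `σ`, invariant under a matrix group, and their uniqueness up to a
scalar for groups spanning the matrix algebra.
-/
import Cfsg.Agent.Lib.Aschbacher.Structure

set_option autoImplicit false

namespace Cfsg.Agent.Lib.Aschbacher

open Cfsg Cfsg.Geo Matrix

variable {ι : Type} [Fintype ι] [DecidableEq ι] {F : Type*} [Field F]

/-- The form `(u, v) ↦ uᵀ G σ(v)`. -/
def formM (σ : F ≃+* F) (G : Matrix ι ι F) (u v : ι → F) : F :=
  u ⬝ᵥ (G *ᵥ fun i => σ (v i))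

/-- Entrywise application of an automorphism. -/
abbrev twist (σ : F ≃+* F) (A : Matrix ι ι F) : Matrix ι ι F := A.map σ

lemma twist_mul (σ : F ≃+* F) (A B : Matrix ι ι F) : twist σ (A * B) = twist σ A * twist σ B :=
  Matrix.map_mul

lemma twist_one (σ : F ≃+* F) : twist σ (1 : Matrix ι ι F) = 1 :=
  Matrix.map_one _ (map_zero σ) (map_one σ)

lemma twist_smul (σ : F ≃+* F) (c : F) (A : Matrix ι ι F) : twist σ (c • A) = σ c • twist σ A := by
  ext i j
  simp

lemma twist_refl (A : Matrix ι ι F) : twist (RingEquiv.refl F) A = A := by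
  ext i j
  simp

lemma twist_symm (σ : F ≃+* F) (A : Matrix ι ι F) : twist σ (twist σ.symm A) = A := by
  ext i j
  simp

lemma twist_twist {σ : F ≃+* F} (hσ : ∀ a, σ (σ a) = a) (A : Matrix ι ι F) :
    twist σ (twist σ A) = A := by
  ext i j
  simp [hσ]

/-- Entrywise application of an automorphism to invertible matrices. -/
def twistGL (σ : F ≃+* F) : GL ι F →* GL ι F := Matrix.GeneralLinearGroup.map (σ : F →+* F)

lemma coe_twistGL (σ : F ≃+* F) (g : GL ι F) :
    ((twistGL σ g : GL ι F) : Matrix ι ι F) = twist σ (g : Matrix ι ι F) := rfl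

lemma formM_mulVec (σ : F ≃+* F) (G A B : Matrix ι ι F) (u v : ι → F) :
    formM σ G (A *ᵥ u) (B *ᵥ v) = formM σ (Aᵀ * G * twist σ B) u v := by
  have hB : (fun i => σ ((B *ᵥ v) i)) = twist σ B *ᵥ fun i => σ (v i) := by
    funext i
    simp [Matrix.mulVec, dotProduct, map_sum]
  rw [formM, formM, hB, ← Matrix.mulVec_mulVec, ← Matrix.mulVec_mulVec,
    Matrix.dotProduct_mulVec u Aᵀ, Matrix.vecMul_transpose]

lemma formM_smul (σ : F ≃+* F) (c : F) (G : Matrix ι ι F) (u v : ι → F) :
    formM σ (c • G) u v = c * formM σ G u v := by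
  rw [formM, formM, Matrix.smul_mulVec, dotProduct_smul, smul_eq_mul]

lemma formM_single (σ : F ≃+* F) (G : Matrix ι ι F) (i j : ι) :
    formM σ G (Pi.single i 1) (Pi.single j 1) = G i j := by
  have : (fun l => σ ((Pi.single j (1 : F) : ι → F) l)) = Pi.single j 1 := by
    funext l
    rcases eq_or_ne l j with rfl | h
    · simp
    · simp [h]
  rw [formM, this, single_dotProduct, one_mul, Matrix.mulVec_single_one]
  rfl

lemma formM_injective (σ : F ≃+* F) {G G' : Matrix ι ι F} (h : ∀ u v, formM σ G u v = formM σ G' u v) :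
    G = G' := by
  ext i j
  rw [← formM_single σ G, ← formM_single σ G', h]

lemma formM_add_left (σ : F ≃+* F) (G : Matrix ι ι F) (x y v : ι → F) :
    formM σ G (x + y) v = formM σ G x v + formM σ G y v := add_dotProduct ..

lemma formM_smul_left (σ : F ≃+* F) (G : Matrix ι ι F) (c : F) (x v : ι → F) :
    formM σ G (c • x) v = c * formM σ G x v := by
  rw [formM, smul_dotProduct, smul_eq_mul]
  rfl

lemma formM_add_right (σ : F ≃+* F) (G : Matrix ι ι F) (v x y : ι → F) :
    formM σ G v (x + y) = formM σ G v x + formM σ G v y := by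
  simp only [formM, ← dotProduct_add, ← Matrix.mulVec_add]
  congr 2
  funext i
  simp

lemma formM_smul_right (σ : F ≃+* F) (G : Matrix ι ι F) (c : F) (v x : ι → F) :
    formM σ G v (c • x) = σ c * formM σ G v x := by
  have : (fun i => σ ((c • x) i)) = σ c • fun i => σ (x i) := by
    funext i
    simp
  rw [formM, this, Matrix.mulVec_smul, dotProduct_smul, smul_eq_mul]
  rfl

/-- A form linear in the first and semilinear in the second argument comes from its Gram matrix. -/
lemma eq_formM {σ : F ≃+* F} {f : (ι → F) → (ι → F) → F}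
    (al : ∀ x y v, f (x + y) v = f x v + f y v) (sl : ∀ (c : F) (x v : ι → F), f (c • x) v = c * f x v)
    (ar : ∀ v x y, f v (x + y) = f v x + f v y)
    (sr : ∀ (c : F) (v x : ι → F), f v (c • x) = σ c * f v x) :
    f = formM σ (gramMatrix f) := by
  funext u v
  let lu : (ι → F) → (ι → F) →ₗ[F] F := fun w =>
    { toFun := fun x => f x w
      map_add' := fun x y => al x y w
      map_smul' := fun c x => sl c x w }
  let rv : (ι → F) → (ι → F) →+ F := fun x => AddMonoidHom.mk' (fun w => f x w) (ar x)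
  have hu : ∀ w, f u w = ∑ i, u i * f (Pi.single i 1) w := by
    intro w
    show lu w u = ∑ i, u i * lu w (Pi.single i 1)
    conv_lhs => rw [pi_eq_sum_univ' u]
    rw [map_sum]
    exact Finset.sum_congr rfl fun i _ => by rw [map_smul, smul_eq_mul]
  have hv : ∀ x, f x v = ∑ j, σ (v j) * f x (Pi.single j 1) := by
    intro x
    show rv x v = _
    conv_lhs => rw [pi_eq_sum_univ' v]
    rw [map_sum]
    exact Finset.sum_congr rfl fun j _ => sr _ _ _
  rw [hu, formM, dotProduct]
  refine Finset.sum_congr rfl fun i _ => ?_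
  rw [hv, Matrix.mulVec, dotProduct]
  congr 1
  exact Finset.sum_congr rfl fun j _ => mul_comm _ _

lemma eq_formM_of_bilinear {f : (ι → F) → (ι → F) → F} (hf : IsBilinearForm f) :
    f = formM (RingEquiv.refl F) (gramMatrix f) :=
  eq_formM hf.add_left hf.smul_left hf.add_right hf.smul_right

lemma nondegenerate_formM (σ : F ≃+* F) (G : GL ι F) : IsNondegenerateForm (formM σ (G : Matrix ι ι F)) := by
  intro v hv
  have hσv : (fun i => σ (v i)) ≠ 0 := fun h => hv (funext fun i => by
    have := congrFun h i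
    simpa using this)
  constructor
  · have hne : (G : Matrix ι ι F) *ᵥ (fun i => σ (v i)) ≠ 0 := fun h => hσv (by
      have := congrArg (fun w => ((G⁻¹ : GL ι F) : Matrix ι ι F) *ᵥ w) h
      simpa [Matrix.mulVec_mulVec] using this)
    obtain ⟨i, hi⟩ := Function.ne_iff.mp hne
    exact ⟨Pi.single i 1, by rw [formM, single_dotProduct, one_mul]; exact hi⟩
  · have hne : v ᵥ* (G : Matrix ι ι F) ≠ 0 := fun h => hv (by
      have := congrArg (fun w => w ᵥ* ((G⁻¹ : GL ι F) : Matrix ι ι F)) h
      simpa [Matrix.vecMul_vecMul] using this)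
    obtain ⟨i, hi⟩ := Function.ne_iff.mp hne
    refine ⟨Pi.single i 1, ?_⟩
    have : (fun l => σ ((Pi.single i (1 : F) : ι → F) l)) = Pi.single i 1 := by
      funext l
      rcases eq_or_ne l i with rfl | h
      · simp
      · simp [h]
    rw [formM, Matrix.dotProduct_mulVec, this, dotProduct_single, mul_one]
    exact hi

lemma isUnit_of_nondegenerate {σ : F ≃+* F} {G : Matrix ι ι F} (h : IsNondegenerateForm (formM σ G)) :
    IsUnit G := by
  rw [← Matrix.mulVec_injective_iff_isUnit]
  intro a b hab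
  by_contra hne
  have hne' : (fun i => σ.symm ((a - b) i)) ≠ 0 := fun h0 => hne (sub_eq_zero.mp (funext fun i => by
    exact (map_eq_zero_iff _ σ.symm.injective).mp (congrFun h0 i)))
  obtain ⟨⟨x, hx⟩, -⟩ := h _ hne'
  apply hx
  rw [formM]
  simp only [RingEquiv.apply_symm_apply]
  have hab' : G *ᵥ (a - b) = 0 := by rw [Matrix.mulVec_sub, sub_eq_zero]; exact hab
  rw [hab', dotProduct_zero]

/-- The Gram matrix of a non-degenerate form as an invertible matrix. -/
lemma exists_gram {σ : F ≃+* F} {f : (ι → F) → (ι → F) → F}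
    (al : ∀ x y v, f (x + y) v = f x v + f y v) (sl : ∀ (c : F) (x v : ι → F), f (c • x) v = c * f x v)
    (ar : ∀ v x y, f v (x + y) = f v x + f v y)
    (sr : ∀ (c : F) (v x : ι → F), f v (c • x) = σ c * f v x) (hnd : IsNondegenerateForm f) :
    ∃ G : GL ι F, f = formM σ (G : Matrix ι ι F) ∧ (G : Matrix ι ι F) = gramMatrix f := by
  have hf := eq_formM al sl ar sr
  obtain ⟨G, hG⟩ := isUnit_of_nondegenerate (σ := σ) (G := gramMatrix f) (by rw [← hf]; exact hnd)
  exact ⟨G, by rw [hG]; exact hf, hG⟩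

lemma exists_gram_bilinear {f : (ι → F) → (ι → F) → F} (hf : IsBilinearForm f)
    (hnd : IsNondegenerateForm f) :
    ∃ G : GL ι F, f = formM (RingEquiv.refl F) (G : Matrix ι ι F) ∧ (G : Matrix ι ι F) = gramMatrix f :=
  exists_gram hf.add_left hf.smul_left hf.add_right hf.smul_right hnd

/-- The Gram matrix of a unitary form. -/
lemma exists_gram_unitary {σ : F ≃+* F} {f : (ι → F) → (ι → F) → F} (hf : IsUnitaryForm σ f) :
    ∃ G : GL ι F, f = formM σ (G : Matrix ι ι F) := by
  obtain ⟨G, hG, -⟩ := exists_gram (σ := σ) hf.add_left hf.smul_left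
    (fun v x y => by rw [hf.herm, hf.add_left, map_add, ← hf.herm v x, ← hf.herm v y])
    (fun c v x => by rw [hf.herm, hf.smul_left, map_mul, ← hf.herm v x]) hf.nondegenerate
  exact ⟨G, hG⟩

/-! ### Invariant forms -/

/-- Every element of `N` preserves the form with matrix `G`. -/
def Invariant (σ : F ≃+* F) (N : Subgroup (GL ι F)) (G : Matrix ι ι F) : Prop :=
  ∀ x ∈ N, (x : Matrix ι ι F)ᵀ * G * twist σ (x : Matrix ι ι F) = G

lemma invariant_iff_fixes {σ : F ≃+* F} {N : Subgroup (GL ι F)} {G : Matrix ι ι F} :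
    Invariant σ N G ↔ FixesForm (matrixSet N) (formM σ G) := by
  constructor
  · rintro h _ ⟨x, hx, rfl⟩ u v
    simp only []
    rw [formM_mulVec, h x hx]
  · intro h x hx
    refine formM_injective σ fun u v => ?_
    rw [← formM_mulVec]
    exact h _ (coe_mem_matrixSet hx) u v

lemma mem_preserving_iff {σ : F ≃+* F} {G : Matrix ι ι F} {g : GL ι F} :
    g ∈ preserving (Units.coeHom (Matrix ι ι F)) (formM σ G) ↔
      (g : Matrix ι ι F)ᵀ * G * twist σ (g : Matrix ι ι F) = G := by
  constructor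
  · intro h
    refine formM_injective σ fun u v => ?_
    rw [← formM_mulVec]
    exact h u v
  · intro h u v
    show formM σ G ((g : Matrix ι ι F) *ᵥ u) ((g : Matrix ι ι F) *ᵥ v) = _
    rw [formM_mulVec, h]

lemma Invariant.smul {σ : F ≃+* F} {N : Subgroup (GL ι F)} {G : Matrix ι ι F} (h : Invariant σ N G)
    (c : F) : Invariant σ N (c • G) := fun x hx => by
  rw [Matrix.mul_smul, Matrix.smul_mul, h x hx]

lemma Invariant.twistTranspose {σ : F ≃+* F} {N : Subgroup (GL ι F)} {G : Matrix ι ι F}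
    (hσ : ∀ a, σ (σ a) = a) (h : Invariant σ N G) : Invariant σ N (twist σ Gᵀ) := by
  intro x hx
  have h1 := congrArg (fun M => twist σ Mᵀ) (h x hx)
  simp only [Matrix.transpose_mul, Matrix.transpose_transpose, twist_mul] at h1
  have e : twist σ (twist σ (x : Matrix ι ι F))ᵀ = (x : Matrix ι ι F)ᵀ := by
    ext i j
    simp [hσ]
  rw [e, ← mul_assoc] at h1
  exact h1

/-- Invariant forms of a spanning group are unique up to a scalar. -/
lemma invariant_unique {σ : F ≃+* F} {N : Subgroup (GL ι F)} (hN : spanAlg N = ⊤) {G₁ : GL ι F}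
    {G₂ : Matrix ι ι F} (h₁ : Invariant σ N (G₁ : Matrix ι ι F)) (h₂ : Invariant σ N G₂) :
    ∃ c : F, G₂ = c • (G₁ : Matrix ι ι F) := by
  obtain ⟨Y, hY⟩ : ∃ Y, Y = ((G₁⁻¹ : GL ι F) : Matrix ι ι F) * G₂ := ⟨_, rfl⟩
  have hcomm : ∀ x ∈ N, Y * twist σ (x : Matrix ι ι F) = twist σ (x : Matrix ι ι F) * Y := by
    intro x hx
    have e1 := h₁ x hx
    have e2 := h₂ x hx
    -- invert the transpose
    have hxt : (x : Matrix ι ι F)ᵀ * ((G₁ : Matrix ι ι F) * twist σ (x : Matrix ι ι F) *
        ((G₁⁻¹ : GL ι F) : Matrix ι ι F)) = 1 := by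
      rw [← mul_assoc, ← mul_assoc, e1, Units.mul_inv]
    have hxt' := mul_eq_one_comm.mp hxt
    calc Y * twist σ (x : Matrix ι ι F)
        = ((G₁⁻¹ : GL ι F) : Matrix ι ι F) * (((G₁ : Matrix ι ι F) * twist σ (x : Matrix ι ι F) *
            ((G₁⁻¹ : GL ι F) : Matrix ι ι F)) * (x : Matrix ι ι F)ᵀ) * G₂ * twist σ (x : Matrix ι ι F) := by
          rw [hxt', mul_one, hY]
      _ = (((G₁⁻¹ : GL ι F) : Matrix ι ι F) * (G₁ : Matrix ι ι F)) * twist σ (x : Matrix ι ι F) *
            ((G₁⁻¹ : GL ι F) : Matrix ι ι F) *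
            ((x : Matrix ι ι F)ᵀ * G₂ * twist σ (x : Matrix ι ι F)) := by simp only [mul_assoc]
      _ = twist σ (x : Matrix ι ι F) * Y := by
          rw [Units.inv_mul, one_mul, e2, hY, mul_assoc]
  obtain ⟨c, hc⟩ := (absIrred_of_span_top hN).2 (twist σ.symm Y) (by
    rintro _ ⟨x, hx, rfl⟩
    have := congrArg (twist σ.symm) (hcomm x hx)
    rw [twist_mul, twist_mul] at this
    have hxx : twist σ.symm (twist σ (x : Matrix ι ι F)) = (x : Matrix ι ι F) := by
      ext i j; simp
    rwa [hxx] at this)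
  refine ⟨σ c, ?_⟩
  have hY' : Y = σ c • 1 := by
    rw [← twist_symm σ Y, hc, twist_smul, twist_one]
  calc G₂ = (G₁ : Matrix ι ι F) * Y := by rw [hY, ← mul_assoc, Units.mul_inv, one_mul]
    _ = σ c • (G₁ : Matrix ι ι F) := by rw [hY', Matrix.mul_smul, mul_one]

/-- An element normalising a spanning group multiplies its invariant form by a scalar. -/
lemma exists_multiplier {σ : F ≃+* F} {H N : Subgroup (GL ι F)} (hN : spanAlg N = ⊤)
    (hn : Normalises H N) {G : GL ι F} (hG : Invariant σ N (G : Matrix ι ι F)) {h : GL ι F} (hh : h ∈ H) :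
    ∃ c : F, (h : Matrix ι ι F)ᵀ * (G : Matrix ι ι F) * twist σ (h : Matrix ι ι F) =
      c • (G : Matrix ι ι F) := by
  refine invariant_unique hN hG fun x hx => ?_
  have hy := hG _ (hn h hh x hx)
  have e : (h : Matrix ι ι F) * (x : Matrix ι ι F) =
      ((h * x * h⁻¹ : GL ι F) : Matrix ι ι F) * (h : Matrix ι ι F) := by
    rw [← Units.val_mul, ← Units.val_mul, inv_mul_cancel_right]
  calc (x : Matrix ι ι F)ᵀ * ((h : Matrix ι ι F)ᵀ * (G : Matrix ι ι F) * twist σ (h : Matrix ι ι F)) *
        twist σ (x : Matrix ι ι F)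
      = ((h : Matrix ι ι F) * (x : Matrix ι ι F))ᵀ * (G : Matrix ι ι F) *
          twist σ ((h : Matrix ι ι F) * (x : Matrix ι ι F)) := by
        rw [Matrix.transpose_mul, twist_mul]; simp only [mul_assoc]
    _ = (h : Matrix ι ι F)ᵀ * (((h * x * h⁻¹ : GL ι F) : Matrix ι ι F)ᵀ * (G : Matrix ι ι F) *
          twist σ ((h * x * h⁻¹ : GL ι F) : Matrix ι ι F)) * twist σ (h : Matrix ι ι F) := by
        rw [e, Matrix.transpose_mul, twist_mul]; simp only [mul_assoc]
    _ = _ := by rw [hy]

/-- An element multiplying the form by a scalar is a similarity. -/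
lemma mem_similarityGroup [Nonempty ι] {σ : F ≃+* F} {G : GL ι F} {h : GL ι F} {c : F}
    (hc : (h : Matrix ι ι F)ᵀ * (G : Matrix ι ι F) * twist σ (h : Matrix ι ι F) =
      c • (G : Matrix ι ι F)) :
    h ∈ similarityGroup (formM σ (G : Matrix ι ι F)) := by
  have hc0 : c ≠ 0 := by
    rintro rfl
    rw [zero_smul] at hc
    have hu : IsUnit ((h : Matrix ι ι F)ᵀ * (G : Matrix ι ι F) * twist σ (h : Matrix ι ι F)) :=
      ((h.isUnit.map (Matrix.transposeRingEquiv ι F)).unop.mul G.isUnit).mul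
        (by rw [← coe_twistGL]; exact (twistGL σ h).isUnit)
    rw [hc] at hu
    exact hu.ne_zero rfl
  exact ⟨Units.mk0 c hc0, fun u v => by rw [formM_mulVec, hc, formM_smul]; rfl⟩

lemma le_similarityGroup [Nonempty ι] {σ : F ≃+* F} {H N : Subgroup (GL ι F)} (hN : spanAlg N = ⊤)
    (hn : Normalises H N) {G : GL ι F} (hG : Invariant σ N (G : Matrix ι ι F)) :
    H ≤ similarityGroup (formM σ (G : Matrix ι ι F)) := fun h hh => by
  obtain ⟨c, hc⟩ := exists_multiplier hN hn hG hh
  exact mem_similarityGroup hc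

end Cfsg.Agent.Lib.Aschbacher
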