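/-
The adjoint involution of a non-degenerate reflexive form on the matrix algebra, and the first consequences
for a group of isometries: invariant subspaces and systems of imprimitivity.
-/
import Cfsg.Agent.Lib.Aschbacher.FormMat

set_option autoImplicit false

namespace Cfsg.Agent.Lib.Aschbacher

open Cfsg Cfsg.Geo Matrix

variable {ι : Type} [Fintype ι] [DecidableEq ι] {F : Type*} [Field F]

/-- `G` is the Gram matrix of a non-degenerate form that is `ε`-symmetric for the twist `σ`. -/
structure IsFormGram (σ : F ≃+* F) (G : GL ι F) (ε : F) : Prop where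
  invol : ∀ a, σ (σ a) = a
  herm : twist σ (G : Matrix ι ι F)ᵀ = ε • (G : Matrix ι ι F)

/-- The adjoint of a matrix for the form with Gram matrix `G`. -/
def adjM (σ : F ≃+* F) (G : GL ι F) (a : Matrix ι ι F) : Matrix ι ι F :=
  twist σ (((G⁻¹ : GL ι F) : Matrix ι ι F) * aᵀ * (G : Matrix ι ι F))

lemma twist_twist_of {σ : F ≃+* F} {G : GL ι F} {ε : F} (hF : IsFormGram σ G ε) (A : Matrix ι ι F) :
    twist σ (twist σ A) = A := twist_twist hF.invol A

section

variable {σ : F ≃+* F} {G : GL ι F} {ε : F}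

lemma adjM_spec (hσ : ∀ a, σ (σ a) = a) (a : Matrix ι ι F) :
    aᵀ * (G : Matrix ι ι F) = (G : Matrix ι ι F) * twist σ (adjM σ G a) := by
  rw [adjM, twist_twist hσ, ← mul_assoc, ← mul_assoc, Units.mul_inv, one_mul]

lemma adjM_add (a b : Matrix ι ι F) : adjM σ G (a + b) = adjM σ G a + adjM σ G b := by
  rw [adjM, adjM, adjM, Matrix.transpose_add, mul_add, add_mul]
  exact Matrix.map_add σ (map_add σ) _ _

lemma adjM_zero : adjM σ G (0 : Matrix ι ι F) = 0 := by
  ext i j
  simp [adjM]

lemma adjM_smul (c : F) (a : Matrix ι ι F) : adjM σ G (c • a) = σ c • adjM σ G a := by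
  rw [adjM, adjM, Matrix.transpose_smul, Matrix.mul_smul, Matrix.smul_mul, twist_smul]

lemma adjM_mul (a b : Matrix ι ι F) : adjM σ G (a * b) = adjM σ G b * adjM σ G a := by
  rw [adjM, adjM, adjM, ← twist_mul, Matrix.transpose_mul]
  congr 1
  simp [mul_assoc]

lemma adjM_one : adjM σ G (1 : Matrix ι ι F) = 1 := by
  rw [adjM, Matrix.transpose_one, mul_one, Units.inv_mul, twist_one]

lemma adjM_smul_one (c : F) : adjM σ G (c • (1 : Matrix ι ι F)) = σ c • 1 := by
  rw [adjM_smul, adjM_one]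

lemma adjM_sum {α : Type*} (s : Finset α) (f : α → Matrix ι ι F) :
    adjM σ G (∑ i ∈ s, f i) = ∑ i ∈ s, adjM σ G (f i) := by
  classical
  induction s using Finset.induction with
  | empty => simp [adjM_zero]
  | insert a s ha ih => rw [Finset.sum_insert ha, Finset.sum_insert ha, adjM_add, ih]

lemma adjM_pow (a : Matrix ι ι F) (k : ℕ) : adjM σ G (a ^ k) = adjM σ G a ^ k := by
  induction k with
  | zero => rw [pow_zero, pow_zero, adjM_one]
  | succ k ih => rw [pow_succ, adjM_mul, ih, pow_succ']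

/-- The transfer of a matrix from the left to the right of the form. -/
lemma formM_adjM (hσ : ∀ a, σ (σ a) = a) (a : Matrix ι ι F) (u v : ι → F) :
    formM σ (G : Matrix ι ι F) (a *ᵥ u) v = formM σ (G : Matrix ι ι F) u (adjM σ G a *ᵥ v) := by
  have h1 := formM_mulVec σ (G : Matrix ι ι F) a 1 u v
  have h2 := formM_mulVec σ (G : Matrix ι ι F) 1 (adjM σ G a) u v
  rw [Matrix.one_mulVec] at h1 h2
  rw [h1, h2, Matrix.transpose_one, one_mul, twist_one, mul_one, adjM_spec hσ]

lemma eq_adjM (hσ : ∀ a, σ (σ a) = a) {a b : Matrix ι ι F}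
    (h : ∀ u v, formM σ (G : Matrix ι ι F) (a *ᵥ u) v = formM σ (G : Matrix ι ι F) u (b *ᵥ v)) :
    b = adjM σ G a := by
  have h1 : aᵀ * (G : Matrix ι ι F) = (G : Matrix ι ι F) * twist σ b := by
    refine formM_injective σ fun u v => ?_
    have e1 := formM_mulVec σ (G : Matrix ι ι F) a 1 u v
    have e2 := formM_mulVec σ (G : Matrix ι ι F) 1 b u v
    rw [Matrix.one_mulVec, twist_one, mul_one] at e1
    rw [Matrix.one_mulVec, Matrix.transpose_one, one_mul] at e2
    rw [← e1, ← e2, h]
  rw [adjM, mul_assoc, h1, ← mul_assoc, Units.inv_mul, one_mul, twist_twist hσ]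

lemma IsFormGram.eps_mul (hF : IsFormGram σ G ε) [Nonempty ι] : σ ε * ε = 1 := by
  have h := congrArg (fun M => twist σ Mᵀ) hF.herm
  simp only [Matrix.transpose_smul, twist_smul] at h
  have e : twist σ (twist σ (G : Matrix ι ι F)ᵀ)ᵀ = (G : Matrix ι ι F) := by
    ext i j; simp [hF.invol]
  rw [e, hF.herm, smul_smul] at h
  have h0 : (σ ε * ε - 1) • (G : Matrix ι ι F) = 0 := by rw [sub_smul, one_smul, ← h, sub_self]
  exact sub_eq_zero.mp ((smul_eq_zero.mp h0).resolve_right G.isUnit.ne_zero)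

lemma adjM_adjM (hF : IsFormGram σ G ε) (a : Matrix ι ι F) : adjM σ G (adjM σ G a) = a := by
  cases isEmpty_or_nonempty ι
  · exact Subsingleton.elim _ _
  have h := congrArg (fun M => twist σ Mᵀ) (adjM_spec hF.invol a (G := G))
  simp only [Matrix.transpose_mul, Matrix.transpose_transpose, twist_mul] at h
  rw [hF.herm, ← Matrix.transpose_map, twist_twist hF.invol, Matrix.smul_mul, Matrix.mul_smul] at h
  have hε : ε ≠ 0 := right_ne_zero_of_mul_eq_one hF.eps_mul
  have h' : (G : Matrix ι ι F) * twist σ a = (adjM σ G a)ᵀ * (G : Matrix ι ι F) :=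
    smul_right_injective (Matrix ι ι F) hε h
  rw [adjM, mul_assoc, ← h', ← mul_assoc, Units.inv_mul, one_mul, twist_twist hF.invol]

/-- The adjoint as a bijection of the matrices. -/
def adjEquiv (hF : IsFormGram σ G ε) : Matrix ι ι F ≃ Matrix ι ι F :=
  Function.Involutive.toPerm (adjM σ G) (adjM_adjM hF)

lemma adjEquiv_apply (hF : IsFormGram σ G ε) (a : Matrix ι ι F) : adjEquiv hF a = adjM σ G a := rfl

/-- The adjoint of an isometry is its inverse. -/
lemma adjM_coe (hσ : ∀ a, σ (σ a) = a) {x : GL ι F}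
    (hx : (x : Matrix ι ι F)ᵀ * (G : Matrix ι ι F) * twist σ (x : Matrix ι ι F) = (G : Matrix ι ι F)) :
    adjM σ G (x : Matrix ι ι F) = ((x⁻¹ : GL ι F) : Matrix ι ι F) := by
  symm
  refine eq_adjM hσ fun u v => ?_
  conv_lhs => rw [show v = (x : Matrix ι ι F) *ᵥ (((x⁻¹ : GL ι F) : Matrix ι ι F) *ᵥ v) by
    rw [Matrix.mulVec_mulVec, Units.mul_inv, Matrix.one_mulVec]]
  rw [formM_mulVec, hx]

lemma Invariant.mono {N H : Subgroup (GL ι F)} {A : Matrix ι ι F} (h : Invariant σ H A) (hle : N ≤ H) :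
    Invariant σ N A := fun x hx => h x (hle hx)

lemma adjM_conjM {H : Subgroup (GL ι F)} (hσ : ∀ a, σ (σ a) = a)
    (hH : Invariant σ H (G : Matrix ι ι F)) {g : GL ι F} (hg : g ∈ H) (a : Matrix ι ι F) :
    adjM σ G (conjM g a) = conjM g (adjM σ G a) := by
  rw [conjM_apply, adjM_mul, adjM_mul, adjM_coe hσ (hH g hg), adjM_coe hσ (hH g⁻¹ (H.inv_mem hg)),
    inv_inv, conjM_apply, mul_assoc]

lemma adjM_mem_spanAlg {N : Subgroup (GL ι F)} (hσ : ∀ a, σ (σ a) = a)
    (hN : Invariant σ N (G : Matrix ι ι F)) {a : Matrix ι ι F} (ha : a ∈ spanAlg N) :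
    adjM σ G a ∈ spanAlg N := by
  rw [← Subalgebra.mem_toSubmodule, spanAlg_toSubmodule] at ha
  induction ha using Submodule.span_induction with
  | mem x hx =>
    obtain ⟨g, hg, rfl⟩ := hx
    rw [adjM_coe hσ (hN g hg)]
    exact coe_mem_spanAlg (N.inv_mem hg)
  | zero => rw [adjM_zero]; exact zero_mem _
  | add x y _ _ hx hy => rw [adjM_add]; exact add_mem hx hy
  | smul c x _ hx => rw [adjM_smul]; exact Subalgebra.smul_mem _ hx _

lemma adjM_mem_spanAlg_iff {N : Subgroup (GL ι F)} (hF : IsFormGram σ G ε)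
    (hN : Invariant σ N (G : Matrix ι ι F)) {a : Matrix ι ι F} :
    adjM σ G a ∈ spanAlg N ↔ a ∈ spanAlg N := by
  refine ⟨fun h => ?_, adjM_mem_spanAlg hF.invol hN⟩
  have := adjM_mem_spanAlg hF.invol hN h
  rwa [adjM_adjM hF] at this

lemma adjM_mem_centreAlg_iff {N : Subgroup (GL ι F)} (hF : IsFormGram σ G ε)
    (hN : Invariant σ N (G : Matrix ι ι F)) {a : Matrix ι ι F} :
    adjM σ G a ∈ centreAlg (spanAlg N) ↔ a ∈ centreAlg (spanAlg N) := by
  suffices h : ∀ b, b ∈ centreAlg (spanAlg N) → adjM σ G b ∈ centreAlg (spanAlg N) by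
    refine ⟨fun ha => ?_, h a⟩
    have := h _ ha
    rwa [adjM_adjM hF] at this
  intro b hb
  obtain ⟨hb1, hb2⟩ := mem_centreAlg.mp hb
  refine mem_centreAlg.mpr ⟨adjM_mem_spanAlg hF.invol hN hb1, fun c hc => ?_⟩
  have h := congrArg (adjM σ G) (hb2 (adjM σ G c) ((adjM_mem_spanAlg_iff hF hN).mpr hc))
  rw [adjM_mul, adjM_mul, adjM_adjM hF] at h
  exact h.symm

lemma formM_comm (hF : IsFormGram σ G ε) (u v : ι → F) :
    σ (formM σ (G : Matrix ι ι F) v u) = ε * formM σ (G : Matrix ι ι F) u v := by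
  have hv : ∀ A : Matrix ι ι F, ∀ a b : ι → F,
      formM σ A a b = ∑ i, ∑ j, a i * A i j * σ (b j) := by
    intro A a b
    simp [formM, Matrix.mulVec, dotProduct, Finset.mul_sum, mul_assoc]
  rw [← formM_smul, ← hF.herm, hv, hv, map_sum, Finset.sum_comm]
  refine Finset.sum_congr rfl fun i _ => ?_
  rw [map_sum]
  refine Finset.sum_congr rfl fun j _ => ?_
  simp [hF.invol]
  ring

lemma formM_eq_zero_comm (hF : IsFormGram σ G ε) [Nonempty ι] {u v : ι → F}
    (h : formM σ (G : Matrix ι ι F) u v = 0) : formM σ (G : Matrix ι ι F) v u = 0 := by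
  have h1 := formM_comm hF u v
  rw [h, mul_zero, map_eq_zero_iff _ σ.injective] at h1
  exact h1

lemma formM_zero_right (u : ι → F) : formM σ (G : Matrix ι ι F) u 0 = 0 := by
  have h : (fun i => σ ((0 : ι → F) i)) = (0 : ι → F) := funext fun i => map_zero σ
  rw [formM, h, Matrix.mulVec_zero, dotProduct_zero]

/-! ### Invariant subspaces -/

/-- The vectors orthogonal to a subspace. -/
def perpW (σ : F ≃+* F) (G : GL ι F) (W : Submodule F (ι → F)) : Submodule F (ι → F) where
  carrier := {v | ∀ w ∈ W, formM σ (G : Matrix ι ι F) v w = 0}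
  zero_mem' w _ := by simp [formM]
  add_mem' {a b} ha hb w hw := by rw [formM_add_left, ha w hw, hb w hw, add_zero]
  smul_mem' c a ha w hw := by rw [formM_smul_left, ha w hw, mul_zero]

lemma mem_perpW {W : Submodule F (ι → F)} {v : ι → F} :
    v ∈ perpW σ G W ↔ ∀ w ∈ W, formM σ (G : Matrix ι ι F) v w = 0 := Iff.rfl

lemma finrank_le_finrank_perpW (W : Submodule F (ι → F)) :
    Fintype.card ι ≤ Module.finrank F W + Module.finrank F (perpW σ G W) := by
  classical
  let b := Module.finBasis F W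
  let φ : (ι → F) →ₗ[F] (Fin (Module.finrank F W) → F) :=
    { toFun := fun v j => formM σ (G : Matrix ι ι F) v (b j : ι → F)
      map_add' := fun x y => funext fun j => formM_add_left ..
      map_smul' := fun c x => funext fun j => formM_smul_left .. }
  have hker : LinearMap.ker φ ≤ perpW σ G W := by
    intro v hv w hw
    rw [LinearMap.mem_ker] at hv
    let S : Submodule F (ι → F) :=
      { carrier := {x | formM σ (G : Matrix ι ι F) v x = 0}
        zero_mem' := formM_zero_right v
        add_mem' := fun {x y} (hx : _ = 0) (hy : _ = 0) => by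
          show formM σ (G : Matrix ι ι F) v (x + y) = 0
          rw [formM_add_right, hx, hy, add_zero]
        smul_mem' := fun c x (hx : _ = 0) => by
          show formM σ (G : Matrix ι ι F) v (c • x) = 0
          rw [formM_smul_right, hx, mul_zero] }
    have hb : ∀ j, (b j : ι → F) ∈ S := fun j => congrFun hv j
    have : (⟨w, hw⟩ : W) ∈ S.comap W.subtype := by
      rw [← b.sum_repr ⟨w, hw⟩]
      exact Submodule.sum_mem _ fun j _ => Submodule.smul_mem _ _ (hb j)
    exact this
  have h1 := φ.finrank_range_add_finrank_ker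
  have h2 : Module.finrank F (LinearMap.range φ) ≤ Module.finrank F W := by
    refine (Submodule.finrank_le _).trans ?_
    simp
  have h3 := Submodule.finrank_mono hker
  rw [Module.finrank_pi] at h1
  omega

lemma mulVec_mem_perpW {H : Subgroup (GL ι F)} (hH : Invariant σ H (G : Matrix ι ι F))
    {W : Submodule F (ι → F)} (hW : ∀ g ∈ H, ∀ w ∈ W, (g : Matrix ι ι F) *ᵥ w ∈ W)
    {g : GL ι F} (hg : g ∈ H) {v : ι → F} (hv : v ∈ perpW σ G W) :
    (g : Matrix ι ι F) *ᵥ v ∈ perpW σ G W := by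
  intro w hw
  have h1 := hW g⁻¹ (H.inv_mem hg) w hw
  have h2 : w = (g : Matrix ι ι F) *ᵥ (((g⁻¹ : GL ι F) : Matrix ι ι F) *ᵥ w) := by
    rw [Matrix.mulVec_mulVec, Units.mul_inv, Matrix.one_mulVec]
  rw [h2, formM_mulVec, hH g hg]
  exact hv _ h1

/-- A reducible group of isometries fixes a totally singular subspace, or an orthogonal pair of non-degenerate
complementary subspaces. -/
theorem exists_subspace_of_reducible (hF : IsFormGram σ G ε) {H : Subgroup (GL ι F)}
    (hH : Invariant σ H (G : Matrix ι ι F)) (hred : ¬ ActsIrreducibly (matrixSet H)) :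
    (∃ W : Submodule F (ι → F), W ≠ ⊥ ∧ IsTotallySingularFor (formM σ (G : Matrix ι ι F)) W ∧
      H ≤ subspaceStabilizer W) ∨
    (∃ W U : Submodule F (ι → F), W ≠ ⊥ ∧ U ≠ ⊥ ∧ W ⊓ U = ⊥ ∧ W ⊔ U = ⊤ ∧
      Module.finrank F W ≤ Module.finrank F U ∧
      Module.finrank F W + Module.finrank F U = Fintype.card ι ∧
      IsNondegenerateOn (formM σ (G : Matrix ι ι F)) W ∧
      IsNondegenerateOn (formM σ (G : Matrix ι ι F)) U ∧
      AreOrthogonalFor (formM σ (G : Matrix ι ι F)) W U ∧
      AreOrthogonalFor (formM σ (G : Matrix ι ι F)) U W ∧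
      (∀ g ∈ H, ∀ w ∈ W, (g : Matrix ι ι F) *ᵥ w ∈ W) ∧
      (∀ g ∈ H, ∀ w ∈ U, (g : Matrix ι ι F) *ᵥ w ∈ U)) := by
  classical
  obtain ⟨W, hW0, hW1, -, hinv⟩ := exists_invariant_of_not_irreducible hred
  haveI : Nonempty ι := by
    rcases isEmpty_or_nonempty ι with h | h
    · exact absurd (Subsingleton.elim W ⊥) hW0
    · exact h
  by_cases hrad : W ⊓ perpW σ G W = ⊥
  swap
  · refine Or.inl ⟨_, hrad, fun u hu v hv => hu.2 v hv.1, le_subspaceStabilizer fun g hg w hw => ?_⟩
    exact ⟨hinv g hg w hw.1, mulVec_mem_perpW hH hinv hg hw.2⟩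
  set U := perpW σ G W with hU
  have hinvU : ∀ g ∈ H, ∀ w ∈ U, (g : Matrix ι ι F) *ᵥ w ∈ U := fun g hg w hw =>
    mulVec_mem_perpW hH hinv hg hw
  have hsum := Submodule.finrank_sup_add_finrank_inf_eq W U
  rw [hrad, finrank_bot, add_zero] at hsum
  have hge : Fintype.card ι ≤ Module.finrank F W + Module.finrank F U :=
    finrank_le_finrank_perpW (σ := σ) (G := G) W
  have hle : Module.finrank F ↥(W ⊔ U) ≤ Fintype.card ι :=
    (Submodule.finrank_le _).trans (by rw [Module.finrank_pi])
  have htot : Module.finrank F W + Module.finrank F U = Fintype.card ι := by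
    rw [← hsum]; omega
  have htop : W ⊔ U = ⊤ := by
    refine Submodule.eq_top_of_finrank_eq ?_
    rw [Module.finrank_pi]; omega
  have horth : AreOrthogonalFor (formM σ (G : Matrix ι ι F)) W U := fun u hu v hv =>
    formM_eq_zero_comm hF (hv u hu)
  have horth' : AreOrthogonalFor (formM σ (G : Matrix ι ι F)) U W := fun u hu v hv => hu v hv
  have hnd : ∀ A B : Submodule F (ι → F), A ⊓ B = ⊥ → A ⊔ B = ⊤ →
      AreOrthogonalFor (formM σ (G : Matrix ι ι F)) A B →
      AreOrthogonalFor (formM σ (G : Matrix ι ι F)) B A →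
      IsNondegenerateOn (formM σ (G : Matrix ι ι F)) A := by
    intro A B hAB hsup hab hba w hw hw0
    obtain ⟨⟨x, hx⟩, ⟨y, hy⟩⟩ := nondegenerate_formM σ G w hw0
    constructor
    · have hxs : x ∈ A ⊔ B := by rw [hsup]; trivial
      obtain ⟨a, ha, b, hb, rfl⟩ := Submodule.mem_sup.mp hxs
      exact ⟨a, ha, by rwa [formM_add_left, hba b hb w hw, add_zero] at hx⟩
    · have hys : y ∈ A ⊔ B := by rw [hsup]; trivial
      obtain ⟨a, ha, b, hb, rfl⟩ := Submodule.mem_sup.mp hys
      exact ⟨a, ha, by rwa [formM_add_right, hab w hw b hb, add_zero] at hy⟩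
  have hU0 : U ≠ ⊥ := by
    intro h
    rw [h, sup_bot_eq] at htop
    exact hW1 htop
  have hrad' : U ⊓ W = ⊥ := by rw [inf_comm]; exact hrad
  have htop' : U ⊔ W = ⊤ := by rw [sup_comm]; exact htop
  rcases le_total (Module.finrank F W) (Module.finrank F U) with hd | hd
  · exact Or.inr ⟨W, U, hW0, hU0, hrad, htop, hd, htot, hnd W U hrad htop horth horth',
      hnd U W hrad' htop' horth' horth, horth, horth', hinv, hinvU⟩
  · exact Or.inr ⟨U, W, hU0, hW0, hrad', htop', hd, by omega, hnd U W hrad' htop' horth' horth,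
      hnd W U hrad htop horth horth', horth', horth, hinvU, hinv⟩

/-- The pair of subspaces of equal dimension is a decomposition stabilised by the group. -/
lemma decomposition_of_pair {H : Subgroup (GL ι F)} {W U : Submodule F (ι → F)} {k : ℕ}
    (hW : W ≠ ⊥) (hi : W ⊓ U = ⊥) (hs : W ⊔ U = ⊤) (hkW : Module.finrank F W = k)
    (hkU : Module.finrank F U = k) (hWi : ∀ g ∈ H, ∀ w ∈ W, (g : Matrix ι ι F) *ᵥ w ∈ W)
    (hUi : ∀ g ∈ H, ∀ w ∈ U, (g : Matrix ι ι F) *ᵥ w ∈ U) :
    IsMDecomposition k ![W, U] ∧ H ≤ decompositionStabilizer ![W, U] := by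
  refine ⟨⟨le_rfl, ?_, ?_, ?_, ?_⟩, fun g hg => ⟨Equiv.refl _, fun i => ?_⟩⟩
  · rw [← hkW, Nat.pos_iff_ne_zero, ne_eq, Submodule.finrank_eq_zero]
    exact hW
  · intro i
    fin_cases i
    · exact hkW
    · exact hkU
  · refine iSupIndep_def.mpr fun i => ?_
    fin_cases i
    · have : (⨆ (j : Fin 2) (_ : j ≠ 0), ![W, U] j) ≤ U := by
        refine iSup₂_le fun j hj => ?_
        fin_cases j
        · exact absurd rfl hj
        · exact le_rfl
      exact Disjoint.mono_right this (disjoint_iff.mpr hi)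
    · have : (⨆ (j : Fin 2) (_ : j ≠ 1), ![W, U] j) ≤ W := by
        refine iSup₂_le fun j hj => ?_
        fin_cases j
        · exact le_rfl
        · exact absurd rfl hj
      exact Disjoint.mono_right this (disjoint_iff.mpr (by rw [inf_comm]; exact hi))
  · rw [eq_top_iff, ← hs]
    exact sup_le (le_iSup ![W, U] 0) (le_iSup ![W, U] 1)
  · have key : ∀ A : Submodule F (ι → F), (∀ g ∈ H, ∀ w ∈ A, (g : Matrix ι ι F) *ᵥ w ∈ A) →
        A.map (Matrix.toLin' (g : Matrix ι ι F)) = A := by
      intro A hA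
      apply le_antisymm
      · rintro _ ⟨w, hw, rfl⟩
        rw [toLin'_mulVec]
        exact hA g hg w hw
      · intro w hw
        refine ⟨_, hA g⁻¹ (H.inv_mem hg) w hw, ?_⟩
        rw [toLin'_mulVec, Matrix.mulVec_mulVec, Units.mul_inv, Matrix.one_mulVec]
    fin_cases i
    · exact key W hWi
    · exact key U hUi

/-! ### Systems of imprimitivity -/

/-- Orthogonal idempotents with sum one, permuted transitively by the group. -/
structure IsIdemFrame (H : Subgroup (GL ι F)) {t : ℕ} (e : Fin t → Matrix ι ι F) : Prop where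
  two_le : 2 ≤ t
  idem : ∀ i, e i * e i = e i
  orth : ∀ i j, i ≠ j → e i * e j = 0
  sum_eq : ∑ i, e i = 1
  ne_zero : ∀ i, e i ≠ 0
  perm : ∀ g ∈ H, ∃ s : Equiv.Perm (Fin t), ∀ i, conjM g (e i) = e (s i)
  trans : ∀ i j, ∃ g ∈ H, conjM g (e i) = e j

lemma IsIdemFrame.decomposition {H : Subgroup (GL ι F)} {t : ℕ} {e : Fin t → Matrix ι ι F}
    (he : IsIdemFrame H e) :
    ∃ m, IsMDecomposition m (fun i => rangeOf (e i)) ∧
      H ≤ decompositionStabilizer (fun i => rangeOf (e i)) := by
  classical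
  have ht := he.two_le
  let i₀ : Fin t := ⟨0, by omega⟩
  refine ⟨Module.finrank F (rangeOf (e i₀)), ⟨ht, ?_, ?_, ?_, ?_⟩, ?_⟩
  · apply Nat.pos_of_ne_zero
    intro h
    rw [Submodule.finrank_eq_zero] at h
    have h' : Matrix.toLin' (e i₀) = 0 := LinearMap.range_eq_bot.mp h
    exact he.ne_zero i₀ (by simpa using h')
  · intro i
    obtain ⟨g, _, hg⟩ := he.trans i₀ i
    show Module.finrank F (rangeOf (e i)) = _
    rw [← hg, ← map_rangeOf]
    refine LinearEquiv.finrank_eq (Submodule.equivMapOfInjective _ ?_ _).symm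
    intro v w hvw
    have := congrArg (fun u => ((g⁻¹ : GL ι F) : Matrix ι ι F) *ᵥ u) hvw
    simpa [toLin'_mulVec, Matrix.mulVec_mulVec] using this
  · rw [iSupIndep_def]
    intro i
    rw [Submodule.disjoint_def]
    intro v hv hv'
    have hker : (⨆ (j) (_ : j ≠ i), rangeOf (e j)) ≤ LinearMap.ker (Matrix.toLin' (e i)) := by
      refine iSup₂_le fun j hj => ?_
      rintro w ⟨u, rfl⟩
      rw [LinearMap.mem_ker, toLin'_mulVec, toLin'_mulVec, Matrix.mulVec_mulVec,
        he.orth i j (Ne.symm hj), Matrix.zero_mulVec]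
    have h1 := (mem_rangeOf_idem (he.idem i)).mp hv
    have h2 := hker hv'
    rw [LinearMap.mem_ker, toLin'_mulVec, h1] at h2
    exact h2
  · rw [eq_top_iff]
    intro v _
    have : v = ∑ i, e i *ᵥ v := by rw [← Matrix.sum_mulVec, he.sum_eq, Matrix.one_mulVec]
    rw [this]
    exact Submodule.sum_mem _ fun i _ => Submodule.mem_iSup_of_mem i ⟨v, toLin'_mulVec _ v⟩
  · intro g hg
    obtain ⟨s, hs⟩ := he.perm g hg
    exact ⟨s, fun i => by rw [map_rangeOf, hs]⟩

/-- Self-adjoint orthogonal idempotents cut out a non-degenerate orthogonal decomposition. -/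
lemma IsIdemFrame.nondegenerate (hσ : ∀ a, σ (σ a) = a) {H : Subgroup (GL ι F)} {t : ℕ}
    {e : Fin t → Matrix ι ι F} (he : IsIdemFrame H e) (hself : ∀ i, adjM σ G (e i) = e i) :
    ∃ m, IsNondegenerateMDecomposition (formM σ (G : Matrix ι ι F)) m (fun i => rangeOf (e i)) ∧
      H ≤ decompositionStabilizer (fun i => rangeOf (e i)) := by
  obtain ⟨m, hm, hle⟩ := he.decomposition
  refine ⟨m, ⟨hm, fun i w hw hw0 => ?_, fun i j hij u hu v hv => ?_⟩, hle⟩
  · have hew := (mem_rangeOf_idem (he.idem i)).mp hw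
    obtain ⟨⟨x, hx⟩, ⟨y, hy⟩⟩ := nondegenerate_formM σ G w hw0
    refine ⟨⟨e i *ᵥ x, ⟨x, toLin'_mulVec _ _⟩, ?_⟩, ⟨e i *ᵥ y, ⟨y, toLin'_mulVec _ _⟩, ?_⟩⟩
    · rwa [formM_adjM hσ, hself, hew]
    · rw [← hew, formM_adjM hσ, hself, Matrix.mulVec_mulVec, he.idem, ← hself i, ← formM_adjM hσ, hew]
      exact hy
  · rw [← (mem_rangeOf_idem (he.idem i)).mp hu, formM_adjM hσ, hself,
      ← (mem_rangeOf_idem (he.idem j)).mp hv, Matrix.mulVec_mulVec, he.orth i j hij, Matrix.zero_mulVec]
    exact formM_zero_right _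

/-- Interchanged idempotents cut out totally singular subspaces. -/
lemma totallySingular_of_adj (hσ : ∀ a, σ (σ a) = a) {a b : Matrix ι ι F}
    (ha : a * a = a) (hab : adjM σ G a = b) (hba : b * a = 0) :
    IsTotallySingularFor (formM σ (G : Matrix ι ι F)) (rangeOf a) := by
  intro u hu v hv
  rw [← (mem_rangeOf_idem ha).mp hu, formM_adjM hσ, hab, ← (mem_rangeOf_idem ha).mp hv,
    Matrix.mulVec_mulVec, hba, Matrix.zero_mulVec]
  exact formM_zero_right _

/-- The imprimitive case for a group of isometries. -/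
theorem exists_decomposition_of_imprimitive (hF : IsFormGram σ G ε) {H : Subgroup (GL ι F)}
    (hH : Invariant σ H (G : Matrix ι ι F)) (him : HasImprimitive H) :
    (∃ (t : ℕ) (e : Fin t → Matrix ι ι F), IsIdemFrame H e ∧ ∀ i, adjM σ G (e i) = e i) ∨
    (∃ e : Fin 2 → Matrix ι ι F, IsIdemFrame H e ∧ adjM σ G (e 0) = e 1 ∧ adjM σ G (e 1) = e 0) := by
  classical
  obtain ⟨N, t, e, m, hNH, -, he, hm, hle, htr⟩ := him
  have ht := hm.two_le
  have hperm : ∀ g ∈ H, ∃ s : Equiv.Perm (Fin t), ∀ i, rangeOf (conjM g (e i)) = rangeOf (e (s i)) := by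
    intro g hg
    obtain ⟨s, hs⟩ := hle hg
    exact ⟨s, fun i => by rw [← map_rangeOf]; exact hs i⟩
  have hinj : Function.Injective e := by
    intro i j h
    by_contra hij
    exact he.ne_zero i (by rw [← he.idem i]; nth_rewrite 2 [h]; exact he.orth i j hij)
  have htrans : ∀ i j, ∃ g ∈ H, conjM g (e i) = e j := htr
  obtain ⟨π, hπ⟩ := he.exists_perm (adjEquiv hF) (fun a => adjM_mem_spanAlg_iff hF (hH.mono hNH))
    adjM_zero (fun x y hxy => by
      rw [adjEquiv_apply, adjEquiv_apply, adjEquiv_apply, hxy, adjM_mul])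
  simp only [adjEquiv_apply] at hπ
  have hππ : ∀ i, π (π i) = i := fun i => hinj (by rw [← hπ, ← hπ, adjM_adjM hF])
  -- conjugation permutes the idempotents
  have hconj : ∀ g ∈ H, ∃ s : Equiv.Perm (Fin t), ∀ i, conjM g (e i) = e (s i) := by
    intro g hg
    have hex : ∀ i, ∃ j, conjM g (e i) = e j := by
      intro i
      obtain ⟨s, hs⟩ := hperm g hg
      refine ⟨s i, ?_⟩
      have hidem : conjM g (e i) * conjM g (e i) = conjM g (e i) := by rw [← map_mul, he.idem]
      have key : ∀ v, e (s i) *ᵥ (conjM g (e i) *ᵥ v) = conjM g (e i) *ᵥ v := fun v =>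
        (mem_rangeOf_idem (he.idem _)).mp (by rw [← hs i]; exact ⟨v, toLin'_mulVec _ v⟩)
      have hzero : ∀ j, j ≠ i → e (s i) * conjM g (e j) = 0 := by
        intro j hji
        apply Matrix.toLin'.injective
        refine LinearMap.ext fun v => ?_
        rw [map_zero, LinearMap.zero_apply, toLin'_mulVec, ← Matrix.mulVec_mulVec]
        have : conjM g (e j) *ᵥ v ∈ rangeOf (e (s j)) := by rw [← hs j]; exact ⟨v, toLin'_mulVec _ v⟩
        rw [← (mem_rangeOf_idem (he.idem _)).mp this, Matrix.mulVec_mulVec,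
          he.orth _ _ (fun h => hji (s.injective h).symm), Matrix.zero_mulVec]
      have hfix : e (s i) * conjM g (e i) = conjM g (e i) := by
        apply Matrix.toLin'.injective
        refine LinearMap.ext fun v => ?_
        rw [toLin'_mulVec, toLin'_mulVec, ← Matrix.mulVec_mulVec, key]
      calc conjM g (e i) = e (s i) * conjM g (e i) := hfix.symm
        _ = ∑ j, e (s i) * conjM g (e j) := (Finset.sum_eq_single i (fun j _ hj => hzero j hj)
            (fun h => absurd (Finset.mem_univ i) h)).symm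
        _ = e (s i) := by rw [← Finset.mul_sum, ← map_sum, he.sum_eq, map_one, mul_one]
    choose f hf using hex
    have hfi : Function.Injective f := by
      intro a b h
      exact hinj ((conjM g).injective (by rw [hf, hf, h]))
    exact ⟨Equiv.ofBijective f (Finite.injective_iff_bijective.mp hfi), hf⟩
  have hcomm : ∀ g ∈ H, ∀ i j, conjM g (e i) = e j → conjM g (e (π i)) = e (π j) := by
    intro g hg i j h
    rw [← hπ, ← adjM_conjM hF.invol hH hg, h, hπ]
  by_cases hfix : ∀ i, π i = i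
  · exact Or.inl ⟨t, e, ⟨ht, he.idem, he.orth, he.sum_eq, he.ne_zero, hconj, htrans⟩,
      fun i => by rw [hπ, hfix]⟩
  push Not at hfix
  obtain ⟨i₁, hi₁⟩ := hfix
  have hnofix : ∀ i, π i ≠ i := by
    intro i hi
    obtain ⟨g, hg, hgi⟩ := htrans i i₁
    have := hcomm g hg i i₁ hgi
    rw [hi, hgi] at this
    exact hi₁ (hinj this).symm
  let S := Finset.univ.filter (fun i : Fin t => i < π i)
  let rep : Fin t → Fin t := fun i => if i < π i then i else π i
  have hrep : ∀ i, rep i ∈ S := by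
    intro i
    simp only [S, rep, Finset.mem_filter, Finset.mem_univ, true_and]
    split_ifs with h
    · exact h
    · rw [hππ]
      exact lt_of_le_of_ne (not_lt.mp h) (hnofix i)
  have hrepeq : ∀ i, e (rep i) + e (π (rep i)) = e i + e (π i) := by
    intro i
    simp only [rep]
    split_ifs with h
    · rfl
    · rw [hππ, add_comm]
  let f : Fin S.card → Matrix ι ι F := fun k => e (S.equivFin.symm k).1 + e (π (S.equivFin.symm k).1)
  by_cases hS : S.card ≤ 1
  · -- exactly two members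
    right
    have hall : ∀ i, i = i₁ ∨ i = π i₁ := by
      intro i
      have h1 := Finset.card_le_one.mp hS _ (hrep i) _ (hrep i₁)
      simp only [rep] at h1
      split_ifs at h1 with ha hb hb
      · exact Or.inl h1
      · exact Or.inr h1
      · exact Or.inr (by rw [← h1, hππ])
      · exact Or.inl (π.injective h1)
    have ht2 : t = 2 := by
      have h1 : (Finset.univ : Finset (Fin t)) ⊆ {i₁, π i₁} := by
        intro i _
        rcases hall i with h | h <;> simp [h]
      have h2 := (Finset.card_le_card h1).trans Finset.card_le_two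
      rw [Finset.card_univ, Fintype.card_fin] at h2
      omega
    subst ht2
    have h01 : π 0 = 1 ∧ π 1 = 0 := by
      have a := hnofix 0
      have b := hnofix 1
      constructor <;> omega
    exact ⟨e, ⟨le_rfl, he.idem, he.orth, he.sum_eq, he.ne_zero, hconj, htrans⟩,
      by rw [hπ, h01.1], by rw [hπ, h01.2]⟩
  left
  have hmemS : ∀ k, (S.equivFin.symm k).1 < π (S.equivFin.symm k).1 := fun k => by
    exact (Finset.mem_filter.mp (S.equivFin.symm k).2).2
  have hpair : ∀ k l, k ≠ l → (S.equivFin.symm k).1 ≠ (S.equivFin.symm l).1 ∧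
      (S.equivFin.symm k).1 ≠ π (S.equivFin.symm l).1 ∧
      π (S.equivFin.symm k).1 ≠ (S.equivFin.symm l).1 ∧
      π (S.equivFin.symm k).1 ≠ π (S.equivFin.symm l).1 := by
    intro k l hkl
    have h1 : (S.equivFin.symm k).1 ≠ (S.equivFin.symm l).1 := fun h =>
      hkl (S.equivFin.symm.injective (Subtype.ext h))
    have ha := hmemS k
    have hb := hmemS l
    refine ⟨h1, fun h => ?_, fun h => ?_, fun h => h1 (π.injective h)⟩
    · rw [h, hππ] at ha; exact lt_asymm ha hb
    · rw [← h, hππ] at hb; exact lt_asymm ha hb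
  have hnum : ∀ i, f (S.equivFin ⟨rep i, hrep i⟩) = e i + e (π i) := by
    intro i
    simp only [f, Equiv.symm_apply_apply]
    exact hrepeq i
  refine ⟨S.card, f, ⟨by omega, fun k => ?_, fun k l hkl => ?_, ?_, fun k h => ?_, fun g hg => ?_,
    fun k l => ?_⟩, fun k => ?_⟩
  · simp only [f, add_mul, mul_add, he.idem, he.orth _ _ (hnofix _),
      he.orth _ _ (Ne.symm (hnofix _)), add_zero, zero_add]
  · obtain ⟨h1, h2, h3, h4⟩ := hpair k l hkl
    simp only [f, add_mul, mul_add, he.orth _ _ h1, he.orth _ _ h2, he.orth _ _ h3, he.orth _ _ h4,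
      add_zero]
  · rw [← he.sum_eq]
    simp only [f]
    rw [Equiv.sum_comp S.equivFin.symm (fun x : S => e x.1 + e (π x.1)),
      Finset.sum_coe_sort S (fun x => e x + e (π x)), Finset.sum_add_distrib]
    rw [← Finset.sum_compl_add_sum S e, add_comm]
    congr 1
    refine Finset.sum_bij (fun i _ => π i) ?_ (fun a _ b _ h => π.injective h) ?_ (fun _ _ => rfl)
    · intro i hi
      simp only [S, Finset.mem_filter, Finset.mem_univ, true_and] at hi
      simp only [S, Finset.mem_compl, Finset.mem_filter, Finset.mem_univ, true_and, hππ, not_lt]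
      exact hi.le
    · intro i hi
      simp only [S, Finset.mem_compl, Finset.mem_filter, Finset.mem_univ, true_and, not_lt] at hi
      refine ⟨π i, ?_, hππ i⟩
      simp only [S, Finset.mem_filter, Finset.mem_univ, true_and, hππ]
      exact lt_of_le_of_ne hi (hnofix i)
  · apply he.ne_zero (S.equivFin.symm k).1
    have := congrArg (fun x => e (S.equivFin.symm k).1 * x) h
    simpa only [f, mul_add, he.idem, he.orth _ _ (Ne.symm (hnofix _)), add_zero, mul_zero] using this
  · obtain ⟨s, hs⟩ := hconj g hg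
    let φ : Fin S.card → Fin S.card := fun k =>
      S.equivFin ⟨rep (s (S.equivFin.symm k).1), hrep _⟩
    have hφ : ∀ k, conjM g (f k) = f (φ k) := by
      intro k
      simp only [φ, hnum]
      simp only [f, map_add]
      rw [hcomm g hg _ _ (hs _), hs]
    have hφi : Function.Injective φ := by
      intro k l hkl
      by_contra hne
      obtain ⟨h1, h2, h3, h4⟩ := hpair k l hne
      have hk := hφ k
      rw [hkl, ← hφ l] at hk
      have := congrArg (fun x => e (S.equivFin.symm k).1 * x) ((conjM g).injective hk)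
      simp only [f, mul_add, he.idem, he.orth _ _ h1, he.orth _ _ h2,
        he.orth _ _ (Ne.symm (hnofix _)), add_zero] at this
      exact he.ne_zero _ this
    exact ⟨Equiv.ofBijective φ (Finite.injective_iff_bijective.mp hφi), hφ⟩
  · obtain ⟨g, hg, hgk⟩ := htrans (S.equivFin.symm k).1 (S.equivFin.symm l).1
    refine ⟨g, hg, ?_⟩
    simp only [f, map_add]
    rw [hgk, hcomm g hg _ _ hgk]
  · simp only [f, adjM_add, hπ, hππ]
    exact add_comm _ _

end

end Cfsg.Agent.Lib.Aschbacher
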