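/-
Facts on finite fields used in Aschbacher's theorem: subfields as fixed sets of powers, subfields of prime index,
the subfield of prime degree inside a field subalgebra of matrices, and scalars with a prescribed twist.
-/
import Mathlib
import Cfsg.Prelude.Def_GeometricClasses

set_option autoImplicit false

namespace Cfsg.Agent.Lib.Aschbacher

open Cfsg Cfsg.Geo Matrix Polynomial

section fields

variable {L : Type*} [Field L]

lemma ncard_pow_eq_self_le {Q : ℕ} (hQ : 1 < Q) : Set.ncard {x : L | x ^ Q = x} ≤ Q := by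
  classical
  have hne : (X ^ Q - X : L[X]) ≠ 0 := FiniteField.X_pow_card_sub_X_ne_zero L hQ
  have hset : {x : L | x ^ Q = x} = ↑(X ^ Q - X : L[X]).roots.toFinset := by
    ext x
    simp [mem_roots hne, sub_eq_zero]
  rw [hset, Set.ncard_coe_finset]
  exact (Multiset.toFinset_card_le _).trans ((card_roots' _).trans
    (FiniteField.X_pow_card_sub_X_natDegree_eq L hQ).le)

variable [Finite L]

lemma subfield_card_one_lt (F₀ : Subfield L) : 1 < Nat.card F₀ := Finite.one_lt_card

lemma mem_subfield_iff (F₀ : Subfield L) (x : L) : x ∈ F₀ ↔ x ^ Nat.card F₀ = x := by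
  classical
  haveI : Fintype F₀ := Fintype.ofFinite _
  have hsub : (F₀ : Set L) ⊆ {x : L | x ^ Nat.card F₀ = x} := by
    intro y hy
    have := congrArg Subtype.val (FiniteField.pow_card (⟨y, hy⟩ : F₀))
    rw [Nat.card_eq_fintype_card]
    exact this
  have heq := Set.eq_of_subset_of_ncard_le hsub (by
    rw [← Nat.card_coe_set_eq (F₀ : Set L)]
    exact ncard_pow_eq_self_le (subfield_card_one_lt F₀)) (Set.toFinite _)
  exact Set.ext_iff.mp heq x

/-- The Frobenius of a subfield. -/
lemma exists_frobenius (F₀ : Subfield L) : ∃ σ : L ≃+* L, ∀ x, σ x = x ^ Nat.card F₀ := by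
  haveI : Fintype F₀ := Fintype.ofFinite _
  let f : L →ₐ[F₀] L := FiniteField.frobeniusAlgHom F₀ L
  refine ⟨RingEquiv.ofBijective f.toRingHom ?_, fun x => ?_⟩
  · exact ⟨f.toRingHom.injective, Finite.surjective_of_injective f.toRingHom.injective⟩
  · show f x = _
    rw [Nat.card_eq_fintype_card]
    rfl

lemma exists_card_eq_pow (F₀ : Subfield L) : ∃ e, 1 ≤ e ∧ Nat.card L = Nat.card F₀ ^ e :=
  ⟨Module.finrank F₀ L, Module.finrank_pos, Module.natCard_eq_pow_finrank⟩

lemma subfield_card_lt {F₀ : Subfield L} (h : F₀ ≠ ⊤) : Nat.card F₀ < Nat.card L := by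
  refine lt_of_le_of_ne (Nat.card_le_card_of_injective _ Subtype.val_injective) fun he => h ?_
  rw [eq_top_iff]
  intro x _
  have hsurj := ((Nat.bijective_iff_injective_and_card (Subtype.val : F₀ → L)).mpr
    ⟨Subtype.val_injective, he⟩).2
  obtain ⟨y, rfl⟩ := hsurj x
  exact y.2

/-- An intermediate field of every degree dividing the degree. -/
lemma exists_intermediate (k : Type*) [Field k] [Algebra k L] {d : ℕ} (hd : 0 < d)
    (hdvd : d ∣ Module.finrank k L) :
    ∃ S : IntermediateField k L, Module.finrank k S = d ∧ ∀ x, x ∈ S ↔ x ^ (Nat.card k ^ d) = x := by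
  haveI : Finite k := Finite.of_injective _ (algebraMap k L).injective
  obtain ⟨p, hp⟩ := CharP.exists k
  haveI : Fact p.Prime := ⟨CharP.char_is_prime k p⟩
  haveI : NeZero d := ⟨hd.ne'⟩
  letI : Algebra (ZMod p) k := ZMod.algebra k p
  have hrank : Module.finrank k (FiniteField.Extension k p d) = d := FiniteField.finrank_extension k p d
  obtain ⟨ψ⟩ := FiniteField.nonempty_algHom_of_finrank_dvd (F := k) (K := FiniteField.Extension k p d)
    (L := L) (by rw [hrank]; exact hdvd)
  have hS : Module.finrank k ψ.fieldRange = d := by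
    exact (AlgEquiv.ofInjectiveField ψ).toLinearEquiv.finrank_eq.symm.trans hrank
  refine ⟨ψ.fieldRange, hS, fun x => ?_⟩
  have hcard : Nat.card ψ.fieldRange.toSubfield = Nat.card k ^ d := by
    have h := Module.natCard_eq_pow_finrank (K := k) (V := ψ.fieldRange)
    rw [hS] at h
    exact h
  rw [← hcard]
  exact mem_subfield_iff ψ.fieldRange.toSubfield x

/-- Above a proper subfield there is a subfield of prime index. -/
lemma exists_prime_index {F₀ : Subfield L} (h : F₀ ≠ ⊤) :
    ∃ (F₁ : Subfield L) (r : ℕ), F₀ ≤ F₁ ∧ r.Prime ∧ Nat.card L = Nat.card F₁ ^ r ∧ F₁ ≠ ⊤ := by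
  classical
  obtain ⟨e, he, hcard⟩ := exists_card_eq_pow F₀
  have he2 : 2 ≤ e := by
    by_contra h2
    have h1 : e = 1 := by omega
    rw [h1, pow_one] at hcard
    exact (subfield_card_lt h).ne hcard.symm
  have hfr : Module.finrank F₀ L = e := by
    have h' : Nat.card L = Nat.card F₀ ^ Module.finrank F₀ L := Module.natCard_eq_pow_finrank
    exact Nat.pow_right_injective (subfield_card_one_lt F₀) (h'.symm.trans hcard)
  obtain ⟨r, hr, hre⟩ := Nat.exists_prime_and_dvd (n := e) (by omega)
  obtain ⟨d, rfl⟩ := hre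
  have hd : 0 < d := Nat.pos_of_ne_zero (by rintro rfl; simp at he2)
  obtain ⟨S, hS, hmem⟩ := exists_intermediate (L := L) F₀ hd (by rw [hfr]; exact dvd_mul_left d r)
  have hScard : Nat.card S.toSubfield = Nat.card F₀ ^ d := by
    have h' := Module.natCard_eq_pow_finrank (K := F₀) (V := S)
    rw [hS] at h'
    exact h'
  refine ⟨S.toSubfield, r, fun x hx => S.algebraMap_mem ⟨x, hx⟩, hr, ?_, ?_⟩
  · rw [hScard, ← pow_mul, mul_comm, hcard]
  · intro htop
    have h1 : Nat.card S.toSubfield = Nat.card L := by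
      rw [htop]
      exact Nat.card_congr Subfield.topEquiv.toEquiv
    rw [hScard, hcard] at h1
    have h3 := Nat.pow_right_injective (subfield_card_one_lt F₀) h1
    have h2 := hr.two_le
    nlinarith

/-- The subfield of fixed points of the `d`-th power of the absolute Frobenius. -/
def frobFixed (L : Type*) [Field L] (p d : ℕ) [Fact p.Prime] [CharP L p] : Subfield L where
  carrier := {x | x ^ (p ^ d) = x}
  mul_mem' {a b} ha hb := by simp only [Set.mem_ofPred_eq, mul_pow] at *; rw [ha, hb]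
  one_mem' := one_pow _
  add_mem' {a b} ha hb := by
    simp only [Set.mem_ofPred_eq] at *
    rw [add_pow_char_pow, ha, hb]
  zero_mem' := zero_pow (pow_ne_zero _ (Fact.out : p.Prime).ne_zero)
  neg_mem' {a} ha := by
    simp only [Set.mem_ofPred_eq] at *
    have : (-a + a) ^ (p ^ d) = -a + a := by simp [(Fact.out : p.Prime).ne_zero]
    rw [add_pow_char_pow, ha] at this
    exact add_right_cancel this
  inv_mem' a ha := by simp only [Set.mem_ofPred_eq, inv_pow] at *; rw [ha]

lemma mem_frobFixed {p d : ℕ} [Fact p.Prime] [CharP L p] {x : L} :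
    x ∈ frobFixed L p d ↔ x ^ (p ^ d) = x := Iff.rfl

lemma frobFixed_ne_top {p d : ℕ} [Fact p.Prime] [CharP L p] (hd : 0 < d) (h : p ^ d < Nat.card L) :
    frobFixed L p d ≠ ⊤ := by
  intro htop
  have huniv : {x : L | x ^ (p ^ d) = x} = Set.univ :=
    Set.eq_univ_of_forall fun x => mem_frobFixed.mp (by rw [htop]; trivial)
  have h1 := ncard_pow_eq_self_le (L := L) (Q := p ^ d) (Nat.one_lt_pow hd.ne' (Fact.out : p.Prime).one_lt)
  rw [huniv, Set.ncard_univ] at h1
  omega

/-- For an involutory automorphism other than the identity every element of norm one is a twist. -/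
lemma exists_twist {σ : L ≃+* L} (hσ : σ ≠ RingEquiv.refl L) {c : L} (hc : c * σ c = 1)
    (hinv : ∀ a, σ (σ a) = a) : ∃ μ : L, μ ≠ 0 ∧ c * σ μ = μ := by
  by_contra h
  push Not at h
  have key : ∀ a : L, a + c * σ a = 0 := fun a => by
    by_contra ha
    refine h _ ha ?_
    rw [map_add, map_mul, hinv]
    linear_combination a * hc
  have h1 := key 1
  rw [map_one, mul_one] at h1
  apply hσ
  ext a
  have h2 := key a
  rw [RingEquiv.refl_apply]
  linear_combination (-1 : L) * h2 + σ a * h1

end fields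

variable {ι : Type} [Fintype ι] [DecidableEq ι] {F : Type*} [Field F] [Finite F]

/-- A field subalgebra contains one of prime degree, preserved by every map preserving it and its powers. -/
lemma exists_prime_subalgebra {E : Subalgebra F (Matrix ι ι F)} {r : ℕ} (hr : 2 ≤ r)
    (hE : IsFieldSubalgebra r E) :
    ∀ {r' : ℕ}, r'.Prime → r' ∣ r → ∃ K : Subalgebra F (Matrix ι ι F), IsFieldSubalgebra r' K ∧ K ≤ E ∧
      ∀ φ : Matrix ι ι F ≃ Matrix ι ι F, (∀ x, φ x ∈ E ↔ x ∈ E) →
        (∀ x, ∀ k : ℕ, φ (x ^ k) = φ x ^ k) → ∀ x, φ x ∈ K ↔ x ∈ K := by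
  intro r' hr' hdvd
  have hne : (1 : ↥E) ≠ 0 := by
    intro h
    haveI : Subsingleton ↥E := subsingleton_of_zero_eq_one h.symm
    have := hE.finrank_eq
    rw [Module.finrank_zero_of_subsingleton] at this
    omega
  haveI : Finite ↥E := Module.finite_of_finite F
  have hfield : IsField ↥E :=
    { exists_pair_ne := ⟨1, 0, hne⟩
      mul_comm := fun x y => Subtype.ext (hE.comm x x.2 y y.2)
      mul_inv_cancel := fun {a} ha => by
        obtain ⟨y, hy, hxy⟩ := hE.inv a a.2 (fun h => ha (Subtype.ext h))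
        exact ⟨⟨y, hy⟩, Subtype.ext hxy⟩ }
  letI : Field ↥E := hfield.toField
  obtain ⟨S, hS, hmem⟩ := exists_intermediate (L := ↥E) F hr'.pos (by
    rw [hE.finrank_eq]; exact hdvd)
  set K := S.toSubalgebra.map E.val with hKdef
  have hKmem : ∀ z, z ∈ K ↔ z ∈ E ∧ z ^ (Nat.card F ^ r') = z := by
    intro z
    rw [hKdef, Subalgebra.mem_map]
    constructor
    · rintro ⟨y, hy, rfl⟩
      refine ⟨y.2, ?_⟩
      have := congrArg Subtype.val ((hmem y).mp hy)
      simpa using this
    · rintro ⟨hz, hzp⟩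
      exact ⟨⟨z, hz⟩, (hmem _).mpr (Subtype.ext (by simpa using hzp)), rfl⟩
  refine ⟨K, ⟨fun x hx y hy => ?_, ?_, ?_⟩, fun z hz => ((hKmem z).mp hz).1, fun φ hφ hpow x => ?_⟩
  · exact hE.comm x ((hKmem x).mp hx).1 y ((hKmem y).mp hy).1
  · rintro x hx hx0
    obtain ⟨y, hy, rfl⟩ := Subalgebra.mem_map.mp hx
    refine ⟨E.val y⁻¹, Subalgebra.mem_map.mpr ⟨y⁻¹, S.inv_mem hy, rfl⟩, ?_⟩
    rw [← map_mul, mul_inv_cancel₀ (by rintro rfl; exact hx0 (map_zero _)), map_one]
  · rw [← hS]
    exact (Subalgebra.equivMapOfInjective _ E.val Subtype.val_injective).toLinearEquiv.finrank_eq.symm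
  · rw [hKmem, hKmem, hφ, ← hpow]
    exact and_congr_right fun _ => φ.injective.eq_iff

end Cfsg.Agent.Lib.Aschbacher
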