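/-
Realisability over subfields: Galois descent for absolutely irreducible groups, membership in subfield groups,
and the twists of groups of symplectic type.
-/
import Cfsg.Agent.Lib.Aschbacher.FormMat
import Cfsg.Agent.Lib.Aschbacher.Fields

set_option autoImplicit false

namespace Cfsg.Agent.Lib.Aschbacher

open Cfsg Cfsg.Geo Matrix

variable {ι : Type} [Fintype ι] [DecidableEq ι] {F : Type*} [Field F]

lemma mulVec_twist (σ : F ≃+* F) (A : Matrix ι ι F) (v : ι → F) :
    (fun i => σ ((A *ᵥ v) i)) = twist σ A *ᵥ fun i => σ (v i) := by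
  funext i
  simp [Matrix.mulVec, dotProduct, map_sum]

lemma ringEquiv_pow_apply (σ : F ≃+* F) (i : ℕ) (a : F) : (σ ^ i) a = σ^[i] a :=
  congrFun (hom_coe_pow (fun f : F ≃+* F => ⇑f) rfl (fun _ _ => rfl) σ i) a

variable [Finite F] [Nonempty ι]

/-- Galois descent: a spanning group whose Frobenius twist is conjugate to it is realisable over the subfield. -/
theorem realisable_of_twist_conj {N : Subgroup (GL ι F)} (hN : spanAlg N = ⊤) (F₀ : Subfield F)
    {σ : F ≃+* F} (hσ : ∀ x, σ x = x ^ Nat.card F₀) {C : GL ι F}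
    (hC : ∀ x ∈ N, twist σ (x : Matrix ι ι F) = conjM C (x : Matrix ι ι F)) :
    RealisableOver F₀ (matrixSet N) := by
  classical
  obtain ⟨e, he, hcard⟩ := exists_card_eq_pow F₀
  have hQ : 1 < Nat.card F₀ := subfield_card_one_lt F₀
  have hiter : ∀ (i : ℕ) (x : F), (σ ^ i) x = x ^ (Nat.card F₀ ^ i) := by
    intro i
    induction i with
    | zero => intro x; simp
    | succ i ih =>
      intro x
      rw [pow_succ', RingAut.mul_apply, ih, hσ, ← pow_mul, ← pow_succ]
  have he1 : σ ^ e = 1 := by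
    ext x
    rw [hiter, ← hcard, RingAut.one_apply]
    haveI : Fintype F := Fintype.ofFinite F
    rw [Nat.card_eq_fintype_card]
    exact FiniteField.pow_card x
  have hdistinct : ∀ i < e, ∀ j < e, (∀ x : F, (σ ^ i) x = (σ ^ j) x) → i = j := by
    suffices h : ∀ i j, i < j → j < e → (∀ x : F, (σ ^ i) x = (σ ^ j) x) → False by
      intro i hi j hj hx
      rcases lt_trichotomy i j with hij | hij | hij
      · exact (h i j hij hj hx).elim
      · exact hij
      · exact (h j i hij hi fun x => (hx x).symm).elim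
    intro i j hij hj hx
    have hfix : ∀ x : F, x ^ (Nat.card F₀ ^ (j - i)) = x := fun x => by
      rw [← hiter]
      apply (σ ^ i).injective
      rw [← RingAut.mul_apply, ← pow_add, Nat.add_sub_cancel' hij.le]
      exact (hx x).symm
    have h1 := ncard_pow_eq_self_le (L := F) (Q := Nat.card F₀ ^ (j - i))
      (Nat.one_lt_pow (by omega) hQ)
    rw [Set.eq_univ_of_forall (s := {x : F | x ^ (Nat.card F₀ ^ (j - i)) = x}) hfix, Set.ncard_univ,
      hcard] at h1
    exact absurd h1 (not_le.mpr (Nat.pow_lt_pow_right hQ (by omega)))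
  -- the powers of the semilinear map
  set Ci : Matrix ι ι F := ((C⁻¹ : GL ι F) : Matrix ι ι F) with hCi
  let Cs : ℕ → Matrix ι ι F := fun i => Nat.rec 1 (fun _ D => Ci * twist σ D) i
  have hCs0 : Cs 0 = 1 := rfl
  have hCs1 : ∀ i, Cs (i + 1) = Ci * twist σ (Cs i) := fun i => rfl
  have hCs2 : ∀ i, Cs (i + 1) = Cs i * twist (σ ^ i) Ci := by
    intro i
    induction i with
    | zero =>
      rw [hCs1, hCs0, twist_one, mul_one, one_mul]
      ext a b; simp
    | succ i ih =>
      calc Cs (i + 1 + 1) = Ci * twist σ (Cs i * twist (σ ^ i) Ci) := by rw [← ih]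
        _ = Cs (i + 1) * twist σ (twist (σ ^ i) Ci) := by rw [twist_mul, ← mul_assoc]
        _ = Cs (i + 1) * twist (σ ^ (i + 1)) Ci := by
          congr 1
          ext a b
          simp [pow_succ', RingAut.mul_apply]
  have hconj : ∀ i, ∀ x ∈ N, Cs i * twist (σ ^ i) (x : Matrix ι ι F) = (x : Matrix ι ι F) * Cs i := by
    intro i
    induction i with
    | zero =>
      intro x _
      rw [hCs0, one_mul, mul_one]
      ext a b; simp
    | succ i ih =>
      intro x hx
      have h1 := congrArg (twist σ) (ih x hx)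
      rw [twist_mul, twist_mul, hC x hx, conjM_apply] at h1
      have h2 : twist σ (twist (σ ^ i) (x : Matrix ι ι F)) = twist (σ ^ (i + 1)) (x : Matrix ι ι F) := by
        ext a b
        simp [pow_succ', RingAut.mul_apply]
      rw [h2] at h1
      rw [hCs1, mul_assoc, h1, ← mul_assoc, ← mul_assoc, ← mul_assoc, Units.inv_mul, one_mul, mul_assoc]
  obtain ⟨lam, hlam⟩ := (absIrred_of_span_top hN).2 (Cs e) (by
    rintro _ ⟨x, hx, rfl⟩
    simp only []
    conv_rhs => rw [← hconj e x hx]
    congr 1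
    ext a b
    simp [he1])
  have hCiu : IsUnit Ci := (C⁻¹).isUnit
  have hlam0 : lam ≠ 0 := by
    intro h
    have hu : ∀ i, IsUnit (Cs i) := by
      intro i
      induction i with
      | zero => exact isUnit_one
      | succ i ih =>
        rw [hCs2]
        refine ih.mul ?_
        rw [← coe_twistGL]
        exact (twistGL (σ ^ i) (C⁻¹)).isUnit
    have := (hu e).ne_zero
    rw [hlam, h, zero_smul] at this
    exact this rfl
  have hlamF : σ lam = lam := by
    have h1 := hCs1 e
    rw [hlam, twist_smul, twist_one] at h1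
    have h2 := hCs2 e
    rw [hlam, he1] at h2
    have h3 : twist (1 : F ≃+* F) Ci = Ci := by ext a b; simp
    rw [h3, h1, Matrix.mul_smul, mul_one, Matrix.smul_mul, one_mul] at h2
    by_contra hne
    have h4 : (σ lam - lam) • Ci = 0 := by rw [sub_smul, h2, sub_self]
    exact hCiu.ne_zero ((smul_eq_zero.mp h4).resolve_left (sub_ne_zero.mpr hne))
  have hlamF₀ : lam ∈ F₀ := (mem_subfield_iff F₀ lam).mpr ((hσ lam).symm.trans hlamF)
  -- adjust by an element of the right norm
  obtain ⟨μ, hμ⟩ := FiniteField.norm_surjective F₀ F ⟨lam⁻¹, F₀.inv_mem hlamF₀⟩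
  have hμprod : ∏ i ∈ Finset.range e, (σ ^ i) μ = lam⁻¹ := by
    simp only [hiter]
    rw [Finset.prod_pow_eq_pow_sum]
    have h := congrArg (fun y : F₀ => (y : F)) hμ
    have h2 := FiniteField.algebraMap_norm_eq_pow (K := F₀) (K' := F) (x := μ)
    rw [hcard] at h2
    rw [Nat.geomSum_eq hQ, ← h2]
    exact h
  let T : (ι → F) → (ι → F) := fun v => μ • (Ci *ᵥ fun j => σ (v j))
  let P : ℕ → F := fun i => ∏ l ∈ Finset.range i, (σ ^ l) μ
  have hTi : ∀ i (v : ι → F), T^[i] v = P i • (Cs i *ᵥ fun j => (σ ^ i) (v j)) := by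
    intro i
    induction i with
    | zero => intro v; simp [P, hCs0]
    | succ i ih =>
      intro v
      rw [Function.iterate_succ', Function.comp_apply, ih]
      have hP : P (i + 1) = μ * σ (P i) := by
        simp only [P, Finset.prod_range_succ', pow_zero, RingAut.one_apply, map_prod]
        rw [mul_comm]
        congr 1
        exact Finset.prod_congr rfl fun l _ => by rw [pow_succ', RingAut.mul_apply]
      have h' : (fun j => σ ((P i • (Cs i *ᵥ fun j => (σ ^ i) (v j))) j)) =
          σ (P i) • (twist σ (Cs i) *ᵥ fun j => (σ ^ (i + 1)) (v j)) := by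
        have h'' : (fun j => (σ ^ (i + 1)) (v j)) = fun j => σ ((σ ^ i) (v j)) := by
          funext j; rw [pow_succ', RingAut.mul_apply]
        rw [h'', ← mulVec_twist]
        funext j
        simp
      show μ • (Ci *ᵥ fun j => σ _) = _
      rw [h', Matrix.mulVec_smul, smul_smul, Matrix.mulVec_mulVec, ← hCs1, hP]
  have hTe : ∀ v : ι → F, T^[e] v = v := by
    intro v
    rw [hTi, hlam, he1, Matrix.smul_mulVec, Matrix.one_mulVec, smul_smul]
    have : P e * lam = 1 := by
      show (∏ i ∈ Finset.range e, (σ ^ i) μ) * lam = 1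
      rw [hμprod, inv_mul_cancel₀ hlam0]
    rw [this, one_smul]
    rfl
  -- fixed vectors
  have hTadd : ∀ (s : Finset ℕ) (f : ℕ → ι → F), T (∑ i ∈ s, f i) = ∑ i ∈ s, T (f i) := by
    intro s f
    let T' : (ι → F) →+ (ι → F) := AddMonoidHom.mk' T (fun x y => by
      have hxy : (fun j => σ ((x + y) j)) = (fun j => σ (x j)) + fun j => σ (y j) := by
        funext j; simp
      show μ • (Ci *ᵥ fun j => σ ((x + y) j)) = _
      rw [hxy, Matrix.mulVec_add, smul_add])
    exact map_sum T' f s
  let fix : (ι → F) → (ι → F) := fun v => ∑ i ∈ Finset.range e, T^[i] v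
  have hfix : ∀ v, T (fix v) = fix v := by
    intro v
    show T (∑ i ∈ Finset.range e, T^[i] v) = ∑ i ∈ Finset.range e, T^[i] v
    rw [hTadd]
    obtain ⟨e', rfl⟩ : ∃ e', e = e' + 1 := ⟨e - 1, by omega⟩
    conv_rhs => rw [Finset.sum_range_succ']
    rw [Finset.sum_range_succ]
    congr 1
    · exact Finset.sum_congr rfl fun i _ => by rw [Function.iterate_succ', Function.comp_apply]
    · rw [← Function.comp_apply (f := T) (g := T^[e']), ← Function.iterate_succ']
      exact hTe v
  have hspan : ⊤ ≤ Submodule.span F (Set.range fix) := by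
    by_contra hne
    have hlt : Submodule.span F (Set.range fix) < ⊤ := lt_top_iff_ne_top.mpr (fun h => hne h.ge)
    obtain ⟨φ, hφ0, hφ⟩ := Submodule.exists_dual_map_eq_bot_of_lt_top hlt inferInstance
    apply hφ0
    refine LinearMap.ext fun v => ?_
    have hzero : ∀ w, φ (fix w) = 0 := fun w => by
      have := Submodule.mem_map_of_mem (f := φ) (Submodule.subset_span (R := F) (Set.mem_range_self (f := fix) w))
      rw [hφ] at this
      exact this
    have hlin : ∀ a : F, ∑ i ∈ Finset.range e, φ (T^[i] v) * (σ ^ i) a = 0 := by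
      intro a
      rw [← hzero (a • v)]
      show _ = φ (∑ i ∈ Finset.range e, T^[i] (a • v))
      rw [map_sum]
      refine Finset.sum_congr rfl fun i _ => ?_
      have : T^[i] (a • v) = (σ ^ i) a • T^[i] v := by
        rw [hTi, hTi]
        have h' : (fun j => (σ ^ i) ((a • v) j)) = (σ ^ i) a • fun j => (σ ^ i) (v j) := by
          funext j; simp
        rw [h', Matrix.mulVec_smul, smul_comm]
      rw [this, map_smul, smul_eq_mul, mul_comm]
    let mon : Fin e → (F →* F) := fun i => ((σ ^ (i : ℕ) : F ≃+* F) : F →+* F).toMonoidHom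
    have hmon : Function.Injective mon := fun i j h =>
      Fin.ext (hdistinct i i.2 j j.2 fun x => DFunLike.congr_fun h x)
    have hind := (linearIndependent_monoidHom F F).comp mon hmon
    rw [Fintype.linearIndependent_iff] at hind
    have h0 := hind (fun i => φ (T^[(i : ℕ)] v)) (by
      funext a
      simp only [Finset.sum_apply, Pi.smul_apply, smul_eq_mul, Function.comp_apply, Pi.zero_apply]
      exact (Fin.sum_univ_eq_sum_range (fun i => φ (T^[i] v) * (σ ^ i) a) e).trans (hlin a))
      ⟨0, by omega⟩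
    simpa using h0
  obtain ⟨b, hbsub, hbspan, hbind⟩ := exists_linearIndependent F (Set.range fix)
  let bas : Module.Basis b F (ι → F) :=
    Module.Basis.mk hbind (by
      have hb' : Submodule.span F (Set.range (Subtype.val : b → ι → F)) = Submodule.span F b := by
        rw [Subtype.range_coe]
      rw [hb', hbspan]; exact hspan)
  let ie : ι ≃ b := (Pi.basisFun F ι).indexEquiv bas
  let B0m : Matrix ι ι F := Matrix.of fun i j => (ie j : ι → F) i
  have hB0u : IsUnit B0m := by
    rw [← Matrix.linearIndependent_cols_iff_isUnit]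
    exact hbind.comp _ ie.injective
  obtain ⟨B0, hB0⟩ := hB0u
  have hcol : μ • (Ci * twist σ (B0 : Matrix ι ι F)) = (B0 : Matrix ι ι F) := by
    rw [hB0]
    ext i j
    obtain ⟨w, hw⟩ := hbsub (ie j).2
    have hT := hfix w
    rw [hw] at hT
    exact congrFun hT i
  refine ⟨B0⁻¹, ?_⟩
  rintro _ ⟨x, hx, rfl⟩ i j
  have hB : twist σ (B0 : Matrix ι ι F) = μ⁻¹ • ((C : Matrix ι ι F) * (B0 : Matrix ι ι F)) := by
    have hμ0 : μ ≠ 0 := by
      rintro rfl
      have : (B0 : Matrix ι ι F) = 0 := by rw [← hcol, zero_smul]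
      exact B0.isUnit.ne_zero this
    conv_rhs => rw [← hcol]
    rw [Matrix.mul_smul, smul_smul, inv_mul_cancel₀ hμ0, one_smul, hCi, ← mul_assoc, Units.mul_inv,
      one_mul]
  set X := ((B0⁻¹ : GL ι F) : Matrix ι ι F) * (x : Matrix ι ι F) * (B0 : Matrix ι ι F) with hX
  have hXfix : twist σ X = X := by
    have h1 : twist σ (B0 : Matrix ι ι F) * twist σ X = twist σ (x : Matrix ι ι F) * twist σ (B0 : Matrix ι ι F) := by
      rw [← twist_mul, ← twist_mul, hX, ← mul_assoc, ← mul_assoc, Units.mul_inv, one_mul]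
    have h2 : twist σ (x : Matrix ι ι F) * twist σ (B0 : Matrix ι ι F) = twist σ (B0 : Matrix ι ι F) * X := by
      rw [hC x hx, hB, conjM_apply, Matrix.mul_smul, Matrix.smul_mul, hX]
      congr 1
      simp only [mul_assoc]
      rw [← mul_assoc ((C⁻¹ : GL ι F) : Matrix ι ι F), Units.inv_mul, one_mul,
        ← mul_assoc (B0 : Matrix ι ι F), Units.mul_inv, one_mul]
    rw [h2, ← coe_twistGL] at h1
    exact (twistGL σ B0).isUnit.mul_left_cancel h1
  show (((B0⁻¹ : GL ι F) : Matrix ι ι F) * (x : Matrix ι ι F) * (((B0⁻¹)⁻¹ : GL ι F) : Matrix ι ι F)) i j ∈ F₀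
  rw [inv_inv, mem_subfield_iff, ← hσ]
  exact congrFun (congrFun hXfix i) j

omit [Nonempty ι] in
/-- A group normalising a spanning group realised over a subfield lies in a subfield group. -/
theorem le_subfieldSubgroup [Nonempty ι] {H N : Subgroup (GL ι F)} (hN : spanAlg N = ⊤)
    (hn : Normalises H N) {F₁ : Subfield F} (hreal : RealisableOver F₁ (matrixSet N)) :
    ∃ P : GL ι F, H ≤ subfieldSubgroup F₁ P ∧
      ∀ x ∈ N, ∀ i j, (((P⁻¹ * x * P : GL ι F)) : Matrix ι ι F) i j ∈ F₁ := by
  classical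
  obtain ⟨B, hB⟩ := hreal
  obtain ⟨σ, hσ⟩ := exists_frobenius F₁
  refine ⟨B⁻¹, fun g hg => ?_, fun x hx i j => by
    simpa using hB _ (coe_mem_matrixSet hx) i j⟩
  set g' : GL ι F := B * g * B⁻¹ with hg'
  obtain ⟨i₀, j₀, hij⟩ : ∃ i j, (g' : Matrix ι ι F) i j ≠ 0 := by
    by_contra h
    push Not at h
    exact g'.isUnit.ne_zero (Matrix.ext h)
  set d := (g' : Matrix ι ι F) i₀ j₀ with hd
  set X : Matrix ι ι F := d⁻¹ • (g' : Matrix ι ι F) with hX
  have hXij : X i₀ j₀ = 1 := by rw [hX, Matrix.smul_apply, smul_eq_mul, inv_mul_cancel₀ hij]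
  -- linear equations with coefficients in the subfield
  have hfixed : ∀ x ∈ N, twist σ ((B * x * B⁻¹ : GL ι F) : Matrix ι ι F) =
      ((B * x * B⁻¹ : GL ι F) : Matrix ι ι F) := by
    intro x hx
    ext i j
    show σ _ = _
    rw [hσ, ← mem_subfield_iff]
    exact hB _ (coe_mem_matrixSet hx) i j
  have hXeq : ∀ x ∈ N, X * ((B * x * B⁻¹ : GL ι F) : Matrix ι ι F) =
      ((B * (g * x * g⁻¹) * B⁻¹ : GL ι F) : Matrix ι ι F) * X := by
    intro x hx
    rw [hX, Matrix.smul_mul, Matrix.mul_smul]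
    congr 1
    rw [← Units.val_mul, ← Units.val_mul]
    congr 1
    rw [hg']
    group
  have hσX : ∀ x ∈ N, twist σ X * ((B * x * B⁻¹ : GL ι F) : Matrix ι ι F) =
      ((B * (g * x * g⁻¹) * B⁻¹ : GL ι F) : Matrix ι ι F) * twist σ X := by
    intro x hx
    have h1 := congrArg (twist σ) (hXeq x hx)
    rwa [twist_mul, twist_mul, hfixed x hx, hfixed _ (hn g hg x hx)] at h1
  obtain ⟨c, hc⟩ := (absIrred_of_span_top hN).2
      (((B⁻¹ : GL ι F) : Matrix ι ι F) * ((g'⁻¹ : GL ι F) : Matrix ι ι F) * twist σ X * (B : Matrix ι ι F)) (by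
    rintro _ ⟨x, hx, rfl⟩
    simp only []
    have h1 := hσX x hx
    calc ((B⁻¹ : GL ι F) : Matrix ι ι F) * ((g'⁻¹ : GL ι F) : Matrix ι ι F) * twist σ X * (B : Matrix ι ι F) *
          (x : Matrix ι ι F)
        = ((B⁻¹ : GL ι F) : Matrix ι ι F) * ((g'⁻¹ : GL ι F) : Matrix ι ι F) *
            (twist σ X * ((B * x * B⁻¹ : GL ι F) : Matrix ι ι F)) * (B : Matrix ι ι F) := by
          simp only [Units.val_mul, mul_assoc, Units.inv_mul, mul_one]
      _ = ((B⁻¹ * g'⁻¹ * (B * (g * x * g⁻¹) * B⁻¹) : GL ι F) : Matrix ι ι F) * twist σ X *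
            (B : Matrix ι ι F) := by rw [h1]; simp only [Units.val_mul, mul_assoc]
      _ = ((x * B⁻¹ * g'⁻¹ : GL ι F) : Matrix ι ι F) * twist σ X * (B : Matrix ι ι F) := by
          congr 3
          rw [hg']
          group
      _ = _ := by simp only [Units.val_mul, mul_assoc])
  have hσX' : twist σ X = c • (g' : Matrix ι ι F) := by
    have h1 := congrArg (fun M => (g' : Matrix ι ι F) * (B : Matrix ι ι F) * M *
      ((B⁻¹ : GL ι F) : Matrix ι ι F)) hc
    simp only [Matrix.mul_smul, Matrix.smul_mul, mul_one] at h1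
    rw [mul_assoc (g' : Matrix ι ι F) (B : Matrix ι ι F) ((B⁻¹ : GL ι F) : Matrix ι ι F),
      Units.mul_inv, mul_one] at h1
    rw [← h1]
    simp only [mul_assoc, Units.mul_inv, mul_one]
    rw [← mul_assoc (B : Matrix ι ι F), Units.mul_inv, one_mul, ← mul_assoc, Units.mul_inv, one_mul]
  have hc1 : c * d = 1 := by
    have h1 := congrFun (congrFun hσX' i₀) j₀
    rw [twist, Matrix.map_apply, hXij, map_one, Matrix.smul_apply, smul_eq_mul] at h1
    exact h1.symm
  have hXfix : ∀ i j, X i j ∈ F₁ := fun i j => by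
    rw [mem_subfield_iff, ← hσ]
    have h1 := congrFun (congrFun hσX' i) j
    rw [eq_inv_of_mul_eq_one_left hc1] at h1
    exact h1
  let X₁ : Matrix ι ι F₁ := Matrix.of fun i j => ⟨X i j, hXfix i j⟩
  have hX₁ : X₁.map F₁.subtype = X := by ext i j; rfl
  have hXu : IsUnit X := by
    refine ⟨Units.mk0 d⁻¹ (inv_ne_zero hij) • g', ?_⟩
    simp [hX, Units.smul_def]
  have hX₁u : IsUnit X₁ := by
    rw [Matrix.isUnit_iff_isUnit_det, isUnit_iff_ne_zero]
    intro h0
    have h1 : F₁.subtype X₁.det = X.det := by rw [RingHom.map_det, RingHom.mapMatrix_apply, hX₁]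
    rw [h0, map_zero] at h1
    exact ((Matrix.isUnit_iff_isUnit_det _).mp hXu).ne_zero h1.symm
  obtain ⟨k, hk⟩ := hX₁u
  let z : GL ι F := Units.map (Matrix.scalar ι : F →+* Matrix ι ι F).toMonoidHom (Units.mk0 d hij)
  have hz : z ∈ scalars ι F := ⟨_, rfl⟩
  refine ⟨Matrix.GeneralLinearGroup.map (F₁.subtype : F₁ →+* F) k * z, ?_, ?_⟩
  · exact Subgroup.mul_mem _ (Subgroup.mem_sup_left ⟨k, rfl⟩) (Subgroup.mem_sup_right hz)
  · have hkz : Matrix.GeneralLinearGroup.map (F₁.subtype : F₁ →+* F) k * z = g' := by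
      apply Units.ext
      rw [Units.val_mul]
      show (k : Matrix ι ι F₁).map F₁.subtype * Matrix.scalar ι d = _
      rw [hk, hX₁, hX]
      simp [← Matrix.smul_one_eq_diagonal, smul_smul, mul_inv_cancel₀ hij]
    rw [hkz]
    show B⁻¹ * g' * (B⁻¹)⁻¹ = g
    rw [hg']
    group

end Cfsg.Agent.Lib.Aschbacher
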