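/-
Twists of groups of symplectic type: realisability over the field of the central scalars, and invariant forms.
-/
import Cfsg.Agent.Lib.Aschbacher.Descent

set_option autoImplicit false

namespace Cfsg.Agent.Lib.Aschbacher

open Cfsg Cfsg.Geo Matrix

variable {ι : Type} [Fintype ι] [DecidableEq ι] {F : Type*} [Field F] [Finite F] [Nonempty ι]

lemma IsSymplecticCore.index_eq {r : ℕ} {R : Subgroup (GL ι F)} (hR : IsSymplecticCore r R) :
    Nat.card (R ⧸ Subgroup.center R) = Fintype.card ι * Fintype.card ι := by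
  obtain ⟨m, -, hn, hcard⟩ := hR.card_cases
  rw [Subgroup.card_eq_card_quotient_mul_card_subgroup (Subgroup.center R), mul_comm] at hcard
  rw [Nat.eq_of_mul_eq_mul_left Nat.card_pos hcard, hn, ← pow_add, two_mul]

/-- A representation of a group of symplectic type fixing the central scalars is conjugate to the given one. -/
theorem IsSymplecticCore.exists_conj {r : ℕ} {R : Subgroup (GL ι F)} (hR : IsSymplecticCore r R)
    (θ : R →* Matrix ι ι F) (hθ : ∀ z : R, z ∈ Subgroup.center R → θ z = ((z : GL ι F) : Matrix ι ι F)) :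
    ∃ C : GL ι F, ∀ x : R, θ x = conjM C ((x : GL ι F) : Matrix ι ι F) := by
  classical
  let pr : R → Matrix ι ι F × Matrix ι ι F := fun x => (((x : GL ι F) : Matrix ι ι F), θ x)
  let A : Subalgebra F (Matrix ι ι F × Matrix ι ι F) := Algebra.adjoin F (Set.range pr)
  have hA : A.toSubmodule = Submodule.span F (Set.range pr) := by
    rw [Algebra.adjoin_eq_span]
    congr 1
    refine le_antisymm ?_ Submonoid.subset_closure
    intro a ha
    induction ha using Submonoid.closure_induction with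
    | mem x hx => exact hx
    | one => exact ⟨1, by simp [pr]⟩
    | mul x y _ _ hx hy =>
      obtain ⟨g, rfl⟩ := hx
      obtain ⟨k, rfl⟩ := hy
      exact ⟨g * k, by simp [pr]⟩
  haveI : Fintype (R ⧸ Subgroup.center R) := Fintype.ofFinite _
  let rep : R ⧸ Subgroup.center R → Matrix ι ι F × Matrix ι ι F := fun q => pr q.out
  have hle : A.toSubmodule ≤ Submodule.span F (Set.range rep) := by
    rw [hA, Submodule.span_le]
    rintro _ ⟨x, rfl⟩
    obtain ⟨z, hz⟩ := QuotientGroup.mk_out_eq_mul (Subgroup.center R) x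
    obtain ⟨c, hc⟩ := (mem_scalars_iff _).mp ((hR.center_iff _).mp ((Subgroup.center R).inv_mem z.2))
    have hx : x = (z : R)⁻¹ * (x : R ⧸ Subgroup.center R).out := by
      rw [hz, ← Subgroup.mem_center_iff.mp ((Subgroup.center R).inv_mem z.2), mul_inv_cancel_right]
    have hpr : pr x = (c : F) • rep (x : R ⧸ Subgroup.center R) := by
      have e1 : ((x : GL ι F) : Matrix ι ι F) =
          (c : F) • ((((x : R ⧸ Subgroup.center R).out : R) : GL ι F) : Matrix ι ι F) := by
        conv_lhs => rw [hx]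
        rw [Subgroup.coe_mul, Units.val_mul, hc, Matrix.smul_mul, one_mul]
      have e2 : θ x = (c : F) • θ (x : R ⧸ Subgroup.center R).out := by
        conv_lhs => rw [hx]
        rw [map_mul, hθ _ ((Subgroup.center R).inv_mem z.2), hc, Matrix.smul_mul, one_mul]
      exact Prod.ext e1 e2
    rw [SetLike.mem_coe, hpr]
    exact Submodule.smul_mem _ _ (Submodule.subset_span ⟨_, rfl⟩)
  let f : A →ₐ[F] Matrix ι ι F := (AlgHom.fst F _ _).comp A.val
  have hfsurj : Function.Surjective f := by
    have hr : f.range = ⊤ := by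
      rw [eq_top_iff, ← hR.span_top]
      apply spanAlg_le
      intro x hx
      exact ⟨⟨pr ⟨x, hx⟩, Algebra.subset_adjoin ⟨_, rfl⟩⟩, rfl⟩
    intro X
    exact (AlgHom.mem_range f).mp (hr.symm ▸ Algebra.mem_top)
  have hfr : Module.finrank F A ≤ Module.finrank F (Matrix ι ι F) := by
    rw [Module.finrank_matrix, Module.finrank_self, mul_one, ← hR.index_eq, Nat.card_eq_fintype_card]
    rw [← Subalgebra.finrank_toSubmodule]
    exact (Submodule.finrank_mono hle).trans (finrank_range_le_card rep)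
  have hfr' : Module.finrank F A = Module.finrank F (Matrix ι ι F) :=
    le_antisymm hfr (LinearMap.finrank_le_finrank_of_surjective (f := f.toLinearMap) hfsurj)
  have hfinj : Function.Injective f :=
    (LinearMap.injective_iff_surjective_of_finrank_eq_finrank hfr' (f := f.toLinearMap)).mpr hfsurj
  let fe : A ≃ₐ[F] Matrix ι ι F := AlgEquiv.ofBijective f ⟨hfinj, hfsurj⟩
  obtain ⟨C, hC⟩ := exists_inner ((((AlgHom.snd F _ _).comp A.val)).comp fe.symm.toAlgHom)
  refine ⟨C, fun x => ?_⟩
  rw [← hC]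
  have hx : fe.symm ((x : GL ι F) : Matrix ι ι F) = ⟨pr x, Algebra.subset_adjoin ⟨x, rfl⟩⟩ := by
    rw [AlgEquiv.symm_apply_eq]
    rfl
  show _ = (AlgHom.snd F _ _) (A.val (fe.symm ((x : GL ι F) : Matrix ι ι F)))
  rw [hx]
  rfl

omit [Finite F] [Nonempty ι] in
lemma IsSymplecticCore.exists_scalar {r : ℕ} {R : Subgroup (GL ι F)} (hR : IsSymplecticCore r R)
    {z : R} (hz : z ∈ Subgroup.center R) :
    ∃ c : Fˣ, ((z : GL ι F) : Matrix ι ι F) = (c : F) • (1 : Matrix ι ι F) :=
  (mem_scalars_iff _).mp ((hR.center_iff z).mp hz)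

/-- A group of symplectic type is realisable over every subfield containing its central scalars. -/
theorem IsSymplecticCore.realisable {r : ℕ} {R : Subgroup (GL ι F)} (hR : IsSymplecticCore r R)
    (F₀ : Subfield F)
    (hF₀ : ∀ z : R, z ∈ Subgroup.center R → ∀ c : F,
      ((z : GL ι F) : Matrix ι ι F) = c • (1 : Matrix ι ι F) → c ∈ F₀) :
    RealisableOver F₀ (matrixSet R) := by
  obtain ⟨σ, hσ⟩ := exists_frobenius F₀
  let θ : R →* Matrix ι ι F := (Units.coeHom _).comp ((twistGL σ).comp R.subtype)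
  obtain ⟨C, hC⟩ := hR.exists_conj θ (fun z hz => by
    obtain ⟨c, hc⟩ := hR.exists_scalar hz
    show twist σ ((z : GL ι F) : Matrix ι ι F) = _
    rw [hc, twist_smul, twist_one, hσ, (mem_subfield_iff F₀ _).mp (hF₀ z hz _ hc)])
  exact realisable_of_twist_conj hR.span_top F₀ hσ (C := C) fun x hx => hC ⟨x, hx⟩

/-- A group of symplectic type whose central scalars are inverted by the involution `σ` fixes a `σ`-form. -/
theorem IsSymplecticCore.exists_form {r : ℕ} {R : Subgroup (GL ι F)} (hR : IsSymplecticCore r R)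
    {σ : F ≃+* F} (hσ2 : ∀ a, σ (σ a) = a)
    (hσ : ∀ z : R, z ∈ Subgroup.center R → ∀ c : F,
      ((z : GL ι F) : Matrix ι ι F) = c • (1 : Matrix ι ι F) → σ c * c = 1) :
    ∃ G : GL ι F, Invariant σ R (G : Matrix ι ι F) := by
  let θ : R →* Matrix ι ι F :=
    { toFun := fun x => twist σ (((x : GL ι F)⁻¹ : GL ι F) : Matrix ι ι F)ᵀ
      map_one' := by simp [twist_one]
      map_mul' := fun x y => by
        rw [Subgroup.coe_mul, _root_.mul_inv_rev, Units.val_mul, Matrix.transpose_mul, twist_mul] }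
  obtain ⟨C, hC⟩ := hR.exists_conj θ (fun z hz => by
    obtain ⟨c, hc⟩ := hR.exists_scalar hz
    obtain ⟨c', hc'⟩ := hR.exists_scalar ((Subgroup.center R).inv_mem hz)
    show twist σ (((z : GL ι F)⁻¹ : GL ι F) : Matrix ι ι F)ᵀ = _
    have hz' : (((z : GL ι F)⁻¹ : GL ι F) : Matrix ι ι F) = (c' : F) • (1 : Matrix ι ι F) := hc'
    have hmul : (c : F) * (c' : F) = 1 := by
      have h1 : ((z : GL ι F) : Matrix ι ι F) * (((z : GL ι F)⁻¹ : GL ι F) : Matrix ι ι F) = 1 :=
        Units.mul_inv _
      rw [hc, hz', Matrix.smul_mul, Matrix.mul_smul, one_mul, smul_smul] at h1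
      have := congrFun (congrFun h1 (Classical.arbitrary ι)) (Classical.arbitrary ι)
      simpa [mul_comm] using this
    rw [hz', hc, Matrix.transpose_smul, Matrix.transpose_one, twist_smul, twist_one]
    congr 1
    have h2 := hσ z hz _ hc
    apply mul_left_cancel₀ (show σ (c : F) ≠ 0 by simp)
    rw [← map_mul, hmul, map_one, h2])
  refine ⟨twistGL σ C, fun x hx => ?_⟩
  have h1 : twist σ ((x⁻¹ : GL ι F) : Matrix ι ι F)ᵀ = conjM C (x : Matrix ι ι F) := hC ⟨x, hx⟩
  have h2 := congrArg (twist σ) h1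
  rw [twist_twist hσ2, conjM_apply, twist_mul, twist_mul] at h2
  rw [coe_twistGL]
  have h3 : ((x⁻¹ : GL ι F) : Matrix ι ι F)ᵀ * twist σ (C : Matrix ι ι F) =
      twist σ (C : Matrix ι ι F) * twist σ (x : Matrix ι ι F) := by
    rw [h2, mul_assoc, ← twist_mul σ ((C⁻¹ : GL ι F) : Matrix ι ι F), Units.inv_mul, twist_one, mul_one]
  rw [mul_assoc, ← h3, ← mul_assoc, ← Matrix.transpose_mul, Units.inv_mul, Matrix.transpose_one, one_mul]

end Cfsg.Agent.Lib.Aschbacher
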