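/-
Aschbacher's theorem for the special linear groups: every subgroup lies in a geometric class or is in the
residual class.
-/
import Cfsg.Agent.Lib.Aschbacher.SymplReal
import Cfsg.Agent.Lib.Classical.AlternatingRank

set_option autoImplicit false

namespace Cfsg.Agent.Lib.Aschbacher

open Cfsg Cfsg.Geo Matrix
open scoped Kronecker

variable {ι : Type} [Fintype ι] [DecidableEq ι] {F : Type*} [Field F]

/-! ### Symmetric, skew and hermitian Gram matrices -/

lemma formM_swap {σ : F ≃+* F} (hσ : ∀ a, σ (σ a) = a) (G : Matrix ι ι F) (u v : ι → F) :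
    σ (formM σ G v u) = formM σ (twist σ Gᵀ) u v := by
  have hv : ∀ A : Matrix ι ι F, ∀ a b : ι → F,
      formM σ A a b = ∑ i, ∑ j, a i * A i j * σ (b j) := by
    intro A a b
    simp [formM, Matrix.mulVec, dotProduct, Finset.mul_sum, mul_assoc]
  rw [hv, hv, map_sum, Finset.sum_comm]
  refine Finset.sum_congr rfl fun i _ => ?_
  rw [map_sum]
  refine Finset.sum_congr rfl fun j _ => ?_
  simp [hσ]
  ring

lemma isUnitaryForm_formM {σ : F ≃+* F} (hne : σ ≠ RingEquiv.refl F) (hσ : ∀ a, σ (σ a) = a)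
    (G : GL ι F) (hG : twist σ (G : Matrix ι ι F)ᵀ = (G : Matrix ι ι F)) :
    IsUnitaryForm σ (formM σ (G : Matrix ι ι F)) where
  ne_refl := hne
  involutive := hσ
  add_left := formM_add_left σ _
  smul_left := formM_smul_left σ _
  herm v w := by rw [formM_swap hσ, hG]
  nondegenerate := nondegenerate_formM σ G

lemma isBilinearForm_formM (G : Matrix ι ι F) : IsBilinearForm (formM (RingEquiv.refl F) G) where
  add_left := formM_add_left _ _
  smul_left := formM_smul_left _ _
  add_right := formM_add_right _ _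
  smul_right := formM_smul_right _ _

lemma formM_transpose (G : Matrix ι ι F) (u v : ι → F) :
    formM (RingEquiv.refl F) Gᵀ u v = formM (RingEquiv.refl F) G v u := by
  have h := formM_swap (σ := RingEquiv.refl F) (fun a => rfl) G u v
  rw [twist_refl] at h
  exact h.symm

lemma isSymplecticForm_formM (G : GL ι F) (hG : (G : Matrix ι ι F)ᵀ = -(G : Matrix ι ι F))
    (halt : ∀ v, formM (RingEquiv.refl F) (G : Matrix ι ι F) v v = 0) :
    IsSymplecticForm (formM (RingEquiv.refl F) (G : Matrix ι ι F)) where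
  bilinear := isBilinearForm_formM _
  skew v w := by
    rw [← formM_transpose, hG, ← neg_one_smul F (G : Matrix ι ι F), formM_smul, neg_one_mul]
  alternating := halt
  nondegenerate := nondegenerate_formM _ G

lemma even_of_isSymplecticForm {f : (ι → F) → (ι → F) → F} (hf : IsSymplecticForm f) :
    Even (Fintype.card ι) := by
  obtain ⟨G, hG, -⟩ := exists_gram_bilinear hf.bilinear hf.nondegenerate
  have h := Cfsg.Agent.Lib.AlternatingRank.even_rank_of_alt (G : Matrix ι ι F) (fun v => by
    have := hf.alternating v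
    rw [hG] at this
    simpa [formM] using this)
  rwa [Matrix.rank_of_isUnit _ G.isUnit] at h

lemma two_ne_zero_of_odd [Fintype F] (h : Odd (Fintype.card F)) : (2 : F) ≠ 0 := by
  have h2 : ringChar F ≠ 2 := by
    intro hc
    have := FiniteField.even_card_iff_char_two.mp hc
    rw [Nat.odd_iff] at h
    omega
  exact Ring.two_ne_zero h2

lemma two_eq_zero_of_not_odd [Fintype F] (h : ¬ Odd (Fintype.card F)) : (2 : F) = 0 := by
  have h2 : ringChar F = 2 := FiniteField.even_card_iff_char_two.mpr (by rw [Nat.odd_iff] at h; omega)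
  haveI : CharP F 2 := ringChar.of_eq h2
  exact CharP.cast_eq_zero F 2

/-- The quadratic form of a symmetric Gram matrix. -/
def quadM (G : Matrix ι ι F) (v : ι → F) : F := formM (RingEquiv.refl F) G v v

lemma polar_quadM {G : Matrix ι ι F} (hG : Gᵀ = G) (u v : ι → F) :
    QuadraticMap.polar (quadM G) u v = 2 * formM (RingEquiv.refl F) G u v := by
  simp only [QuadraticMap.polar, quadM]
  rw [formM_add_left, formM_add_right, formM_add_right, ← formM_transpose G u v, hG]
  ring

lemma isNondegenerateQuadraticForm_quadM [Fintype F] (hodd : Odd (Fintype.card F)) (G : GL ι F)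
    (hG : (G : Matrix ι ι F)ᵀ = (G : Matrix ι ι F)) :
    IsNondegenerateQuadraticForm (quadM (G : Matrix ι ι F)) := by
  have hpol : QuadraticMap.polar (quadM (G : Matrix ι ι F)) =
      formM (RingEquiv.refl F) ((2 : F) • (G : Matrix ι ι F)) := by
    funext u v
    rw [polar_quadM hG, formM_smul]
  refine ⟨fun c v => ?_, ?_, ?_⟩
  · simp only [quadM]
    rw [formM_smul_left, formM_smul_right, RingEquiv.refl_apply]
    ring
  · rw [hpol]; exact isBilinearForm_formM _
  · rw [hpol]
    have h2 := two_ne_zero_of_odd hodd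
    intro v hv
    obtain ⟨⟨x, hx⟩, ⟨y, hy⟩⟩ := nondegenerate_formM (RingEquiv.refl F) G v hv
    exact ⟨⟨x, by rw [formM_smul]; exact mul_ne_zero h2 hx⟩, ⟨y, by rw [formM_smul]; exact mul_ne_zero h2 hy⟩⟩

lemma similarityGroup_le_quad (G : Matrix ι ι F) :
    similarityGroup (formM (RingEquiv.refl F) G) ≤ quadSimilarityGroup (quadM G) := by
  rintro g ⟨c, hc⟩
  exact ⟨c, fun v => hc v v⟩

/-- In characteristic two a symmetric form fixed by an irreducible group is alternating. -/
lemma alternating_of_invariant [Fintype F] (hodd : ¬ Odd (Fintype.card F)) (hn : 2 ≤ Fintype.card ι)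
    {N : Subgroup (GL ι F)} (hirr : ActsIrreducibly (matrixSet N)) {G : Matrix ι ι F} (hG : Gᵀ = G)
    (hinv : Invariant (RingEquiv.refl F) N G) : ∀ v, formM (RingEquiv.refl F) G v v = 0 := by
  have h2 := two_eq_zero_of_not_odd hodd
  let W : Submodule F (ι → F) :=
    { carrier := {v | formM (RingEquiv.refl F) G v v = 0}
      zero_mem' := by
        show formM (RingEquiv.refl F) G 0 0 = 0
        simp [formM]
      add_mem' := fun {a b} ha hb => by
        show formM (RingEquiv.refl F) G (a + b) (a + b) = 0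
        rw [formM_add_left, formM_add_right, formM_add_right, ha, hb,
          ← formM_transpose G a b, hG]
        linear_combination (formM (RingEquiv.refl F) G a b) * h2
      smul_mem' := fun c a ha => by
        show formM (RingEquiv.refl F) G (c • a) (c • a) = 0
        rw [formM_smul_left, formM_smul_right, ha, mul_zero, mul_zero] }
  rcases actsIrreducibly_iff.mp hirr W (fun g hg w hw => by
    show formM (RingEquiv.refl F) G _ _ = 0
    rw [formM_mulVec, hinv g hg]
    exact hw) with hW | hW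
  · exfalso
    obtain ⟨a, b, hab⟩ := Fintype.exists_pair_of_one_lt_card (show 1 < Fintype.card ι by omega)
    set ea : ι → F := Pi.single a 1 with hea
    set eb : ι → F := Pi.single b 1 with heb
    have hA : formM (RingEquiv.refl F) G ea ea ≠ 0 := fun h => by
      have : ea ∈ W := h
      rw [hW, Submodule.mem_bot] at this
      simpa [hea] using congrFun this a
    obtain ⟨s, hs⟩ := FiniteField.isSquare_of_char_two (F := F)
      (FiniteField.even_card_iff_char_two.mpr (by rw [Nat.odd_iff] at hodd; omega))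
      (formM (RingEquiv.refl F) G eb eb / formM (RingEquiv.refl F) G ea ea)
    have hv : s • ea + eb ∈ W := by
      show formM (RingEquiv.refl F) G _ _ = 0
      simp only [formM_add_left, formM_add_right, formM_smul_left, formM_smul_right, RingEquiv.refl_apply]
      have hsym : formM (RingEquiv.refl F) G eb ea = formM (RingEquiv.refl F) G ea eb := by
        rw [← formM_transpose G ea eb, hG]
      rw [hsym]
      rw [div_eq_iff hA] at hs
      linear_combination (formM (RingEquiv.refl F) G eb eb + s * formM (RingEquiv.refl F) G ea eb) * h2 - hs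
    rw [hW, Submodule.mem_bot] at hv
    have := congrFun hv b
    simp [hea, heb, Ne.symm hab] at this
  · intro v
    have : v ∈ W := by rw [hW]; trivial
    exact this

/-- Symmetric or skew-symmetric up to sign: an invariant form of a spanning group. -/
lemma symm_or_skew [Nonempty ι] {N : Subgroup (GL ι F)} (hN : spanAlg N = ⊤) {G : GL ι F}
    (hG : Invariant (RingEquiv.refl F) N (G : Matrix ι ι F)) :
    (G : Matrix ι ι F)ᵀ = (G : Matrix ι ι F) ∨ (G : Matrix ι ι F)ᵀ = -(G : Matrix ι ι F) := by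
  obtain ⟨c, hc⟩ := invariant_unique hN hG (hG.twistTranspose (fun a => rfl))
  rw [twist_refl] at hc
  have h := congrArg Matrix.transpose hc
  rw [Matrix.transpose_transpose, Matrix.transpose_smul, hc, smul_smul] at h
  have hcc : c * c = 1 := by
    have h0 : (c * c - 1) • (G : Matrix ι ι F) = 0 := by rw [sub_smul, one_smul, ← h, sub_self]
    exact sub_eq_zero.mp ((smul_eq_zero.mp h0).resolve_right G.isUnit.ne_zero)
  rcases mul_self_eq_one_iff.mp hcc with h1 | h1
  · left; rw [hc, h1, one_smul]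
  · right; rw [hc, h1, neg_one_smul]

/-! ### Forms of tensor powers of two-dimensional spaces -/

/-- The standard alternating matrix in dimension two. -/
def altTwo (F : Type*) [Field F] : Matrix (Fin 2) (Fin 2) F := !![0, 1; -1, 0]

lemma altTwo_congr (a : Matrix (Fin 2) (Fin 2) F) : aᵀ * altTwo F * a = a.det • altTwo F := by
  ext i j
  fin_cases i <;> fin_cases j <;>
    simp [altTwo, Matrix.mul_apply, Fin.sum_univ_two, Matrix.det_fin_two] <;> ring

lemma pureTensor_transpose {d t : ℕ} (as : Fin t → Matrix (Fin d) (Fin d) F) :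
    (pureTensor as)ᵀ = pureTensor (fun i => (as i)ᵀ) := by
  ext x y
  simp [pureTensor]

lemma pureTensor_smul_family {d t : ℕ} (c : Fin t → F) (as : Fin t → Matrix (Fin d) (Fin d) F) :
    pureTensor (fun i => c i • as i) = (∏ i, c i) • pureTensor as := by
  ext x y
  simp [pureTensor, Finset.prod_mul_distrib]

/-- The tensor wreath stabiliser in dimension `2^t` consists of similarities of a tensor power form. -/
theorem exists_form_tensorWreath {t : ℕ} (e : ι ≃ (Fin t → Fin 2)) (B : GL ι F) [Nonempty ι] (ht : 0 < t) :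
    ∃ G : GL ι F, (G : Matrix ι ι F)ᵀ = ((-1 : F) ^ t) • (G : Matrix ι ι F) ∧
      (∀ v, (-1 : F) ^ t = 1 → (2 : F) = 0 → formM (RingEquiv.refl F) (G : Matrix ι ι F) v v = 0) ∧
      tensorWreathSubgroup 2 t e B ≤ similarityGroup (formM (RingEquiv.refl F) (G : Matrix ι ι F)) := by
  classical
  set Bi : Matrix ι ι F := ((B⁻¹ : GL ι F) : Matrix ι ι F) with hBi
  set J : Matrix (Fin t → Fin 2) (Fin t → Fin 2) F := pureTensor (fun _ => altTwo F) with hJ
  have hJJ : J * J = ((-1 : F) ^ t) • 1 := by
    have h2 : altTwo F * altTwo F = (-1 : F) • (1 : Matrix (Fin 2) (Fin 2) F) := by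
      ext i j; fin_cases i <;> fin_cases j <;> simp [altTwo]
    rw [hJ, pureTensor_mul]
    have : ((fun _ : Fin t => altTwo F) * fun _ => altTwo F) =
        fun _ => (-1 : F) • (1 : Matrix (Fin 2) (Fin 2) F) := funext fun _ => h2
    rw [this, pureTensor_smul_family, Finset.prod_const, Finset.card_univ, Fintype.card_fin]
    congr 1
    exact pureTensor_one
  have hJu : IsUnit J := by
    refine IsUnit.of_mul_eq_one (((-1 : F) ^ t) • J) ?_
    rw [Matrix.mul_smul, hJJ, smul_smul, ← mul_pow]
    simp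
  have hJT : Jᵀ = ((-1 : F) ^ t) • J := by
    rw [hJ, pureTensor_transpose]
    have : (fun _ : Fin t => (altTwo F)ᵀ) = fun _ => (-1 : F) • altTwo F := by
      funext _
      ext i j; fin_cases i <;> fin_cases j <;> simp [altTwo]
    rw [this, pureTensor_smul_family, Finset.prod_const, Finset.card_univ, Fintype.card_fin]
  set Gm : Matrix ι ι F := Biᵀ * J.submatrix e e * Bi with hGm
  have hGu : IsUnit Gm := by
    refine (IsUnit.mul ?_ ?_).mul (B⁻¹).isUnit
    · rw [Matrix.isUnit_iff_isUnit_det, Matrix.det_transpose, ← Matrix.isUnit_iff_isUnit_det]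
      exact (B⁻¹).isUnit
    · exact hJu.map (Matrix.reindexAlgEquiv F F e.symm)
  obtain ⟨G, hG⟩ := hGu
  have hGsymm : (G : Matrix ι ι F)ᵀ = ((-1 : F) ^ t) • (G : Matrix ι ι F) := by
    rw [hG, hGm, Matrix.transpose_mul, Matrix.transpose_mul, Matrix.transpose_transpose,
      Matrix.transpose_submatrix, hJT, Matrix.submatrix_smul, Pi.smul_apply, Pi.smul_apply,
      Matrix.smul_mul, Matrix.mul_smul, mul_assoc]
  refine ⟨G, hGsymm, ?_, ?_⟩
  · intro v hsign h2
    have hdiag : ∀ x, J x x = 0 := by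
      intro x
      have i0 : Fin t := ⟨0, ht⟩
      refine Finset.prod_eq_zero (Finset.mem_univ i0) ?_
      have : ∀ a : Fin 2, altTwo F a a = 0 := by intro a; fin_cases a <;> simp [altTwo]
      exact this _
    have hmv : formM (RingEquiv.refl F) (Biᵀ * J.submatrix e e * Bi) v v =
        formM (RingEquiv.refl F) (J.submatrix e e) (Bi *ᵥ v) (Bi *ᵥ v) := by
      rw [formM_mulVec, twist_refl]
    rw [hG, hGm, hmv]
    generalize Bi *ᵥ v = w
    have hs : ∀ i j, J (e i) (e j) = J (e j) (e i) := fun i j => by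
      have := congrFun (congrFun hJT (e j)) (e i)
      rw [hsign, one_smul] at this
      exact this
    have hexp : formM (RingEquiv.refl F) (J.submatrix e e) w w = ∑ i, ∑ j, w i * J (e i) (e j) * w j := by
      simp [formM, Matrix.mulVec, dotProduct, Finset.mul_sum, mul_assoc]
    rw [hexp, ← Fintype.sum_prod_type']
    refine Finset.sum_involution (fun p _ => (p.2, p.1)) ?_ ?_ (fun _ _ => Finset.mem_univ _) (fun _ _ => rfl)
    · intro p _
      rw [hs p.2 p.1]
      linear_combination (w p.1 * J (e p.1) (e p.2) * w p.2) * h2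
    · intro p _ hp heq
      apply hp
      have hpq : p.1 = p.2 := (congrArg Prod.fst heq).symm
      rw [hpq, hdiag, mul_zero, zero_mul]
  · rintro g ⟨k', ⟨k, hk, rfl⟩, rfl⟩
    suffices h : ∃ c : F, (k : Matrix (Fin t → Fin 2) (Fin t → Fin 2) F)ᵀ * J * k = c • J by
      obtain ⟨c, hc⟩ := h
      refine mem_similarityGroup (c := c) ?_
      rw [hG, twist_refl]
      have hg : (((MulAut.conj B).toMonoidHom ((glReindex e.symm).toMonoidHom k) : GL ι F) : Matrix ι ι F) =
          (B : Matrix ι ι F) * (k : Matrix _ _ F).submatrix e e * Bi := by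
        simp [glReindex, Matrix.reindex_apply, hBi]
      rw [hg, hGm, Matrix.transpose_mul, Matrix.transpose_mul, Matrix.transpose_submatrix]
      have hBB : (B : Matrix ι ι F)ᵀ * Biᵀ = 1 := by
        rw [← Matrix.transpose_mul, hBi, Units.inv_mul, Matrix.transpose_one]
      have hBB' : Bi * (B : Matrix ι ι F) = 1 := Units.inv_mul B
      have e1 : (Biᵀ * ((k : Matrix _ _ F)ᵀ.submatrix e e * (B : Matrix ι ι F)ᵀ)) *
          (Biᵀ * J.submatrix e e * Bi) * ((B : Matrix ι ι F) * (k : Matrix _ _ F).submatrix e e * Bi) =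
          Biᵀ * ((k : Matrix _ _ F)ᵀ.submatrix e e * J.submatrix e e * (k : Matrix _ _ F).submatrix e e) * Bi := by
        simp only [mul_assoc]
        rw [← mul_assoc (B : Matrix ι ι F)ᵀ Biᵀ, hBB, one_mul, ← mul_assoc Bi (B : Matrix ι ι F), hBB', one_mul]
      rw [e1, Matrix.submatrix_mul_equiv, Matrix.submatrix_mul_equiv, hc, Matrix.submatrix_smul,
        Pi.smul_apply, Pi.smul_apply, Matrix.mul_smul, Matrix.smul_mul]
    induction hk using Subgroup.closure_induction with
    | mem x hx =>
      rcases hx with ⟨gs, hgs⟩ | ⟨π, hπ⟩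
      · refine ⟨∏ i, (gs i : Matrix (Fin 2) (Fin 2) F).det, ?_⟩
        have hx' : (x : Matrix (Fin t → Fin 2) (Fin t → Fin 2) F) =
            pureTensor (fun i => (gs i : Matrix (Fin 2) (Fin 2) F)) := Matrix.ext hgs
        rw [hx', hJ, pureTensor_transpose, pureTensor_mul, pureTensor_mul, ← pureTensor_smul_family]
        exact congrArg pureTensor (funext fun i => altTwo_congr _)
      · refine ⟨1, ?_⟩
        have hx' : (x : Matrix (Fin t → Fin 2) (Fin t → Fin 2) F) =
            (permGL (factorPerm π) : GL (Fin t → Fin 2) F) := by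
          ext a b
          rw [hπ]
          simp [permGL, factorPerm, Matrix.one_apply, eq_comm]
        have hxt : (x : Matrix (Fin t → Fin 2) (Fin t → Fin 2) F)ᵀ =
            (permGL (factorPerm π).symm : GL (Fin t → Fin 2) F) := by
          rw [hx']
          ext a b
          simp [permGL, Matrix.one_apply, Equiv.eq_symm_apply, Equiv.symm_apply_eq, eq_comm]
        have hinv : (permGL (factorPerm π).symm : GL (Fin t → Fin 2) F)⁻¹ = permGL (factorPerm π) := by
          apply Units.ext
          show (1 : Matrix _ _ F).submatrix (factorPerm π).symm.symm id = _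
          rw [Equiv.symm_symm]
          rfl
        rw [one_smul, hxt, hx', ← hinv, ← conjM_apply, conjM_permGL]
        ext a b
        show J _ _ = J a b
        simp only [hJ, pureTensor, Matrix.of_apply, factorPerm, Equiv.coe_fn_symm_mk, Function.comp_apply]
        exact Equiv.prod_comp π.symm (fun i => altTwo F (a i) (b i))
    | one => exact ⟨1, by simp⟩
    | mul x y _ _ hx hy =>
      obtain ⟨c, hc⟩ := hx
      obtain ⟨c', hc'⟩ := hy
      refine ⟨c * c', ?_⟩
      calc ((x * y : GL (Fin t → Fin 2) F) : Matrix (Fin t → Fin 2) (Fin t → Fin 2) F)ᵀ * J * ((x * y : GL (Fin t → Fin 2) F) : Matrix (Fin t → Fin 2) (Fin t → Fin 2) F)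
          = (y : Matrix (Fin t → Fin 2) (Fin t → Fin 2) F)ᵀ * ((x : Matrix (Fin t → Fin 2) (Fin t → Fin 2) F)ᵀ * J * x) * y := by
            rw [Units.val_mul, Matrix.transpose_mul]; simp only [mul_assoc]
        _ = (c * c') • J := by rw [hc, Matrix.mul_smul, Matrix.smul_mul, hc', smul_smul]
    | inv x _ hx =>
      obtain ⟨c, hc⟩ := hx
      have hc0 : c ≠ 0 := by
        rintro rfl
        rw [zero_smul] at hc
        have : IsUnit ((x : Matrix (Fin t → Fin 2) (Fin t → Fin 2) F)ᵀ * J * x) := by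
          refine (IsUnit.mul ?_ hJu).mul x.isUnit
          rw [Matrix.isUnit_iff_isUnit_det, Matrix.det_transpose, ← Matrix.isUnit_iff_isUnit_det]
          exact x.isUnit
        rw [hc] at this
        exact this.ne_zero rfl
      refine ⟨c⁻¹, ?_⟩
      have h1 := congrArg (fun M => ((x⁻¹ : GL (Fin t → Fin 2) F) : Matrix (Fin t → Fin 2) (Fin t → Fin 2) F)ᵀ * M *
        ((x⁻¹ : GL (Fin t → Fin 2) F) : Matrix (Fin t → Fin 2) (Fin t → Fin 2) F)) hc
      have hxx : ((x⁻¹ : GL (Fin t → Fin 2) F) : Matrix (Fin t → Fin 2) (Fin t → Fin 2) F)ᵀ * (x : Matrix (Fin t → Fin 2) (Fin t → Fin 2) F)ᵀ = 1 := by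
        rw [← Matrix.transpose_mul, Units.mul_inv, Matrix.transpose_one]
      simp only [Matrix.mul_smul, Matrix.smul_mul, mul_assoc, Units.mul_inv, mul_one] at h1
      rw [← mul_assoc ((x⁻¹ : GL (Fin t → Fin 2) F) : Matrix (Fin t → Fin 2) (Fin t → Fin 2) F)ᵀ, hxx, one_mul] at h1
      rw [eq_inv_smul_iff₀ hc0, mul_assoc]
      exact h1.symm

/-! ### Comparison of tensor stabilisers -/

lemma tensorProduct_le_swap {d m : ℕ} (e : ι ≃ Fin d × Fin m) (B : GL ι F) :
    tensorProductSubgroup d m e B ≤ tensorProductSubgroup m d (e.trans (Equiv.prodComm _ _)) B := by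
  rintro g ⟨k', ⟨k, ⟨a, b, hab⟩, rfl⟩, rfl⟩
  refine mem_map_glReindex_conj (k := glReindex (Equiv.prodComm _ _) k) ⟨b, a, ?_⟩ ?_
  · ext ⟨i, j⟩ ⟨i', j'⟩
    simp [glReindex, Matrix.reindex_apply, hab, mul_comm]
  · rw [framed_apply]
    simp [glReindex, Matrix.reindex_apply, Function.comp_def]

lemma tensorProduct_le_wreath {d : ℕ} (e : ι ≃ Fin d × Fin d) (B : GL ι F) :
    tensorProductSubgroup d d e B ≤ tensorWreathSubgroup d 2 (e.trans (finTwoArrowEquiv (Fin d)).symm) B := by
  rintro g ⟨k', ⟨k, ⟨a, b, hab⟩, rfl⟩, rfl⟩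
  refine mem_map_glReindex_conj (k := glReindex (finTwoArrowEquiv (Fin d)).symm k) ?_ ?_
  · refine Subgroup.subset_closure (Or.inl ⟨![a, b], fun x y => ?_⟩)
    simp [glReindex, Matrix.reindex_apply, hab, Fin.prod_univ_two]
  · rw [framed_apply]
    simp [glReindex, Matrix.reindex_apply, Matrix.submatrix_submatrix, Function.comp_def]

/-! ### The linear case -/

variable [Fintype F] {n : ℕ}

/-- A group normalising a spanning group with an invariant bilinear form is in class eight. -/
theorem linear_class_of_form (hn : 3 ≤ n) {H N : Subgroup (GL (Fin n) F)} (hN : spanAlg N = ⊤)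
    (hnorm : Normalises H N) {G : GL (Fin n) F}
    (hG : Invariant (RingEquiv.refl F) N (G : Matrix (Fin n) (Fin n) F)) :
    ∃ M : Subgroup (GL (Fin n) F), InLinearClass n F M ∧ H ≤ M := by
  haveI : Nonempty (Fin n) := ⟨⟨0, by omega⟩⟩
  have hsim := le_similarityGroup hN hnorm hG
  have hsympl : IsSymplecticForm (formM (RingEquiv.refl F) (G : Matrix (Fin n) (Fin n) F)) →
      ∃ M : Subgroup (GL (Fin n) F), InLinearClass n F M ∧ H ≤ M := fun hf => by
    refine ⟨_, ?_, hsim⟩
    have hev := even_of_isSymplecticForm hf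
    rw [Fintype.card_fin] at hev
    obtain ⟨k, hk⟩ := hev
    exact Or.inr (Or.inr (Or.inr (Or.inr (Or.inr (Or.inr (Or.inr (Or.inr (Or.inr (Or.inl
      ⟨_, hf, ⟨k, hk⟩, by omega, rfl⟩)))))))))
  by_cases hodd : Odd (Fintype.card F)
  · rcases symm_or_skew hN hG with h | h
    · refine ⟨_, ?_, hsim.trans (similarityGroup_le_quad _)⟩
      exact Or.inr (Or.inr (Or.inr (Or.inr (Or.inr (Or.inr (Or.inr (Or.inr (Or.inr (Or.inr (Or.inr
        ⟨_, isNondegenerateQuadraticForm_quadM hodd G h, hodd, hn, rfl⟩))))))))))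
    · refine hsympl (isSymplecticForm_formM G h fun v => ?_)
      have h1 := formM_transpose (G : Matrix (Fin n) (Fin n) F) v v
      rw [h, ← neg_one_smul F (G : Matrix (Fin n) (Fin n) F), formM_smul] at h1
      apply mul_left_cancel₀ (two_ne_zero_of_odd hodd)
      linear_combination -h1
  · have h2 := two_eq_zero_of_not_odd hodd
    have hneg : -(G : Matrix (Fin n) (Fin n) F) = (G : Matrix (Fin n) (Fin n) F) := by
      ext i j
      rw [Matrix.neg_apply]
      linear_combination -(G : Matrix (Fin n) (Fin n) F) i j * h2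
    have hsym : (G : Matrix (Fin n) (Fin n) F)ᵀ = (G : Matrix (Fin n) (Fin n) F) := by
      rcases symm_or_skew hN hG with h | h
      · exact h
      · rw [h, hneg]
    exact hsympl (isSymplecticForm_formM G (by rw [hsym, hneg])
      (alternating_of_invariant hodd (by rw [Fintype.card_fin]; omega) (absIrred_of_span_top hN).1 hsym hG))

/-- A group normalising a spanning group with an invariant sesquilinear form is in class eight. -/
theorem linear_class_of_sesquilinear (hn : 3 ≤ n) {H N : Subgroup (GL (Fin n) F)} (hN : spanAlg N = ⊤)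
    (hnorm : Normalises H N) {σ : F ≃+* F} (hne : σ ≠ RingEquiv.refl F) (hσ : ∀ a, σ (σ a) = a)
    {G : GL (Fin n) F} (hG : Invariant σ N (G : Matrix (Fin n) (Fin n) F)) :
    ∃ M : Subgroup (GL (Fin n) F), InLinearClass n F M ∧ H ≤ M := by
  haveI : Nonempty (Fin n) := ⟨⟨0, by omega⟩⟩
  obtain ⟨c, hc⟩ := invariant_unique hN hG (hG.twistTranspose hσ)
  have hcc : c * σ c = 1 := by
    have h := congrArg (fun M => twist σ Mᵀ) hc
    simp only [Matrix.transpose_smul, twist_smul] at h
    have e1 : twist σ (twist σ (G : Matrix (Fin n) (Fin n) F)ᵀ)ᵀ = (G : Matrix (Fin n) (Fin n) F) := by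
      ext i j; simp [hσ]
    rw [e1, hc, smul_smul] at h
    have h0 : (σ c * c - 1) • (G : Matrix (Fin n) (Fin n) F) = 0 := by rw [sub_smul, one_smul, ← h, sub_self]
    rw [mul_comm]
    exact sub_eq_zero.mp ((smul_eq_zero.mp h0).resolve_right G.isUnit.ne_zero)
  obtain ⟨μ, hμ0, hμ⟩ := exists_twist hne hcc hσ
  set G' : GL (Fin n) F := Units.mk0 μ hμ0 • G with hG'
  have hval : (G' : Matrix (Fin n) (Fin n) F) = μ • (G : Matrix (Fin n) (Fin n) F) := rfl
  have hinv : Invariant σ N (G' : Matrix (Fin n) (Fin n) F) := hval ▸ hG.smul μ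
  refine ⟨_, ?_, le_similarityGroup hN hnorm hinv⟩
  refine Or.inr (Or.inr (Or.inr (Or.inr (Or.inr (Or.inr (Or.inr (Or.inr (Or.inr (Or.inr (Or.inl
    ⟨σ, _, isUnitaryForm_formM hne hσ G' ?_, hn, rfl⟩))))))))))
  rw [hval, Matrix.transpose_smul, twist_smul, hc, smul_smul, mul_comm, hμ]

/-- A group normalising a spanning group realised over a proper subfield is in class five. -/
theorem linear_class_of_realisable {H N : Subgroup (GL (Fin n) F)} [Nonempty (Fin n)]
    (hN : spanAlg N = ⊤) (hnorm : Normalises H N) {F₀ : Subfield F} (hne : F₀ ≠ ⊤)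
    (hreal : RealisableOver F₀ (matrixSet N)) :
    ∃ M : Subgroup (GL (Fin n) F), InLinearClass n F M ∧ H ≤ M := by
  obtain ⟨F₁, r, hle, hr, hcard, -⟩ := exists_prime_index hne
  obtain ⟨B, hB⟩ := hreal
  obtain ⟨P, hP, -⟩ := le_subfieldSubgroup hN hnorm (F₁ := F₁) ⟨B, fun s hs i j => hle (hB s hs i j)⟩
  rw [Nat.card_eq_fintype_card (α := F)] at hcard
  exact ⟨_, Or.inr (Or.inr (Or.inr (Or.inr (Or.inr (Or.inr (Or.inl ⟨F₁, r, P, hr, hcard, rfl⟩)))))), hP⟩

/-- The symplectic type case of the linear theorem. -/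
theorem linear_class_of_symplecticCore (hn : 3 ≤ n) {H R : Subgroup (GL (Fin n) F)} {r : ℕ}
    (hnorm : Normalises H R) (hR : IsSymplecticCore r R) :
    ∃ M : Subgroup (GL (Fin n) F), InLinearClass n F M ∧ H ≤ M := by
  classical
  haveI : Nonempty (Fin n) := ⟨⟨0, by omega⟩⟩
  obtain ⟨p, hchar⟩ := CharP.exists F
  haveI hp : Fact p.Prime := ⟨CharP.char_is_prime F p⟩
  obtain ⟨a, -, hcard⟩ := FiniteField.card F p
  set z := Nat.card (Subgroup.center R) with hz
  have hroot : ∀ x : R, x ∈ Subgroup.center R → ∀ c : F,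
      ((x : GL (Fin n) F) : Matrix (Fin n) (Fin n) F) = c • (1 : Matrix (Fin n) (Fin n) F) → c ^ z = 1 := by
    intro x hx c hc
    have h1 : (⟨x, hx⟩ : Subgroup.center R) ^ z = 1 := pow_card_eq_one'
    have h2 : ((x : GL (Fin n) F) : Matrix (Fin n) (Fin n) F) ^ z = 1 := by
      have := congrArg (fun y : Subgroup.center R => (((y : R) : GL (Fin n) F) : Matrix (Fin n) (Fin n) F)) h1
      simpa using this
    rw [hc, smul_pow, one_pow] at h2
    simpa using congrFun (congrFun h2 ⟨0, by omega⟩) ⟨0, by omega⟩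
  have hzdvd : z ∣ p ^ (a : ℕ) - 1 := by
    let f : Subgroup.center R →* scalars (Fin n) F :=
      { toFun := fun x => ⟨((x : R) : GL (Fin n) F), (hR.center_iff _).mp x.2⟩
        map_one' := rfl
        map_mul' := fun _ _ => rfl }
    have hf : Function.Injective f := fun x y h =>
      Subtype.ext (Subtype.ext (congrArg (fun u : scalars (Fin n) F => (u : GL (Fin n) F)) h))
    have h1 : z ∣ Nat.card (scalars (Fin n) F) := Subgroup.card_dvd_of_injective f hf
    refine h1.trans ?_
    have h2 : Nat.card (scalars (Fin n) F) ∣ Nat.card Fˣ :=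
      Subgroup.card_range_dvd _
    rw [Nat.card_units, Nat.card_eq_fintype_card (α := F), hcard] at h2
    exact h2
  obtain ⟨m, hm1, hnm, hRcard⟩ := hR.card_cases
  rw [Fintype.card_fin] at hnm
  by_cases hmin : ∃ d, 0 < d ∧ d < (a : ℕ) ∧ z ∣ p ^ d - 1
  · obtain ⟨d, hd0, hda, hzd⟩ := hmin
    refine linear_class_of_realisable hR.span_top hnorm (F₀ := frobFixed F p d) ?_ (hR.realisable _ ?_)
    · exact frobFixed_ne_top hd0 (by
        rw [Nat.card_eq_fintype_card, hcard]
        exact Nat.pow_lt_pow_right hp.out.one_lt hda)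
    · intro x hx c hc
      rw [mem_frobFixed]
      obtain ⟨k, hk⟩ := hzd
      have : p ^ d = z * k + 1 := by
        have := Nat.one_le_pow d p hp.out.pos
        omega
      rw [this, pow_succ, pow_mul, hroot x hx c hc, one_pow, one_mul]
  push Not at hmin
  have hfield : IsMinimalFieldFor z p a F := ⟨hp.out, hchar, hcard, hzdvd, fun d h1 h2 => hmin d h1 h2⟩
  have hrp : r ≠ p := fun h => hR.ne_char (by rw [h]; exact CharP.cast_eq_zero F p)
  have hclass6 : (Odd r ∧ Odd (a : ℕ) ∧ z = r) ∨ (r = 2 ∧ (a : ℕ) = 1 ∧ z = 4) →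
      ∃ M : Subgroup (GL (Fin n) F), InLinearClass n F M ∧ H ≤ M := by
    intro h
    refine ⟨subgroupNormalizer R, Or.inr (Or.inr (Or.inr (Or.inr (Or.inr (Or.inr (Or.inr (Or.inl
      ⟨r, R, ⟨hR.type, hR.absIrred, p, a, hrp, hfield, ?_⟩, rfl⟩))))))), ?_⟩
    · rcases h with ⟨h1, h2, h3⟩ | ⟨h1, h2, h3⟩
      · exact Or.inl ⟨h1, h2, h3, m, hm1, by rw [hRcard, ← hz, h3, pow_add, pow_one]⟩
      · refine Or.inr (Or.inl ⟨h1, h2, h3, ?_, m, by rw [hRcard, ← hz, h3, h1, pow_add]; norm_num⟩)
        rw [Fintype.card_fin]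
        subst h1
        rcases m with - | - | m
        · omega
        · rw [hnm] at hn; norm_num at hn
        · rw [hnm]; calc 4 = 2 ^ 2 := by norm_num
            _ ≤ _ := Nat.pow_le_pow_right (by norm_num) (by omega)
    · intro g hg
      rw [subgroupNormalizer, Subgroup.mem_normalizer_iff]
      intro x
      refine ⟨fun hx => hnorm g hg x hx, fun hx => ?_⟩
      simpa [mul_assoc] using hnorm g⁻¹ (H.inv_mem hg) _ hx
  have hfix : ∀ (σ : F ≃+* F) (s : ℕ), (∀ x, σ x = x ^ s) → z ∣ s + 1 →
      ∀ x : R, x ∈ Subgroup.center R → ∀ c : F,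
        ((x : GL (Fin n) F) : Matrix (Fin n) (Fin n) F) = c • (1 : Matrix (Fin n) (Fin n) F) → σ c * c = 1 := by
    intro σ s hσ hzs x hx c hc
    obtain ⟨k, hk⟩ := hzs
    rw [hσ, ← pow_succ, hk, pow_mul, hroot x hx c hc, one_pow]
  have hunitary : ∀ b, (a : ℕ) = b + b → z ∣ p ^ b + 1 →
      ∃ M : Subgroup (GL (Fin n) F), InLinearClass n F M ∧ H ≤ M := by
    intro b hb hzb
    have hb0 : 0 < b := by have := a.pos; omega
    obtain ⟨σ, hσ⟩ : ∃ σ : F ≃+* F, ∀ x, σ x = x ^ (p ^ b) := by
      refine ⟨RingEquiv.ofBijective (iterateFrobenius F p b)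
        ⟨(iterateFrobenius F p b).injective,
          Finite.surjective_of_injective (iterateFrobenius F p b).injective⟩, fun x => ?_⟩
      exact iterateFrobenius_def ..
    have hσ2 : ∀ x, σ (σ x) = x := fun x => by
      rw [hσ, hσ, ← pow_mul, ← pow_add, ← hb, ← hcard]
      exact FiniteField.pow_card x
    have hne : σ ≠ RingEquiv.refl F := by
      intro h
      refine frobFixed_ne_top (L := F) (p := p) hb0 ?_ ?_
      · rw [Nat.card_eq_fintype_card, hcard]
        exact Nat.pow_lt_pow_right hp.out.one_lt (by omega)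
      · rw [eq_top_iff]
        intro x _
        rw [mem_frobFixed, ← hσ, h, RingEquiv.refl_apply]
    obtain ⟨G, hG⟩ := hR.exists_form hσ2 (hfix σ _ hσ hzb)
    exact linear_class_of_sesquilinear hn hR.span_top hnorm hne hσ2 hG
  have hne_dvd : ∀ d, 0 < d → d < (a : ℕ) → ¬ z ∣ p ^ d - 1 := fun d h1 h2 => hmin d h1 h2
  rcases hR.center_cases with ⟨hrodd, hzr⟩ | ⟨hr2, hz2 | hz4⟩
  · rcases Nat.even_or_odd (a : ℕ) with ⟨b, hb⟩ | hodd
    · refine hunitary b hb ?_
      have hb0 : 0 < b := by have := a.pos; omega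
      have hdvd : z ∣ (p ^ b + 1) * (p ^ b - 1) := by
        rw [← Nat.sq_sub_sq, ← pow_mul, mul_two, ← hb, one_pow]
        exact hzdvd
      rw [← hz] at hzr
      rw [hzr] at hdvd ⊢
      exact ((hR.type.prime.dvd_mul).mp hdvd).resolve_right
        (fun h => hne_dvd b hb0 (by omega) (hzr ▸ h))
    · exact hclass6 (Or.inl ⟨hrodd, hodd, hzr⟩)
  · -- orthogonal or symplectic
    have hp2 : Odd p := hp.out.odd_of_ne_two (fun h => hrp (hr2.trans h.symm))
    obtain ⟨G, hG⟩ := hR.exists_form (σ := RingEquiv.refl F) (fun _ => rfl)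
      (fun x hx c hc => by
        rw [← hz] at hz2
        have := hroot x hx c hc
        rw [hz2] at this
        rw [RingEquiv.refl_apply, ← sq, this])
    exact linear_class_of_form hn hR.span_top hnorm hG
  · rw [← hz] at hz4
    have hp2 : Odd p := hp.out.odd_of_ne_two (fun h => hrp (hr2.trans h.symm))
    obtain ⟨j, hj⟩ := hp2
    have h4 : z ∣ p ^ 2 - 1 := by
      rw [hz4, hj]
      refine ⟨j * j + j, ?_⟩
      have : (2 * j + 1) ^ 2 = 4 * (j * j + j) + 1 := by ring
      omega
    have ha2 : (a : ℕ) ≤ 2 := by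
      by_contra h
      exact hne_dvd 2 (by norm_num) (by omega) h4
    have := a.pos
    rcases (show (a : ℕ) = 1 ∨ (a : ℕ) = 2 by omega) with h | h
    · exact hclass6 (Or.inr ⟨hr2, h, hz4⟩)
    · refine hunitary 1 (by omega) ?_
      have h1 := hne_dvd 1 one_pos (by omega)
      rw [hz4, pow_one] at h1 ⊢
      omega

/-- Aschbacher's theorem for linear groups. -/
theorem linear_class_or_residual (hn : 3 ≤ n) (H : Subgroup (GL (Fin n) F)) :
    (∃ M : Subgroup (GL (Fin n) F), InLinearClass n F M ∧ H ≤ M) ∨ InLinearResidualClass H := by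
  classical
  haveI : Nonempty (Fin n) := ⟨⟨0, by omega⟩⟩
  by_cases hirr : ActsIrreducibly (matrixSet H)
  swap
  · obtain ⟨W, h0, h1, hle, -⟩ := exists_invariant_of_not_irreducible hirr
    exact Or.inl ⟨_, Or.inl ⟨W, h0, h1, rfl⟩, hle⟩
  have hwreath : ∀ (d t : ℕ) (e : Fin n ≃ (Fin t → Fin d)) (B : GL (Fin n) F), 2 ≤ d → 2 ≤ t →
      H ≤ tensorWreathSubgroup d t e B → ∃ M : Subgroup (GL (Fin n) F), InLinearClass n F M ∧ H ≤ M := by
    intro d t e B hd ht hle
    rcases Nat.lt_or_ge d 3 with hd3 | hd3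
    · have hd2 : d = 2 := by omega
      subst hd2
      obtain ⟨G, hsym, halt, hsim⟩ := exists_form_tensorWreath e B (by omega)
      have hcard : n = 2 ^ t := by simpa using Fintype.card_congr e
      have hev : Even n := by
        rw [hcard]
        exact (even_two.pow_of_ne_zero (by omega))
      have hn4 : 4 ≤ n := by
        obtain ⟨k, hk⟩ := hev
        omega
      have hsympl : IsSymplecticForm (formM (RingEquiv.refl F) (G : Matrix (Fin n) (Fin n) F)) →
          ∃ M : Subgroup (GL (Fin n) F), InLinearClass n F M ∧ H ≤ M := fun hf =>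
        ⟨_, Or.inr (Or.inr (Or.inr (Or.inr (Or.inr (Or.inr (Or.inr (Or.inr (Or.inr (Or.inl
          ⟨_, hf, hev, hn4, rfl⟩))))))))), hle.trans hsim⟩
      by_cases hodd : Odd (Fintype.card F)
      · rcases neg_one_pow_eq_or F t with hsign | hsign
        · rw [hsign, one_smul] at hsym
          exact ⟨_, Or.inr (Or.inr (Or.inr (Or.inr (Or.inr (Or.inr (Or.inr (Or.inr (Or.inr (Or.inr (Or.inr
            ⟨_, isNondegenerateQuadraticForm_quadM hodd G hsym, hodd, hn, rfl⟩)))))))))),
            hle.trans (hsim.trans (similarityGroup_le_quad _))⟩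
        · rw [hsign, neg_one_smul] at hsym
          refine hsympl (isSymplecticForm_formM G hsym fun v => ?_)
          have h1 := formM_transpose (G : Matrix (Fin n) (Fin n) F) v v
          rw [hsym, ← neg_one_smul F (G : Matrix (Fin n) (Fin n) F), formM_smul] at h1
          apply mul_left_cancel₀ (two_ne_zero_of_odd hodd)
          linear_combination -h1
      · have h2 := two_eq_zero_of_not_odd hodd
        have hone : (-1 : F) = 1 := by linear_combination -h2
        rw [hone, one_pow, one_smul] at hsym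
        refine hsympl (isSymplecticForm_formM G ?_ (fun v => halt v (by rw [hone, one_pow]) h2))
        rw [hsym]
        ext i j
        rw [Matrix.neg_apply]
        linear_combination (G : Matrix (Fin n) (Fin n) F) i j * h2
    · exact ⟨_, Or.inr (Or.inr (Or.inr (Or.inr (Or.inr (Or.inr (Or.inr (Or.inr (Or.inl
        ⟨d, t, e, B, hd3, ht, rfl⟩)))))))), hle⟩
  rcases structure_of_irreducible hirr (by rw [Fintype.card_fin]; omega) with h | h | h | h | h | h
  · obtain ⟨N, t, e, m, -, -, -, hdec, hle, -⟩ := h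
    exact Or.inl ⟨_, Or.inr (Or.inr (Or.inr (Or.inl ⟨t, m, _, hdec, rfl⟩))), hle⟩
  · obtain ⟨N, r, -, hnorm, -, hr, hE⟩ := h
    obtain ⟨r', hr', hdvd⟩ := Nat.exists_prime_and_dvd (n := r) (by omega)
    obtain ⟨K, hK, -, hstable⟩ := exists_prime_subalgebra hr hE hr' hdvd
    refine Or.inl ⟨_, Or.inr (Or.inr (Or.inr (Or.inr (Or.inl ⟨r', K, hr', hK, rfl⟩)))), fun g hg k => ?_⟩
    refine (hstable (conjM g).toEquiv (fun x => ?_) (fun x k => map_pow (conjM g) x k) k).symm
    show conjM g x ∈ centreAlg (spanAlg N) ↔ _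
    rw [mem_centreAlg, mem_centreAlg, conjM_mem_spanAlg_iff hnorm hg]
    refine and_congr_right fun _ => ⟨fun hc a ha => (conjM g).injective ?_, fun hc a ha => ?_⟩
    · rw [map_mul, map_mul]
      exact hc _ ((conjM_mem_spanAlg_iff hnorm hg).mpr ha)
    · obtain ⟨b, rfl⟩ := (conjM g).surjective a
      rw [← map_mul, ← map_mul, hc b ((conjM_mem_spanAlg_iff hnorm hg).mp ha)]
  · obtain ⟨N, d, m, e, B, -, -, hd, hm, -, hle⟩ := h
    left
    rcases lt_trichotomy d m with hdm | hdm | hdm
    · exact ⟨_, Or.inr (Or.inr (Or.inr (Or.inr (Or.inr (Or.inl ⟨d, m, e, B, hd, hdm, rfl⟩))))), hle⟩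
    · subst hdm
      exact hwreath d 2 _ B hd le_rfl (hle.trans (tensorProduct_le_wreath e B))
    · exact ⟨_, Or.inr (Or.inr (Or.inr (Or.inr (Or.inr (Or.inl ⟨m, d, _, B, hm, hdm, rfl⟩))))),
        hle.trans (tensorProduct_le_swap e B)⟩
  · obtain ⟨R, r, -, hnorm, hR⟩ := h
    exact Or.inl (linear_class_of_symplecticCore hn hnorm hR)
  · obtain ⟨t, d, M, e, B, ht, hd, -, -, -, -, -, -, -, -, hle⟩ := h
    exact Or.inl (hwreath d t e B hd ht hle)
  · obtain ⟨P, hP⟩ := h
    have hnorm : Normalises H P := hP.normal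
    by_cases hsub : ∃ F₀ : Subfield F, F₀ ≠ ⊤ ∧ RealisableOver F₀ (matrixSet P)
    · obtain ⟨F₀, h0, h1⟩ := hsub
      exact Or.inl (linear_class_of_realisable hP.span_top hnorm h0 h1)
    push Not at hsub
    by_cases hbil : ∃ G : GL (Fin n) F, Invariant (RingEquiv.refl F) P (G : Matrix (Fin n) (Fin n) F)
    · obtain ⟨G, hG⟩ := hbil
      exact Or.inl (linear_class_of_form hn hP.span_top hnorm hG)
    push Not at hbil
    by_cases hses : ∃ (σ : F ≃+* F) (f : (Fin n → F) → (Fin n → F) → F),
        IsUnitaryForm σ f ∧ FixesForm (matrixSet P) f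
    · obtain ⟨σ, f, hf, hfix⟩ := hses
      obtain ⟨G, rfl⟩ := exists_gram_unitary hf
      exact Or.inl (linear_class_of_sesquilinear hn hP.span_top hnorm hf.ne_refl hf.involutive
        (invariant_iff_fixes.mpr hfix))
    refine Or.inr ⟨P, hP.residual (fun F₀ h0 => hsub F₀ h0), ?_, ?_, hses⟩
    · rintro ⟨Q, hQ, hfix⟩
      obtain ⟨G, hG, -⟩ := exists_gram_bilinear hQ.polar_bilinear hQ.nondegenerate
      refine hbil G (invariant_iff_fixes.mpr ?_)
      rw [← hG]
      intro s hs u v
      simp only [QuadraticMap.polar, ← Matrix.mulVec_add, hfix s hs]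
    · rintro ⟨f, hf, hfix⟩
      obtain ⟨G, hG, -⟩ := exists_gram_bilinear hf.bilinear hf.nondegenerate
      exact hbil G (invariant_iff_fixes.mpr (hG ▸ hfix))

end Cfsg.Agent.Lib.Aschbacher
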