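/-
Forms and subfield structures, field subalgebras stable under the adjoint, and quadratic forms in
characteristic two: the common part of Aschbacher's theorem for the groups with a form.
-/
import Cfsg.Agent.Lib.Aschbacher.Adjoint
import Cfsg.Agent.Lib.Aschbacher.Linear

set_option autoImplicit false

namespace Cfsg.Agent.Lib.Aschbacher

open Cfsg Cfsg.Geo Matrix

variable {ι : Type} [Fintype ι] [DecidableEq ι] {F : Type*} [Field F]

/-! ### Invariant forms of spanning groups -/

/-- A non-zero invariant form of a spanning group is non-degenerate. -/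
lemma isUnit_of_invariant_ne_zero {σ : F ≃+* F} {N : Subgroup (GL ι F)} (hN : spanAlg N = ⊤)
    {A : Matrix ι ι F} (hA : Invariant σ N A) (hA0 : A ≠ 0) : IsUnit A := by
  classical
  let W : Submodule F (ι → F) :=
    { carrier := {v | A *ᵥ (fun i => σ (v i)) = 0}
      zero_mem' := by
        show A *ᵥ (fun i => σ ((0 : ι → F) i)) = 0
        rw [show (fun i => σ ((0 : ι → F) i)) = (0 : ι → F) from funext fun i => map_zero σ,
          Matrix.mulVec_zero]
      add_mem' := fun {a b} (ha : _ = 0) (hb : _ = 0) => by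
        show A *ᵥ (fun i => σ ((a + b) i)) = 0
        rw [show (fun i => σ ((a + b) i)) = (fun i => σ (a i)) + fun i => σ (b i) from
          funext fun i => map_add σ _ _, Matrix.mulVec_add, ha, hb, add_zero]
      smul_mem' := fun c a (ha : _ = 0) => by
        show A *ᵥ (fun i => σ ((c • a) i)) = 0
        rw [show (fun i => σ ((c • a) i)) = σ c • fun i => σ (a i) from funext fun i => map_mul σ _ _,
          Matrix.mulVec_smul, ha, smul_zero] }
  rcases actsIrreducibly_iff.mp (absIrred_of_span_top hN).1 W (fun g hg w hw => by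
    show A *ᵥ (fun i => σ (((g : Matrix ι ι F) *ᵥ w) i)) = 0
    rw [mulVec_twist, Matrix.mulVec_mulVec]
    have h1 : A * twist σ (g : Matrix ι ι F) = ((g⁻¹ : GL ι F) : Matrix ι ι F)ᵀ * A := by
      conv_rhs => rw [← hA g hg]
      rw [← mul_assoc, ← mul_assoc, ← Matrix.transpose_mul, Units.mul_inv, Matrix.transpose_one,
        one_mul]
    rw [h1, ← Matrix.mulVec_mulVec, hw, Matrix.mulVec_zero]) with hW | hW
  · rw [← Matrix.mulVec_injective_iff_isUnit]
    intro a b hab
    have hmem : (fun i => σ.symm ((a - b) i)) ∈ W := by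
      show A *ᵥ (fun i => σ (σ.symm ((a - b) i))) = 0
      simp only [RingEquiv.apply_symm_apply]
      rw [show (fun i => (a - b) i) = a - b from rfl, Matrix.mulVec_sub, sub_eq_zero]
      exact hab
    rw [hW, Submodule.mem_bot] at hmem
    funext i
    have := congrFun hmem i
    rw [Pi.zero_apply, map_eq_zero_iff _ σ.symm.injective, Pi.sub_apply, sub_eq_zero] at this
    exact this
  · exfalso
    apply hA0
    ext i j
    have hj : (fun l => σ.symm ((Pi.single j (1 : F) : ι → F) l)) ∈ W := by rw [hW]; trivial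
    have h1 : A *ᵥ (Pi.single j (1 : F) : ι → F) = 0 := by
      have h2 : A *ᵥ (fun l => σ (σ.symm ((Pi.single j (1 : F) : ι → F) l))) = 0 := hj
      simpa using h2
    rw [Matrix.mulVec_single_one] at h1
    exact congrFun h1 i

/-- The invariant form of a spanning group realised over a subfield is a multiple of one defined over the
subfield. -/
theorem exists_rational_gram [Finite F] [Nonempty ι] {σ : F ≃+* F} {N : Subgroup (GL ι F)}
    (hN : spanAlg N = ⊤) {G : GL ι F} (hG : Invariant σ N (G : Matrix ι ι F)) {F₁ : Subfield F}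
    {P : GL ι F} (hP : ∀ x ∈ N, ∀ i j, ((P⁻¹ * x * P : GL ι F) : Matrix ι ι F) i j ∈ F₁) :
    ∃ (c : F) (G₁ : GL ι F), c ≠ 0 ∧ (∀ i j, (G₁ : Matrix ι ι F) i j ∈ F₁) ∧
      (∃ i j, (G₁ : Matrix ι ι F) i j = 1) ∧
      (P : Matrix ι ι F)ᵀ * (G : Matrix ι ι F) * twist σ (P : Matrix ι ι F) =
        c • (G₁ : Matrix ι ι F) := by
  classical
  obtain ⟨τ, hτ⟩ := exists_frobenius F₁
  have hcomm : ∀ x : F, τ (σ x) = σ (τ x) := fun x => by rw [hτ, hτ, map_pow]
  set N' : Subgroup (GL ι F) := cj P⁻¹ N with hN'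
  set G' : Matrix ι ι F := (P : Matrix ι ι F)ᵀ * (G : Matrix ι ι F) * twist σ (P : Matrix ι ι F) with hG'
  have hN'top : spanAlg N' = ⊤ := by
    rw [eq_top_iff]
    intro X _
    rw [hN', mem_spanAlg_cj, hN]
    trivial
  have hinv : Invariant σ N' G' := by
    intro x hx
    rw [hN', mem_cj, inv_inv] at hx
    have h := hG _ hx
    calc (x : Matrix ι ι F)ᵀ * G' * twist σ (x : Matrix ι ι F)
        = ((P * x : GL ι F) : Matrix ι ι F)ᵀ * (G : Matrix ι ι F) *
            twist σ ((P * x : GL ι F) : Matrix ι ι F) := by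
          rw [hG', Units.val_mul, Matrix.transpose_mul, twist_mul]; simp only [mul_assoc]
      _ = (P : Matrix ι ι F)ᵀ * (((P * x * P⁻¹ : GL ι F) : Matrix ι ι F)ᵀ * (G : Matrix ι ι F) *
            twist σ ((P * x * P⁻¹ : GL ι F) : Matrix ι ι F)) * twist σ (P : Matrix ι ι F) := by
          have e : (P * x : GL ι F) = P * x * P⁻¹ * P := by group
          conv_lhs => rw [e]
          rw [Units.val_mul _ P, Matrix.transpose_mul, twist_mul]; simp only [mul_assoc]
      _ = G' := by rw [h]
  have hG'u : IsUnit G' := by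
    refine (IsUnit.mul ?_ G.isUnit).mul ?_
    · rw [Matrix.isUnit_iff_isUnit_det, Matrix.det_transpose, ← Matrix.isUnit_iff_isUnit_det]
      exact P.isUnit
    · rw [← coe_twistGL]; exact (twistGL σ P).isUnit
  obtain ⟨i, j, hij⟩ : ∃ i j, G' i j ≠ 0 := by
    by_contra h
    push Not at h
    exact hG'u.ne_zero (Matrix.ext h)
  obtain ⟨u, hu⟩ := hG'u
  set c := G' i j with hc
  set G₁ : GL ι F := Units.mk0 c⁻¹ (inv_ne_zero hij) • u with hG₁
  have hval : (G₁ : Matrix ι ι F) = c⁻¹ • G' := by rw [hG₁, ← hu]; rfl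
  have h1 : (G₁ : Matrix ι ι F) i j = 1 := by
    rw [hval, Matrix.smul_apply, smul_eq_mul, ← hc, inv_mul_cancel₀ hij]
  have hinv₁ : Invariant σ N' (G₁ : Matrix ι ι F) := by rw [hval]; exact hinv.smul _
  have hfix : ∀ x ∈ N', twist τ (x : Matrix ι ι F) = (x : Matrix ι ι F) := by
    intro x hx
    rw [hN', mem_cj, inv_inv] at hx
    have h := hP _ hx
    rw [show P⁻¹ * (P * x * P⁻¹) * P = x by group] at h
    ext a b
    show τ _ = _
    rw [hτ, ← mem_subfield_iff]
    exact h a b
  have hinvτ : Invariant σ N' (twist τ (G₁ : Matrix ι ι F)) := by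
    intro x hx
    have h := congrArg (twist τ) (hinv₁ x hx)
    rw [twist_mul, twist_mul] at h
    have e1 : twist τ (x : Matrix ι ι F)ᵀ = (x : Matrix ι ι F)ᵀ := by
      conv_rhs => rw [← hfix x hx]
      rfl
    have e2 : twist τ (twist σ (x : Matrix ι ι F)) = twist σ (x : Matrix ι ι F) := by
      conv_rhs => rw [← hfix x hx]
      ext a b
      simp [hcomm]
    rwa [e1, e2] at h
  obtain ⟨d, hd⟩ := invariant_unique hN'top hinv₁ hinvτ
  have hd1 : d = 1 := by
    have := congrFun (congrFun hd i) j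
    rw [Matrix.smul_apply, h1, smul_eq_mul, mul_one] at this
    rw [← this]
    show τ _ = 1
    rw [h1, map_one]
  refine ⟨c, G₁, hij, fun a b => ?_, ⟨i, j, h1⟩, ?_⟩
  · rw [mem_subfield_iff, ← hτ]
    have := congrFun (congrFun hd a) b
    rw [hd1, one_smul] at this
    exact this
  · rw [hval, smul_smul, mul_inv_cancel₀ hij, one_smul]

lemma formM_mem_subfield {σ : F ≃+* F} {F₁ : Subfield F} (hσ : ∀ a ∈ F₁, σ a ∈ F₁) {A : Matrix ι ι F}
    (hA : ∀ i j, A i j ∈ F₁) {u v : ι → F} (hu : ∀ i, u i ∈ F₁) (hv : ∀ i, v i ∈ F₁) :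
    formM σ A u v ∈ F₁ := by
  simp only [formM, Matrix.mulVec, dotProduct]
  exact Subfield.sum_mem _ fun i _ => Subfield.mul_mem _ (hu i)
    (Subfield.sum_mem _ fun j _ => Subfield.mul_mem _ (hA i j) (hσ _ (hv j)))

lemma ringEquiv_mem_subfield [Finite F] (σ : F ≃+* F) (F₁ : Subfield F) {a : F} (ha : a ∈ F₁) :
    σ a ∈ F₁ := by
  rw [mem_subfield_iff] at ha ⊢
  rw [← map_pow, ha]

/-! ### Field subalgebras stable under the adjoint -/

/-- The extension field case: a stable field of prime degree. -/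
theorem exists_stable_field [Finite F] {σ : F ≃+* F} {G : GL ι F} {ε : F} (hF : IsFormGram σ G ε)
    {H : Subgroup (GL ι F)} (hH : Invariant σ H (G : Matrix ι ι F)) (hext : HasExtension H) :
    ∃ (r : ℕ) (K : Subalgebra F (Matrix ι ι F)), r.Prime ∧ IsFieldSubalgebra r K ∧
      H ≤ subalgebraNormalizer K ∧ (∀ x, adjM σ G x ∈ K ↔ x ∈ K) ∧
      ∃ N : Subgroup (GL ι F), N ≤ H ∧ ¬ N ≤ scalars ι F ∧
        ∀ x ∈ N, ∀ k ∈ K, k * (x : Matrix ι ι F) = (x : Matrix ι ι F) * k := by
  obtain ⟨N, r, hNH, hnorm, hns, hr, hE⟩ := hext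
  obtain ⟨r', hr', hdvd⟩ := Nat.exists_prime_and_dvd (n := r) (by omega)
  obtain ⟨K, hK, hKE, hstable⟩ := exists_prime_subalgebra hr hE hr' hdvd
  refine ⟨r', K, hr', hK, fun g hg k => ?_, ?_, N, hNH, hns, fun x hx k hk =>
    (mem_centreAlg.mp (hKE hk)).2 _ (coe_mem_spanAlg hx)⟩
  · refine (hstable (conjM g).toEquiv (fun x => ?_) (fun x k => map_pow (conjM g) x k) k).symm
    show conjM g x ∈ centreAlg (spanAlg N) ↔ _
    rw [mem_centreAlg, mem_centreAlg, conjM_mem_spanAlg_iff hnorm hg]
    refine and_congr_right fun _ => ⟨fun hc a ha => (conjM g).injective ?_, fun hc a ha => ?_⟩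
    · rw [map_mul, map_mul]
      exact hc _ ((conjM_mem_spanAlg_iff hnorm hg).mpr ha)
    · obtain ⟨b, rfl⟩ := (conjM g).surjective a
      rw [← map_mul, ← map_mul, hc b ((conjM_mem_spanAlg_iff hnorm hg).mp ha)]
  · exact hstable (adjEquiv hF) (fun x => adjM_mem_centreAlg_iff hF (hH.mono hNH))
      (fun x k => adjM_pow x k)

/-- The field structure on a field subalgebra. -/
lemma isField_of_fieldSubalgebra {r : ℕ} {K : Subalgebra F (Matrix ι ι F)} (hr : 0 < r)
    (hK : IsFieldSubalgebra r K) : IsField ↥K := by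
  have hne : (1 : ↥K) ≠ 0 := by
    intro h
    haveI : Subsingleton ↥K := subsingleton_of_zero_eq_one h.symm
    have := hK.finrank_eq
    rw [Module.finrank_zero_of_subsingleton] at this
    omega
  exact
    { exists_pair_ne := ⟨1, 0, hne⟩
      mul_comm := fun x y => Subtype.ext (hK.comm x x.2 y y.2)
      mul_inv_cancel := fun {a} ha => by
        obtain ⟨y, hy, hxy⟩ := hK.inv a a.2 (fun h => ha (Subtype.ext h))
        exact ⟨⟨y, hy⟩, Subtype.ext hxy⟩ }

/-- The fixed field of a non-trivial involution of a finite field has square index. -/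
lemma card_eq_sq_of_involution {L : Type*} [Field L] {τ : L →+* L} (hτ : ∀ a, τ (τ a) = a) {x : L}
    (hx : τ x ≠ x) : Nat.card L = Nat.card (τ.eqLocusField (RingHom.id L)) ^ 2 := by
  set S := τ.eqLocusField (RingHom.id L)
  have hmem : ∀ y, y ∈ S ↔ τ y = y := fun y => Iff.rfl
  have hxx : x - τ x ≠ 0 := sub_ne_zero.mpr (Ne.symm hx)
  have ha : ∀ y, (y - τ y) / (x - τ x) ∈ S := fun y => by
    rw [hmem, map_div₀, map_sub, map_sub, hτ, hτ, ← neg_sub y (τ y), ← neg_sub x (τ x), neg_div_neg_eq]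
  have hb : ∀ y, y - (y - τ y) / (x - τ x) * x ∈ S := fun y => by
    rw [hmem, map_sub, map_mul, (hmem _).mp (ha y)]
    field_simp
    ring
  let φ : S × S → L := fun p => (p.1 : L) + (p.2 : L) * x
  have hφ : Function.Bijective φ := by
    refine ⟨fun p q h => ?_, fun y => ⟨(⟨_, hb y⟩, ⟨_, ha y⟩), sub_add_cancel _ _⟩⟩
    have h1 : (p.1 : L) + (p.2 : L) * x = (q.1 : L) + (q.2 : L) * x := h
    have h2 := congrArg τ h1
    rw [map_add, map_add, map_mul, map_mul, (hmem _).mp p.1.2, (hmem _).mp p.2.2, (hmem _).mp q.1.2,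
      (hmem _).mp q.2.2] at h2
    have h3 : ((p.2 : L) - q.2) * (x - τ x) = 0 := by linear_combination h1 - h2
    have h4 : (p.2 : L) = q.2 := sub_eq_zero.mp ((mul_eq_zero.mp h3).resolve_right hxx)
    have h5 : (p.1 : L) = q.1 := by rw [h4] at h1; exact add_right_cancel h1
    exact Prod.ext (Subtype.ext h5) (Subtype.ext h4)
  rw [← Nat.card_eq_of_bijective φ hφ, Nat.card_prod, sq]

/-- Over the ground field a stable field of prime degree is fixed pointwise by the adjoint, or has degree two. -/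
theorem stable_field_bilinear [Finite F] {G : GL ι F} {ε : F}
    (hF : IsFormGram (RingEquiv.refl F) G ε) {r : ℕ} {K : Subalgebra F (Matrix ι ι F)} (hr : r.Prime)
    (hK : IsFieldSubalgebra r K) (hstab : ∀ x, adjM (RingEquiv.refl F) G x ∈ K ↔ x ∈ K)
    {x : Matrix ι ι F} (hxK : x ∈ K) (hx : adjM (RingEquiv.refl F) G x ≠ x) :
    r = 2 ∧ ∀ d ∈ K, adjM (RingEquiv.refl F) G d = d → ∃ c : F, d = c • 1 := by
  letI : Field ↥K := (isField_of_fieldSubalgebra hr.pos hK).toField
  let τ : ↥K →+* ↥K :=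
    { toFun := fun k => ⟨adjM (RingEquiv.refl F) G k, (hstab _).mpr k.2⟩
      map_one' := Subtype.ext adjM_one
      map_mul' := fun a b => Subtype.ext (by
        show adjM (RingEquiv.refl F) G ((a : Matrix ι ι F) * b) = _
        rw [hK.comm _ a.2 _ b.2, adjM_mul]
        rfl)
      map_zero' := Subtype.ext adjM_zero
      map_add' := fun a b => Subtype.ext (adjM_add _ _) }
  haveI : Finite ↥K := Module.finite_of_finite F
  let S : Submodule F ↥K :=
    { carrier := {k | τ k = k}
      zero_mem' := map_zero τ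
      add_mem' := fun {a b} (ha : τ a = a) (hb : τ b = b) => by
        show τ (a + b) = a + b
        rw [map_add, ha, hb]
      smul_mem' := fun c a (ha : τ a = a) => Subtype.ext (by
        show adjM (RingEquiv.refl F) G (c • (a : Matrix ι ι F)) = c • (a : Matrix ι ι F)
        rw [adjM_smul, RingEquiv.refl_apply]
        exact congrArg (c • ·) (congrArg Subtype.val ha)) }
  have hcard := card_eq_sq_of_involution (τ := τ) (x := ⟨x, hxK⟩)
    (fun a => Subtype.ext (adjM_adjM hF _)) (fun h => hx (congrArg Subtype.val h))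
  have hScard : Nat.card (τ.eqLocusField (RingHom.id ↥K)) = Nat.card S := Nat.card_congr (Equiv.refl _)
  rw [hScard, Module.natCard_eq_pow_finrank (K := F), Module.natCard_eq_pow_finrank (K := F) (V := ↥S),
    ← pow_mul] at hcard
  have hr2 := Nat.pow_right_injective Finite.one_lt_card hcard
  rw [show Module.finrank F ↥K = r from hK.finrank_eq] at hr2
  have h2 : r = 2 := ((Nat.prime_dvd_prime_iff_eq Nat.prime_two hr).mp ⟨Module.finrank F S, by omega⟩).symm
  refine ⟨h2, fun d hd hdfix => ?_⟩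
  have hS1 : Module.finrank F S = 1 := by omega
  have h1mem : (1 : ↥K) ∈ S := map_one τ
  have hdS : (⟨d, hd⟩ : ↥K) ∈ S := Subtype.ext hdfix
  obtain ⟨c, hc⟩ := (finrank_eq_one_iff_of_nonzero' (⟨1, h1mem⟩ : S)
    (fun h => one_ne_zero (congrArg Subtype.val h : (1 : ↥K) = 0))).mp hS1 ⟨_, hdS⟩
  exact ⟨c, (congrArg (fun s : S => ((s : ↥K) : Matrix ι ι F)) hc).symm⟩

/-- For a sesquilinear form a stable field of prime degree has odd degree. -/
theorem stable_field_sesquilinear [Finite F] [Nonempty ι] {σ : F ≃+* F} (hne : σ ≠ RingEquiv.refl F)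
    {G : GL ι F} {ε : F} (hF : IsFormGram σ G ε) {r : ℕ} {K : Subalgebra F (Matrix ι ι F)}
    (hr : r.Prime) (hK : IsFieldSubalgebra r K) (hstab : ∀ x, adjM σ G x ∈ K ↔ x ∈ K) : Odd r := by
  rcases hr.eq_two_or_odd' with h2 | h
  swap
  · exact h
  exfalso
  subst h2
  letI : Field ↥K := (isField_of_fieldSubalgebra two_pos hK).toField
  haveI : Finite ↥K := Module.finite_of_finite F
  let τ : ↥K →+* ↥K :=
    { toFun := fun k => ⟨adjM σ G k, (hstab _).mpr k.2⟩
      map_one' := Subtype.ext adjM_one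
      map_mul' := fun a b => Subtype.ext (by
        show adjM σ G ((a : Matrix ι ι F) * b) = _
        rw [hK.comm _ a.2 _ b.2, adjM_mul]
        rfl)
      map_zero' := Subtype.ext adjM_zero
      map_add' := fun a b => Subtype.ext (adjM_add _ _) }
  obtain ⟨c, hc⟩ : ∃ c, σ c ≠ c := by
    by_contra h
    push Not at h
    exact hne (RingEquiv.ext h)
  let j : F → ↥K := fun a => ⟨a • (1 : Matrix ι ι F), K.smul_mem K.one_mem a⟩
  have hτj : ∀ a, τ (j a) = j (σ a) := fun a => Subtype.ext (adjM_smul_one a)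
  have hji : ∀ a b, j a = j b → a = b := fun a b h => by
    have h1 := congrFun (congrFun (congrArg Subtype.val h) (Classical.arbitrary ι)) (Classical.arbitrary ι)
    simpa [j] using h1
  have hjp : ∀ a (k : ℕ), j a ^ k = j (a ^ k) := fun a k => Subtype.ext (by
    show (a • (1 : Matrix ι ι F)) ^ k = a ^ k • 1
    rw [smul_pow, one_pow])
  have hcard := card_eq_sq_of_involution (τ := τ) (x := j c) (fun a => Subtype.ext (adjM_adjM hF _))
    (fun h => hc (hji _ _ (by rw [← hτj, h])))
  rw [Module.natCard_eq_pow_finrank (K := F), show Module.finrank F ↥K = 2 from hK.finrank_eq] at hcard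
  have hS : Nat.card (τ.eqLocusField (RingHom.id ↥K)) = Nat.card F :=
    (Nat.pow_left_injective two_ne_zero hcard).symm
  have hjc : j c ∈ τ.eqLocusField (RingHom.id ↥K) := by
    rw [mem_subfield_iff, hS, hjp]
    congr 1
    haveI : Fintype F := Fintype.ofFinite F
    rw [Nat.card_eq_fintype_card]
    exact FiniteField.pow_card c
  exact hc (hji _ _ ((hτj c).symm.trans hjc))

/-! ### Quadratic forms with a given polar -/

lemma quadM_smul (U : Matrix ι ι F) (c : F) (v : ι → F) : quadM U (c • v) = c ^ 2 * quadM U v := by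
  simp only [quadM, formM_smul_left, formM_smul_right, RingEquiv.refl_apply]
  ring

lemma polar_quadM_add (U : Matrix ι ι F) (u v : ι → F) :
    QuadraticMap.polar (quadM U) u v = formM (RingEquiv.refl F) (U + Uᵀ) u v := by
  have h : formM (RingEquiv.refl F) (U + Uᵀ) u v =
      formM (RingEquiv.refl F) U u v + formM (RingEquiv.refl F) Uᵀ u v := by
    simp only [formM, Matrix.add_mulVec, dotProduct_add]
  rw [h, formM_transpose]
  simp only [QuadraticMap.polar, quadM, formM_add_left, formM_add_right]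
  ring

/-- A linear map preserving the polar form and the values on a basis preserves the quadratic form. -/
lemma quad_eq_of_basis {Q : (ι → F) → F} (hQ : ∀ (c : F) (v : ι → F), Q (c • v) = c ^ 2 * Q v)
    {A : Matrix ι ι F}
    (hpol : ∀ u v, QuadraticMap.polar Q (A *ᵥ u) (A *ᵥ v) = QuadraticMap.polar Q u v)
    (hbas : ∀ i, Q (A *ᵥ Pi.single i 1) = Q (Pi.single i 1)) (v : ι → F) : Q (A *ᵥ v) = Q v := by
  let D : (ι → F) →+ F := AddMonoidHom.mk' (fun w => Q (A *ᵥ w) - Q w) (fun a b => by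
    have h := hpol a b
    simp only [QuadraticMap.polar] at h
    rw [Matrix.mulVec_add]
    linear_combination h)
  have hD : D v = 0 := by
    rw [pi_eq_sum_univ' v, map_sum]
    refine Finset.sum_eq_zero fun i _ => ?_
    show Q (A *ᵥ _) - Q _ = 0
    rw [Matrix.mulVec_smul, hQ, hQ, hbas, sub_self]
  exact sub_eq_zero.mp hD

end Cfsg.Agent.Lib.Aschbacher
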