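/-
Forms preserved by groups stabilising tensor decompositions: the Gram matrix is a Kronecker product.
-/
import Cfsg.Agent.Lib.Aschbacher.FormClass

set_option autoImplicit false

namespace Cfsg.Agent.Lib.Aschbacher

open Cfsg Cfsg.Geo Matrix
open scoped Kronecker

set_option maxHeartbeats 1000000

variable {ι : Type} [Fintype ι] [DecidableEq ι] {F : Type*} [Field F]

section frames

variable {κ : Type} [Fintype κ] [DecidableEq κ]

/-- The Gram matrix of a form in a frame. -/
def gramIn (σ : F ≃+* F) (G : GL ι F) (e : ι ≃ κ) (B : GL ι F) : Matrix κ κ F :=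
  ((B : Matrix ι ι F)ᵀ * (G : Matrix ι ι F) * twist σ (B : Matrix ι ι F)).submatrix e.symm e.symm

lemma formM_submatrix (σ : F ≃+* F) (A : Matrix κ κ F) (e : ι ≃ κ) (x y : κ → F) :
    formM σ (A.submatrix e e) (x ∘ e) (y ∘ e) = formM σ A x y := by
  simp only [formM, dotProduct, Matrix.mulVec, Matrix.submatrix_apply, Function.comp_apply]
  rw [← Equiv.sum_comp e (fun a => x a * ∑ b, A a b * σ (y b))]
  refine Finset.sum_congr rfl fun i _ => ?_
  rw [← Equiv.sum_comp e (fun b => A (e i) b * σ (y b))]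

lemma formM_frame (σ : F ≃+* F) (G : GL ι F) (e : ι ≃ κ) (B : GL ι F) (x y : κ → F) :
    formM σ (G : Matrix ι ι F) ((B : Matrix ι ι F) *ᵥ (x ∘ e)) ((B : Matrix ι ι F) *ᵥ (y ∘ e)) =
      formM σ (gramIn σ G e B) x y := by
  rw [formM_mulVec, ← formM_submatrix σ (gramIn σ G e B) e x y]
  simp [gramIn, Matrix.submatrix_submatrix]

lemma formOfGram_eq (σ : F ≃+* F) (A : Matrix κ κ F) (x y : κ → F) :
    formOfGram (⇑σ) A x y = formM σ A x y := by
  simp [formOfGram, formM, dotProduct, Matrix.mulVec, Finset.mul_sum, mul_assoc]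

lemma gramMatrix_formM (σ : F ≃+* F) (A : Matrix κ κ F) : gramMatrix (formM σ A) = A := by
  ext i j
  exact formM_single σ A i j

lemma gramIn_invariant {σ : F ≃+* F} {G : GL ι F} (e : ι ≃ κ) (B : GL ι F) {g : GL ι F}
    (hg : (g : Matrix ι ι F)ᵀ * (G : Matrix ι ι F) * twist σ (g : Matrix ι ι F) = (G : Matrix ι ι F))
    {k : Matrix κ κ F} (hk : (g : Matrix ι ι F) = framed e B k) :
    kᵀ * gramIn σ G e B * twist σ k = gramIn σ G e B := by
  have hgB : (g : Matrix ι ι F) * (B : Matrix ι ι F) = (B : Matrix ι ι F) * k.submatrix e e := by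
    rw [hk, framed_apply, mul_assoc, Units.inv_mul, mul_one]
  have h1 : (k.submatrix e e)ᵀ * ((B : Matrix ι ι F)ᵀ * (G : Matrix ι ι F) * twist σ (B : Matrix ι ι F)) *
      twist σ (k.submatrix e e) = (B : Matrix ι ι F)ᵀ * (G : Matrix ι ι F) * twist σ (B : Matrix ι ι F) := by
    calc _ = ((B : Matrix ι ι F) * k.submatrix e e)ᵀ * (G : Matrix ι ι F) *
          twist σ ((B : Matrix ι ι F) * k.submatrix e e) := by
          rw [Matrix.transpose_mul, twist_mul]; simp only [mul_assoc]
      _ = (B : Matrix ι ι F)ᵀ * ((g : Matrix ι ι F)ᵀ * (G : Matrix ι ι F) * twist σ (g : Matrix ι ι F)) *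
          twist σ (B : Matrix ι ι F) := by
          rw [← hgB, Matrix.transpose_mul, twist_mul]; simp only [mul_assoc]
      _ = _ := by rw [hg]
  have h2 := congrArg (fun M : Matrix ι ι F => M.submatrix e.symm e.symm) h1
  simp only [← Matrix.submatrix_mul_equiv _ _ e.symm e.symm e.symm] at h2
  have e1 : (k.submatrix e e)ᵀ.submatrix e.symm e.symm = kᵀ := by
    ext a b; simp
  have e2 : (twist σ (k.submatrix e e)).submatrix e.symm e.symm = twist σ k := by
    ext a b; simp
  simp only [Matrix.submatrix_mul_equiv] at h2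
  rw [← Matrix.submatrix_mul_equiv _ _ e.symm e.symm e.symm, ← Matrix.submatrix_mul_equiv _ _ e.symm e.symm e.symm,
    e1, e2] at h2
  exact h2

lemma isUnit_gramIn {σ : F ≃+* F} (G : GL ι F) (e : ι ≃ κ) (B : GL ι F) :
    IsUnit (gramIn σ G e B) := by
  have h : IsUnit ((B : Matrix ι ι F)ᵀ * (G : Matrix ι ι F) * twist σ (B : Matrix ι ι F)) := by
    refine (IsUnit.mul ?_ G.isUnit).mul ?_
    · rw [Matrix.isUnit_iff_isUnit_det, Matrix.det_transpose, ← Matrix.isUnit_iff_isUnit_det]
      exact B.isUnit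
    · rw [← coe_twistGL]; exact (twistGL σ B).isUnit
  exact h.map (Matrix.reindexAlgEquiv F F e)

lemma twist_gramIn {σ : F ≃+* F} {G : GL ι F} {ε : F} (hF : IsFormGram σ G ε) (e : ι ≃ κ) (B : GL ι F) :
    twist σ (gramIn σ G e B)ᵀ = ε • gramIn σ G e B := by
  have h : twist σ ((B : Matrix ι ι F)ᵀ * (G : Matrix ι ι F) * twist σ (B : Matrix ι ι F))ᵀ =
      ε • ((B : Matrix ι ι F)ᵀ * (G : Matrix ι ι F) * twist σ (B : Matrix ι ι F)) := by
    rw [Matrix.transpose_mul, Matrix.transpose_mul, Matrix.transpose_transpose, twist_mul, twist_mul,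
      hF.herm, ← Matrix.transpose_map, twist_twist hF.invol, Matrix.smul_mul, Matrix.mul_smul,
      mul_assoc]
  ext a b
  exact congrFun (congrFun h (e.symm a)) (e.symm b)

/-- The subgroup of the factor whose image in the frame lies in `N`, for a multiplicative embedding. -/
def factorGroup (φ : Matrix κ κ F →* Matrix ι ι F) (N : Subgroup (GL ι F)) : Subgroup (GL κ F) :=
  N.comap (Units.map φ)

lemma factorGroup_map {φ : Matrix κ κ F →* Matrix ι ι F} (hφ : Function.Injective φ)
    {N : Subgroup (GL ι F)} (hN : ∀ x ∈ N, ∃ a, (x : Matrix ι ι F) = φ a) :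
    (factorGroup φ N).map (Units.map φ) = N := by
  refine le_antisymm (Subgroup.map_comap_le _ _) fun x hx => ?_
  obtain ⟨a, ha⟩ := hN x hx
  obtain ⟨b, hb⟩ := hN x⁻¹ (N.inv_mem hx)
  have hab : a * b = 1 := hφ (by rw [map_mul, ← ha, ← hb, map_one, Units.mul_inv])
  have hba : b * a = 1 := hφ (by rw [map_mul, ← ha, ← hb, map_one, Units.inv_mul])
  refine ⟨⟨a, b, hab, hba⟩, ?_, Units.ext ha.symm⟩
  show Units.map φ _ ∈ N
  rwa [show Units.map φ ⟨a, b, hab, hba⟩ = x from Units.ext ha.symm]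

lemma spanAlg_factorGroup {φ : Matrix κ κ F →* Matrix ι ι F} (hφ : Function.Injective φ)
    (hadd : ∀ a b, φ (a + b) = φ a + φ b) (hsmul : ∀ (c : F) a, φ (c • a) = c • φ a)
    {N : Subgroup (GL ι F)} (hN : ∀ X, X ∈ spanAlg N ↔ ∃ a, X = φ a) :
    spanAlg (factorGroup φ N) = ⊤ := by
  let L : Matrix κ κ F →ₗ[F] Matrix ι ι F := { toFun := φ, map_add' := hadd, map_smul' := hsmul }
  rw [eq_top_iff]
  intro a _
  rw [← Subalgebra.mem_toSubmodule, spanAlg_toSubmodule]
  have h : φ a ∈ Submodule.span F (matrixSet N) := by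
    rw [← spanAlg_toSubmodule, Subalgebra.mem_toSubmodule, hN]
    exact ⟨a, rfl⟩
  have h2 : Submodule.span F (matrixSet N) ≤ (Submodule.span F (matrixSet (factorGroup φ N))).map L := by
    rw [Submodule.span_le]
    rintro _ ⟨x, hx, rfl⟩
    rw [← factorGroup_map hφ (fun y hy => (hN _).mp (coe_mem_spanAlg hy))] at hx
    obtain ⟨k, hk, rfl⟩ := hx
    exact ⟨k, Submodule.subset_span (coe_mem_matrixSet hk), rfl⟩
  obtain ⟨b, hb, hba⟩ := h2 h
  rwa [← hφ (hba : φ b = φ a)]

lemma factorGroup_perfect {φ : Matrix κ κ F →* Matrix ι ι F} (hφ : Function.Injective φ)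
    {N : Subgroup (GL ι F)} (hN : ∀ x ∈ N, ∃ a, (x : Matrix ι ι F) = φ a) (hp : ⁅N, N⁆ = N) :
    ⁅factorGroup φ N, factorGroup φ N⁆ = factorGroup φ N := by
  apply Subgroup.map_injective (Units.map_injective hφ)
  rw [Subgroup.map_commutator, factorGroup_map hφ hN, hp]

end frames

/-! ### Two factors -/

lemma kronecker_eq_cases {d m : ℕ} {A C : Matrix (Fin d) (Fin d) F} {B D : Matrix (Fin m) (Fin m) F}
    (hC : C ≠ 0) (hD : D ≠ 0) (h : A ⊗ₖ B = C ⊗ₖ D) :
    ∃ c : F, c ≠ 0 ∧ A = c • C ∧ c • B = D := by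
  obtain ⟨i, j, hij⟩ : ∃ i j, C i j ≠ 0 := by
    by_contra h; push Not at h; exact hC (Matrix.ext h)
  obtain ⟨k, l, hkl⟩ : ∃ k l, D k l ≠ 0 := by
    by_contra h; push Not at h; exact hD (Matrix.ext h)
  have h0 : A i j * B k l = C i j * D k l := congrFun (congrFun h (i, k)) (j, l)
  have hne : A i j * B k l ≠ 0 := by rw [h0]; exact mul_ne_zero hij hkl
  have hA : A i j ≠ 0 := left_ne_zero_of_mul hne
  have hB : B k l ≠ 0 := right_ne_zero_of_mul hne
  have hAa : ∀ a b, A a b = D k l / B k l * C a b := fun a b => by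
    have h1 : A a b * B k l = C a b * D k l := congrFun (congrFun h (a, k)) (b, l)
    field_simp
    linear_combination h1
  refine ⟨D k l / B k l, div_ne_zero hkl hB, ?_, ?_⟩
  · ext a b
    rw [Matrix.smul_apply, smul_eq_mul, hAa]
  · ext a b
    have h1 : A i j * B a b = C i j * D a b := congrFun (congrFun h (i, a)) (j, b)
    rw [hAa i j] at h1
    rw [Matrix.smul_apply, smul_eq_mul]
    apply mul_left_cancel₀ hij
    linear_combination h1

/-- The Gram matrix in the frame of a tensor decomposition given by a normal subgroup is a Kronecker product. -/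
theorem exists_tensor_gram {σ : F ≃+* F} {G : GL ι F} {ε : F} (hF : IsFormGram σ G ε)
    {N : Subgroup (GL ι F)} {d m : ℕ} (hd : 0 < d) (hm : 0 < m) (e : ι ≃ Fin d × Fin m) (B : GL ι F)
    (hmem : ∀ X, X ∈ spanAlg N ↔ ∃ a, X = framed e B (a ⊗ₖ (1 : Matrix (Fin m) (Fin m) F)))
    (hinv : Invariant σ N (G : Matrix ι ι F)) :
    ∃ (G₁ : GL (Fin d) F) (G₂ : GL (Fin m) F) (c₁ c₂ : F) (Nd : Subgroup (GL (Fin d) F)),
      gramIn σ G e B = (G₁ : Matrix (Fin d) (Fin d) F) ⊗ₖ (G₂ : Matrix (Fin m) (Fin m) F) ∧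
      c₁ * c₂ = ε ∧ c₁ * σ c₁ = 1 ∧
      twist σ (G₁ : Matrix (Fin d) (Fin d) F)ᵀ = c₁ • (G₁ : Matrix (Fin d) (Fin d) F) ∧
      twist σ (G₂ : Matrix (Fin m) (Fin m) F)ᵀ = c₂ • (G₂ : Matrix (Fin m) (Fin m) F) ∧
      spanAlg Nd = ⊤ ∧ Invariant σ Nd (G₁ : Matrix (Fin d) (Fin d) F) := by
  classical
  haveI : Nonempty (Fin d) := ⟨⟨0, hd⟩⟩
  haveI : Nonempty (Fin m) := ⟨⟨0, hm⟩⟩
  let φ : Matrix (Fin d) (Fin d) F →* Matrix ι ι F :=
    { toFun := fun a => framed e B (a ⊗ₖ (1 : Matrix (Fin m) (Fin m) F))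
      map_one' := by rw [Matrix.one_kronecker_one, map_one]
      map_mul' := fun a b => by rw [← map_mul, ← Matrix.mul_kronecker_mul, mul_one] }
  have hφ : Function.Injective φ := fun a b h => by
    have h' := (framed e B).injective h
    ext i j
    simpa using congrFun (congrFun h' (i, ⟨0, hm⟩)) (j, ⟨0, hm⟩)
  have hNd : spanAlg (factorGroup φ N) = ⊤ := spanAlg_factorGroup hφ
    (fun a b => by show framed e B ((a + b) ⊗ₖ _) = _; rw [Matrix.add_kronecker, map_add]; rfl)
    (fun c a => by show framed e B ((c • a) ⊗ₖ _) = _; rw [Matrix.smul_kronecker, map_smul]; rfl) hmem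
  set A := gramIn σ G e B with hA
  let S : Fin m → Fin m → Matrix (Fin d) (Fin d) F := fun k l => Matrix.of fun i j => A (i, k) (j, l)
  have hS : ∀ k l, Invariant σ (factorGroup φ N) (S k l) := by
    intro k l x hx
    have h := gramIn_invariant e B (hinv _ hx)
      (k := (x : Matrix (Fin d) (Fin d) F) ⊗ₖ (1 : Matrix (Fin m) (Fin m) F)) rfl
    ext i j
    have h1 := congrFun (congrFun h (i, k)) (j, l)
    simpa [S, Matrix.mul_apply, Fintype.sum_prod_type, Matrix.one_apply, apply_ite σ] using h1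
  obtain ⟨k₀, l₀, hne⟩ : ∃ k l, S k l ≠ 0 := by
    by_contra h
    push Not at h
    apply (isUnit_gramIn G e B (σ := σ)).ne_zero
    ext ⟨i, k⟩ ⟨j, l⟩
    exact congrFun (congrFun (h k l) i) j
  obtain ⟨G₁, hG₁⟩ := isUnit_of_invariant_ne_zero hNd (hS k₀ l₀) hne
  have hinv₁ : Invariant σ (factorGroup φ N) (G₁ : Matrix (Fin d) (Fin d) F) := by rw [hG₁]; exact hS k₀ l₀
  choose C hC using fun k l => invariant_unique hNd hinv₁ (hS k l)
  let G₂m : Matrix (Fin m) (Fin m) F := Matrix.of C
  have hAeq : A = (G₁ : Matrix (Fin d) (Fin d) F) ⊗ₖ G₂m := by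
    ext ⟨i, k⟩ ⟨j, l⟩
    have := congrFun (congrFun (hC k l) i) j
    simpa [S, G₂m, mul_comm] using this
  have hG₂u : IsUnit G₂m := by
    have h := isUnit_gramIn G e B (σ := σ)
    rw [← hA, hAeq, Matrix.isUnit_iff_isUnit_det, Matrix.det_kronecker, IsUnit.mul_iff] at h
    rw [Matrix.isUnit_iff_isUnit_det]
    exact (isUnit_pow_iff (by rw [Fintype.card_fin]; omega)).mp h.2
  obtain ⟨G₂, hG₂⟩ := hG₂u
  obtain ⟨c₁, hc₁⟩ := invariant_unique hNd hinv₁ (hinv₁.twistTranspose hF.invol)
  have hcc : c₁ * σ c₁ = 1 := by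
    have h := congrArg (fun M => twist σ Mᵀ) hc₁
    simp only [Matrix.transpose_smul, twist_smul] at h
    have e1 : twist σ (twist σ (G₁ : Matrix (Fin d) (Fin d) F)ᵀ)ᵀ = (G₁ : Matrix (Fin d) (Fin d) F) := by
      ext i j; simp [hF.invol]
    rw [e1, hc₁, smul_smul] at h
    have h0 : (σ c₁ * c₁ - 1) • (G₁ : Matrix (Fin d) (Fin d) F) = 0 := by
      rw [sub_smul, one_smul, ← h, sub_self]
    rw [mul_comm]
    exact sub_eq_zero.mp ((smul_eq_zero.mp h0).resolve_right G₁.isUnit.ne_zero)
  have hc0 : c₁ ≠ 0 := left_ne_zero_of_mul_eq_one hcc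
  refine ⟨G₁, G₂, c₁, ε * c₁⁻¹, _, by rw [hG₂]; exact hAeq, by field_simp, hcc, hc₁, ?_, hNd, hinv₁⟩
  have h := twist_gramIn hF e B
  rw [← hA, hAeq, ← hG₂] at h
  have h1 : twist σ (G₁ : Matrix (Fin d) (Fin d) F)ᵀ ⊗ₖ twist σ (G₂ : Matrix (Fin m) (Fin m) F)ᵀ =
      (G₁ : Matrix (Fin d) (Fin d) F) ⊗ₖ (ε • (G₂ : Matrix (Fin m) (Fin m) F)) := by
    rw [Matrix.kronecker_smul, ← h]
    ext ⟨i, k⟩ ⟨j, l⟩
    simp
  rw [hc₁, Matrix.smul_kronecker, ← Matrix.kronecker_smul] at h1
  ext k l
  obtain ⟨i, j, hij⟩ : ∃ i j, (G₁ : Matrix (Fin d) (Fin d) F) i j ≠ 0 := by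
    by_contra hh; push Not at hh; exact G₁.isUnit.ne_zero (Matrix.ext hh)
  have h2 := congrFun (congrFun h1 (i, k)) (j, l)
  simp only [kroneckerMap_apply, Matrix.smul_apply, smul_eq_mul] at h2
  have h3 := mul_left_cancel₀ hij h2
  rw [Matrix.smul_apply, smul_eq_mul, mul_comm ε, mul_assoc, ← h3, ← mul_assoc, inv_mul_cancel₀ hc0, one_mul]

/-- An isometry in a tensor stabiliser is a product of similitudes of the factors. -/
theorem exists_similitudes {σ : F ≃+* F} {G : GL ι F} {d m : ℕ} {e : ι ≃ Fin d × Fin m} {B : GL ι F}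
    [Nonempty (Fin d)] [Nonempty (Fin m)]
    {G₁ : GL (Fin d) F} {G₂ : GL (Fin m) F}
    (hA : gramIn σ G e B = (G₁ : Matrix (Fin d) (Fin d) F) ⊗ₖ (G₂ : Matrix (Fin m) (Fin m) F))
    {g : GL ι F} (hg : g ∈ tensorProductSubgroup d m e B)
    (hiso : (g : Matrix ι ι F)ᵀ * (G : Matrix ι ι F) * twist σ (g : Matrix ι ι F) = (G : Matrix ι ι F)) :
    ∃ (a : GL (Fin d) F) (b : GL (Fin m) F) (c : F), c ≠ 0 ∧
      (g : Matrix ι ι F) = framed e B ((a : Matrix (Fin d) (Fin d) F) ⊗ₖ (b : Matrix (Fin m) (Fin m) F)) ∧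
      (a : Matrix (Fin d) (Fin d) F)ᵀ * (G₁ : Matrix (Fin d) (Fin d) F) * twist σ (a : Matrix (Fin d) (Fin d) F) =
        c • (G₁ : Matrix (Fin d) (Fin d) F) ∧
      c • ((b : Matrix (Fin m) (Fin m) F)ᵀ * (G₂ : Matrix (Fin m) (Fin m) F) *
        twist σ (b : Matrix (Fin m) (Fin m) F)) = (G₂ : Matrix (Fin m) (Fin m) F) := by
  obtain ⟨k', ⟨k, ⟨a, b, hab⟩, rfl⟩, rfl⟩ := hg
  refine ⟨a, b, ?_⟩
  have hval : (((MulAut.conj B).toMonoidHom ((glReindex e.symm).toMonoidHom k) : GL ι F) : Matrix ι ι F) =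
      framed e B ((a : Matrix (Fin d) (Fin d) F) ⊗ₖ (b : Matrix (Fin m) (Fin m) F)) := by
    rw [framed_apply, ← hab]
    simp [glReindex, Matrix.reindex_apply]
  have h := gramIn_invariant e B hiso hval
  have etw : twist σ ((a : Matrix (Fin d) (Fin d) F) ⊗ₖ (b : Matrix (Fin m) (Fin m) F)) =
      twist σ (a : Matrix (Fin d) (Fin d) F) ⊗ₖ twist σ (b : Matrix (Fin m) (Fin m) F) := by
    ext ⟨i, k⟩ ⟨j, l⟩; simp
  rw [hA, etw, ← Matrix.kroneckerMap_transpose, ← Matrix.mul_kronecker_mul, ← Matrix.mul_kronecker_mul] at h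
  obtain ⟨c, hc, h1, h2⟩ := kronecker_eq_cases G₁.isUnit.ne_zero G₂.isUnit.ne_zero h
  exact ⟨c, hc, hval, h1, h2⟩

/-! ### Several factors -/

variable {d t : ℕ}

/-- A pure tensor followed by a permutation of the factors. -/
def monoM (π : Equiv.Perm (Fin t)) (gs : Fin t → Matrix (Fin d) (Fin d) F) :
    Matrix (Fin t → Fin d) (Fin t → Fin d) F :=
  Matrix.of fun x y => ∏ i, gs i (x i) (y (π i))

lemma monoM_mul (π π' : Equiv.Perm (Fin t)) (gs gs' : Fin t → Matrix (Fin d) (Fin d) F) :
    monoM π gs * monoM π' gs' = monoM (π.trans π') (fun i => gs i * gs' (π i)) := by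
  ext x z
  simp only [monoM, Matrix.mul_apply, Matrix.of_apply, Equiv.trans_apply, Fintype.prod_sum]
  rw [← Equiv.sum_comp (factorPerm (d := d) π.symm) (fun y => (∏ i, gs i (x i) (y (π i))) * ∏ i, gs' i (y i) (z (π' i)))]
  refine Finset.sum_congr rfl fun y _ => ?_
  rw [← Equiv.prod_comp π (fun i => gs' i _ (z (π' i))), ← Finset.prod_mul_distrib]
  simp [factorPerm]

lemma monoM_one : monoM (Equiv.refl (Fin t)) (1 : Fin t → Matrix (Fin d) (Fin d) F) = 1 :=
  pureTensor_one

lemma monoM_refl (gs : Fin t → Matrix (Fin d) (Fin d) F) : monoM (Equiv.refl _) gs = pureTensor gs := rfl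

/-- Every element of the standard tensor wreath group is a pure tensor times a permutation of the factors. -/
lemma exists_monoM {k : GL (Fin t → Fin d) F} (hk : k ∈ tensorWreathStandard d t F) :
    ∃ (π : Equiv.Perm (Fin t)) (gs : Fin t → GL (Fin d) F),
      (k : Matrix (Fin t → Fin d) (Fin t → Fin d) F) = monoM π (fun i => (gs i : Matrix (Fin d) (Fin d) F)) := by
  classical
  induction hk using Subgroup.closure_induction with
  | mem x hx =>
    rcases hx with ⟨gs, hgs⟩ | ⟨π, hπ⟩
    · exact ⟨Equiv.refl _, gs, Matrix.ext hgs⟩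
    · refine ⟨π.symm, 1, Matrix.ext fun a b => ?_⟩
      rw [hπ]
      show (if b = a ∘ π then (1 : F) else 0) =
        ∏ i, (1 : Matrix (Fin d) (Fin d) F) (a i) (b (π.symm i))
      split_ifs with h
      · subst h
        refine (Finset.prod_eq_one fun i _ => ?_).symm
        rw [Function.comp_apply, Equiv.apply_symm_apply, Matrix.one_apply_eq]
      · obtain ⟨i, hi⟩ := Function.ne_iff.mp h
        refine (Finset.prod_eq_zero (Finset.mem_univ (π i)) ?_).symm
        rw [Matrix.one_apply_ne]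
        simpa [eq_comm] using hi
  | one => exact ⟨Equiv.refl _, 1, monoM_one.symm⟩
  | mul x y _ _ hx hy =>
    obtain ⟨π, gs, hx⟩ := hx
    obtain ⟨π', gs', hy⟩ := hy
    refine ⟨π.trans π', fun i => gs i * gs' (π i), ?_⟩
    rw [Units.val_mul, hx, hy, monoM_mul]
    rfl
  | inv x _ hx =>
    obtain ⟨π, gs, hx⟩ := hx
    refine ⟨π.symm, fun i => (gs (π.symm i))⁻¹, ?_⟩
    refine (eq_comm.mp ?_)
    apply x.isUnit.mul_left_cancel
    rw [Units.mul_inv, hx, monoM_mul, Equiv.self_trans_symm]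
    rw [show (fun i => (gs i : Matrix (Fin d) (Fin d) F) *
      (((gs (π.symm (π i)))⁻¹ : GL (Fin d) F) : Matrix (Fin d) (Fin d) F)) = 1 from funext fun i => by simp]
    exact monoM_one

lemma pureTensor_eq_cases {as bs : Fin t → Matrix (Fin d) (Fin d) F} (hb : ∀ i, bs i ≠ 0)
    (h : pureTensor as = pureTensor bs) : ∀ i, ∃ c : F, c ≠ 0 ∧ as i = c • bs i := by
  classical
  intro i
  have hex : ∀ l, ∃ p q, bs l p q ≠ 0 := fun l => by
    by_contra hh; push Not at hh; exact hb l (Matrix.ext hh)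
  choose p q hpq using hex
  have key : ∀ a b, as i a b * ∏ l ∈ Finset.univ.erase i, as l (p l) (q l) =
      bs i a b * ∏ l ∈ Finset.univ.erase i, bs l (p l) (q l) := by
    intro a b
    have h1 := congrFun (congrFun h (Function.update p i a)) (Function.update q i b)
    simp only [pureTensor, Matrix.of_apply] at h1
    rw [← Finset.mul_prod_erase _ _ (Finset.mem_univ i), ← Finset.mul_prod_erase _ _ (Finset.mem_univ i)] at h1
    have e : ∀ (cs : Fin t → Matrix (Fin d) (Fin d) F), ∏ l ∈ Finset.univ.erase i,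
        cs l (Function.update p i a l) (Function.update q i b l) = ∏ l ∈ Finset.univ.erase i, cs l (p l) (q l) :=
      fun cs => Finset.prod_congr rfl fun l hl => by
        rw [Function.update_of_ne (Finset.mem_erase.mp hl).1, Function.update_of_ne (Finset.mem_erase.mp hl).1]
    rw [e, e, Function.update_self, Function.update_self] at h1
    exact h1
  set P := ∏ l ∈ Finset.univ.erase i, as l (p l) (q l)
  set Q := ∏ l ∈ Finset.univ.erase i, bs l (p l) (q l)
  have hQ : Q ≠ 0 := Finset.prod_ne_zero_iff.mpr fun l _ => hpq l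
  have hP : P ≠ 0 := fun hP => mul_ne_zero (hpq i) hQ (by rw [← key, hP, mul_zero])
  refine ⟨Q / P, div_ne_zero hQ hP, Matrix.ext fun a b => ?_⟩
  rw [Matrix.smul_apply, smul_eq_mul]
  field_simp
  linear_combination key a b

lemma factorM_ne {i j : Fin t} (hij : i ≠ j) (hd : 2 ≤ d) (b : Matrix (Fin d) (Fin d) F) :
    factorM i (Matrix.single ⟨0, by omega⟩ ⟨1, by omega⟩ (1 : F)) ≠ factorM j b := by
  intro h
  set x : Fin t → Fin d := fun _ => ⟨0, by omega⟩
  have h1 := congrFun (congrFun h x) (Function.update x i ⟨1, by omega⟩)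
  rw [factorM_apply, factorM_apply, if_pos (fun l hl => by rw [Function.update_of_ne hl]),
    if_neg (fun hh => by
      have := hh i hij
      rw [Function.update_self] at this
      simp [x, Fin.ext_iff] at this)] at h1
  simp [x] at h1

/-- The Gram matrix in the frame of a tensor induced group is a tensor product of pairwise similar forms. -/
theorem exists_power_gram {σ : F ≃+* F} {G : GL ι F} {ε : F} (hF : IsFormGram σ G ε)
    {H : Subgroup (GL ι F)} (hH : Invariant σ H (G : Matrix ι ι F)) (hd : 2 ≤ d)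
    (e : ι ≃ (Fin t → Fin d)) (B : GL ι F) {M : Fin t → Subgroup (GL ι F)} (hMH : ∀ i, M i ≤ H)
    (hMp : ∀ i, ⁅M i, M i⁆ = M i)
    (hmem : ∀ i X, X ∈ spanAlg (M i) ↔ ∃ a, X = framed e B (factorM i a))
    (htrans : ∀ i j, ∃ h ∈ H, (M i).map (MulAut.conj h).toMonoidHom = M j)
    (hle : H ≤ tensorWreathSubgroup d t e B) :
    ∃ (c : F) (Gs : Fin t → GL (Fin d) F) (cs : Fin t → F), c ≠ 0 ∧
      gramIn σ G e B = c • pureTensor (fun i => (Gs i : Matrix (Fin d) (Fin d) F)) ∧
      (∀ i, cs i * σ (cs i) = 1 ∧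
        twist σ (Gs i : Matrix (Fin d) (Fin d) F)ᵀ = cs i • (Gs i : Matrix (Fin d) (Fin d) F)) ∧
      (∀ i, ∃ Nd : Subgroup (GL (Fin d) F), spanAlg Nd = ⊤ ∧ ⁅Nd, Nd⁆ = Nd ∧
        Invariant σ Nd (Gs i : Matrix (Fin d) (Fin d) F)) ∧
      ∀ i j, ∃ (b : GL (Fin d) F) (u : F), u ≠ 0 ∧
        (b : Matrix (Fin d) (Fin d) F)ᵀ * (Gs i : Matrix (Fin d) (Fin d) F) *
          twist σ (b : Matrix (Fin d) (Fin d) F) = u • (Gs j : Matrix (Fin d) (Fin d) F) := by
  classical
  haveI : Nonempty (Fin d) := ⟨⟨0, by omega⟩⟩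
  have hfadd : ∀ (i : Fin t) (a b : Matrix (Fin d) (Fin d) F), factorM i (a + b) = factorM i a + factorM i b := by
    intro i a b
    ext x y
    simp only [Matrix.add_apply, factorM_apply, add_mul]
  have hfsmul : ∀ (i : Fin t) (c : F) (a : Matrix (Fin d) (Fin d) F), factorM i (c • a) = c • factorM i a := by
    intro i c a
    ext x y
    simp only [Matrix.smul_apply, factorM_apply, smul_eq_mul, mul_assoc]
  have hfone : ∀ i : Fin t, factorM i (1 : Matrix (Fin d) (Fin d) F) = 1 := by
    intro i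
    rw [factorM, show Function.update (1 : Fin t → Matrix (Fin d) (Fin d) F) i 1 = 1 by
      exact Function.update_eq_self i (1 : Fin t → Matrix (Fin d) (Fin d) F), pureTensor_one]
  have hfmul : ∀ (i : Fin t) (a b : Matrix (Fin d) (Fin d) F), factorM i (a * b) = factorM i a * factorM i b := by
    intro i a b
    rw [factorM, factorM, factorM, pureTensor_mul]
    congr 1
    funext l
    rcases eq_or_ne l i with rfl | hl
    · simp
    · simp [Function.update_of_ne hl]
  let φ : Fin t → (Matrix (Fin d) (Fin d) F →* Matrix ι ι F) := fun i =>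
    { toFun := fun a => framed e B (factorM i a)
      map_one' := by rw [hfone, map_one]
      map_mul' := fun a b => by rw [hfmul, map_mul] }
  have hφ : ∀ i, Function.Injective (φ i) := fun i a b h => by
    have h' := (framed e B).injective h
    ext p q
    have h1 := congrFun (congrFun h' (Function.update (fun _ => Classical.arbitrary (Fin d)) i p))
      (Function.update (fun _ => Classical.arbitrary (Fin d)) i q)
    rw [factorM_apply, factorM_apply, if_pos (fun l hl => by simp [Function.update_of_ne hl])] at h1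
    simpa using h1
  have hNd : ∀ i, spanAlg (factorGroup (φ i) (M i)) = ⊤ := fun i => spanAlg_factorGroup (hφ i)
    (fun a b => by show framed e B (factorM i (a + b)) = _; rw [hfadd, map_add]; rfl)
    (fun c a => by show framed e B (factorM i (c • a)) = _; rw [hfsmul, map_smul]; rfl) (hmem i)
  set A := gramIn σ G e B with hA
  obtain ⟨x0, y0, h0⟩ : ∃ x y, A x y ≠ 0 := by
    by_contra h
    push Not at h
    haveI : Nonempty (Fin t → Fin d) := ⟨fun _ => Classical.arbitrary _⟩
    exact (isUnit_gramIn G e B (σ := σ)).ne_zero (Matrix.ext h)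
  let S : Fin t → (Fin t → Fin d) → (Fin t → Fin d) → Matrix (Fin d) (Fin d) F :=
    fun i x y => Matrix.of fun p q => A (Function.update x i p) (Function.update y i q)
  have hleft : ∀ (i : Fin t) (a : Matrix (Fin d) (Fin d) F) (X : Matrix (Fin t → Fin d) (Fin t → Fin d) F)
      (x y : Fin t → Fin d),
      ((factorM i a)ᵀ * X) x y = ∑ p, a p (x i) * X (Function.update x i p) y := by
    intro i a X x y
    rw [Matrix.mul_apply]
    symm
    refine Finset.sum_bij_ne_zero (fun p _ _ => Function.update x i p) (fun _ _ _ => Finset.mem_univ _) ?_ ?_ ?_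
    · intro p _ _ p' _ _ h
      simpa using congrFun h i
    · intro z _ hz
      rw [Matrix.transpose_apply, factorM_apply] at hz
      have hagree : ∀ l, l ≠ i → z l = x l := by
        by_contra hh
        rw [if_neg hh, mul_zero, zero_mul] at hz
        exact hz rfl
      have hz' : Function.update x i (z i) = z := by
        funext l
        rcases eq_or_ne l i with rfl | hl
        · simp
        · rw [Function.update_of_ne hl, hagree l hl]
      rw [if_pos hagree, mul_one] at hz
      exact ⟨z i, Finset.mem_univ _, by rw [hz']; exact hz, hz'⟩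
    · intro p _ _
      rw [Matrix.transpose_apply, factorM_apply, if_pos (fun l hl => by rw [Function.update_of_ne hl]),
        Function.update_self, mul_one]
  have hS : ∀ i x y, Invariant σ (factorGroup (φ i) (M i)) (S i x y) := by
    intro i x y g hg
    have h := gramIn_invariant e B (hH _ (hMH i hg)) (k := factorM i (g : Matrix (Fin d) (Fin d) F)) rfl
    rw [← hA] at h
    ext p q
    have h1 := congrFun (congrFun h (Function.update x i p)) (Function.update y i q)
    rw [mul_assoc, hleft] at h1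
    simp only [Function.update_idem, Function.update_self] at h1
    have h2 : ∀ z, (A * twist σ (factorM i (g : Matrix (Fin d) (Fin d) F))) z (Function.update y i q) =
        ∑ r, A z (Function.update y i r) * σ ((g : Matrix (Fin d) (Fin d) F) r q) := by
      intro z
      have h3 := hleft i ((g : Matrix (Fin d) (Fin d) F).map σ) Aᵀ (Function.update y i q) z
      rw [← Matrix.transpose_apply (A * _), Matrix.transpose_mul]
      have e1 : twist σ (factorM i (g : Matrix (Fin d) (Fin d) F)) =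
          factorM i ((g : Matrix (Fin d) (Fin d) F).map σ) := by
        ext a b
        simp only [Matrix.map_apply, factorM_apply, apply_ite σ, map_mul, map_one, map_zero]
      rw [e1, h3]
      simp [mul_comm]
    simp only [h2] at h1
    rw [Matrix.mul_apply]
    simp only [Matrix.mul_apply, S, Matrix.of_apply, Matrix.transpose_apply, Matrix.map_apply, Finset.sum_mul]
    rw [Finset.sum_comm, ← h1]
    refine Finset.sum_congr rfl fun a _ => ?_
    rw [Finset.mul_sum]
    exact Finset.sum_congr rfl fun b _ => by ring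
  have hS0 : ∀ i, IsUnit (S i x0 y0) := fun i =>
    isUnit_of_invariant_ne_zero (hNd i) (hS i x0 y0) (fun h => h0 (by
      have := congrFun (congrFun h (x0 i)) (y0 i)
      simpa [S] using this))
  choose U hU using hS0
  let Gs : Fin t → GL (Fin d) F := fun i => Units.mk0 (A x0 y0)⁻¹ (inv_ne_zero h0) • U i
  have hGval : ∀ i, (Gs i : Matrix (Fin d) (Fin d) F) = (A x0 y0)⁻¹ • S i x0 y0 := fun i => by
    show (A x0 y0)⁻¹ • (U i : Matrix (Fin d) (Fin d) F) = _
    rw [hU]
  have hG1 : ∀ i, (Gs i : Matrix (Fin d) (Fin d) F) (x0 i) (y0 i) = 1 := fun i => by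
    rw [hGval]
    simp [S, h0]
  have hGinv : ∀ i, Invariant σ (factorGroup (φ i) (M i)) (Gs i : Matrix (Fin d) (Fin d) F) := fun i => by
    rw [hGval]; exact (hS i x0 y0).smul _
  have hsep : ∀ i x y, A x y = (Gs i : Matrix (Fin d) (Fin d) F) (x i) (y i) *
      A (Function.update x i (x0 i)) (Function.update y i (y0 i)) := by
    intro i x y
    obtain ⟨u, hu⟩ := invariant_unique (hNd i) (hGinv i) (hS i x y)
    have h1 := congrFun (congrFun hu (x0 i)) (y0 i)
    have h2 := congrFun (congrFun hu (x i)) (y i)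
    rw [Matrix.smul_apply, hG1, smul_eq_mul, mul_one] at h1
    simp only [S, Matrix.of_apply, Function.update_eq_self, Matrix.smul_apply, smul_eq_mul] at h2
    rw [h2, ← h1]
    simp only [S, Matrix.of_apply]
    ring
  have hfold : ∀ (s : Finset (Fin t)) x y, A x y = (∏ i ∈ s, (Gs i : Matrix (Fin d) (Fin d) F) (x i) (y i)) *
      A (s.piecewise x0 x) (s.piecewise y0 y) := by
    intro s
    induction s using Finset.induction with
    | empty => intro x y; simp
    | insert i s his ih =>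
      intro x y
      rw [ih x y, hsep i (s.piecewise x0 x) (s.piecewise y0 y), Finset.prod_insert his,
        Finset.piecewise_eq_of_notMem _ _ _ his, Finset.piecewise_eq_of_notMem _ _ _ his,
        ← Finset.piecewise_insert, ← Finset.piecewise_insert]
      ring
  have hAeq : A = A x0 y0 • pureTensor (fun i => (Gs i : Matrix (Fin d) (Fin d) F)) := by
    ext x y
    rw [hfold Finset.univ x y, Finset.piecewise_univ, Finset.piecewise_univ, Matrix.smul_apply, smul_eq_mul]
    simp [pureTensor, mul_comm]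
  have hcs : ∀ i, ∃ c, c * σ c = 1 ∧
      twist σ (Gs i : Matrix (Fin d) (Fin d) F)ᵀ = c • (Gs i : Matrix (Fin d) (Fin d) F) := by
    intro i
    obtain ⟨c, hc⟩ := invariant_unique (hNd i) (hGinv i) ((hGinv i).twistTranspose hF.invol)
    refine ⟨c, ?_, hc⟩
    have h := congrArg (fun M => twist σ Mᵀ) hc
    simp only [Matrix.transpose_smul, twist_smul] at h
    have e1 : twist σ (twist σ (Gs i : Matrix (Fin d) (Fin d) F)ᵀ)ᵀ = (Gs i : Matrix (Fin d) (Fin d) F) := by
      ext a b; simp [hF.invol]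
    rw [e1, hc, smul_smul] at h
    have h0 : (σ c * c - 1) • (Gs i : Matrix (Fin d) (Fin d) F) = 0 := by
      rw [sub_smul, one_smul, ← h, sub_self]
    rw [mul_comm]
    exact sub_eq_zero.mp ((smul_eq_zero.mp h0).resolve_right (Gs i).isUnit.ne_zero)
  choose cs hcs1 hcs2 using hcs
  refine ⟨A x0 y0, Gs, cs, h0, hAeq, fun i => ⟨hcs1 i, hcs2 i⟩,
    fun i => ⟨_, hNd i, factorGroup_perfect (hφ i) (fun x hx => (hmem i _).mp (coe_mem_spanAlg hx)) (hMp i),
      hGinv i⟩, fun i j => ?_⟩
  -- transport along an element of the group mapping one factor to another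
  obtain ⟨h, hh, hij⟩ := htrans j i
  obtain ⟨k', ⟨k, hk, hkk⟩, hk'⟩ := hle hh
  subst hkk
  obtain ⟨π, gs, hgs⟩ := exists_monoM hk
  have hval : (h : Matrix ι ι F) = framed e B (monoM π (fun l => (gs l : Matrix (Fin d) (Fin d) F))) := by
    rw [← hk', framed_apply, ← hgs]
    simp [glReindex, Matrix.reindex_apply]
  have hπ : π i = j := by
    by_contra hne
    set a : Matrix (Fin d) (Fin d) F := Matrix.single ⟨0, by omega⟩ ⟨1, by omega⟩ 1
    have h1 : framed e B (factorM j a) ∈ spanAlg (M j) := (hmem j _).mpr ⟨a, rfl⟩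
    have h2 : conjM h (framed e B (factorM j a)) ∈ spanAlg (M i) := by
      rw [← hij, mem_spanAlg_cj, conjM_inv_conjM]
      exact h1
    obtain ⟨b, hb⟩ := (hmem i _).mp h2
    have h3 : (h : Matrix ι ι F) * framed e B (factorM j a) = framed e B (factorM i b) * (h : Matrix ι ι F) := by
      rw [← hb, conjM_apply, mul_assoc, Units.inv_mul, mul_one]
    rw [hval, ← map_mul, ← map_mul] at h3
    have h4 := (framed e B).injective h3
    rw [factorM, factorM, ← monoM_refl, ← monoM_refl, monoM_mul, monoM_mul] at h4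
    have h5 : pureTensor (fun l => (gs l : Matrix (Fin d) (Fin d) F) *
        Function.update (1 : Fin t → Matrix (Fin d) (Fin d) F) j a (π l)) =
      pureTensor (fun l => Function.update (1 : Fin t → Matrix (Fin d) (Fin d) F) i b l *
        (gs l : Matrix (Fin d) (Fin d) F)) := by
      ext x y
      have := congrFun (congrFun h4 x) (y ∘ π.symm)
      simpa [monoM, pureTensor] using this
    have h6 := congrArg (fun X => X * pureTensor (fun l => (((gs l)⁻¹ : GL (Fin d) F) : Matrix (Fin d) (Fin d) F))) h5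
    simp only [pureTensor_mul] at h6
    set l₀ := π.symm j
    have hl₀ : l₀ ≠ i := fun hl => hne (by rw [← hl]; simp [l₀])
    have e1 : (fun l => (gs l : Matrix (Fin d) (Fin d) F) *
        Function.update (1 : Fin t → Matrix (Fin d) (Fin d) F) j a (π l)) *
        (fun l => (((gs l)⁻¹ : GL (Fin d) F) : Matrix (Fin d) (Fin d) F)) =
        Function.update (1 : Fin t → Matrix (Fin d) (Fin d) F) l₀ (conjM (gs l₀) a) := by
      funext l
      rcases eq_or_ne l l₀ with rfl | hl
      · simp [l₀, conjM_apply]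
      · have : π l ≠ j := fun hh => hl (by simp [l₀, ← hh])
        simp [Function.update_of_ne this, Function.update_of_ne hl]
    have e2 : (fun l => Function.update (1 : Fin t → Matrix (Fin d) (Fin d) F) i b l *
        (gs l : Matrix (Fin d) (Fin d) F)) *
        (fun l => (((gs l)⁻¹ : GL (Fin d) F) : Matrix (Fin d) (Fin d) F)) =
        Function.update (1 : Fin t → Matrix (Fin d) (Fin d) F) i b := by
      funext l
      simp [mul_assoc]
    rw [e1, e2] at h6
    let T : GL (Fin t → Fin d) F :=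
      ⟨factorM l₀ (gs l₀ : Matrix (Fin d) (Fin d) F),
        factorM l₀ (((gs l₀)⁻¹ : GL (Fin d) F) : Matrix (Fin d) (Fin d) F),
        by rw [← hfmul, Units.mul_inv, hfone], by rw [← hfmul, Units.inv_mul, hfone]⟩
    have h7 : conjM T (factorM l₀ a) = factorM i b := by
      show factorM l₀ (gs l₀ : Matrix (Fin d) (Fin d) F) * factorM l₀ a *
        factorM l₀ (((gs l₀)⁻¹ : GL (Fin d) F) : Matrix (Fin d) (Fin d) F) = _
      rw [← hfmul, ← hfmul]
      exact h6
    have h8 : conjM T (factorM i b) = factorM i b := by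
      show factorM l₀ (gs l₀ : Matrix (Fin d) (Fin d) F) * factorM i b *
        factorM l₀ (((gs l₀)⁻¹ : GL (Fin d) F) : Matrix (Fin d) (Fin d) F) = _
      rw [factorM, factorM, factorM, pureTensor_mul, pureTensor_mul]
      congr 1
      funext l
      rcases eq_or_ne l l₀ with rfl | hl
      · simp [Function.update_of_ne hl₀]
      · simp [Function.update_of_ne hl]
    exact factorM_ne hl₀ hd b ((conjM T).injective (h7.trans h8.symm))
  have hiso := gramIn_invariant e B (hH h hh) hval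
  rw [← hA, hAeq, Matrix.mul_smul, Matrix.smul_mul] at hiso
  have hiso' := smul_right_injective (Matrix (Fin t → Fin d) (Fin t → Fin d) F) h0 hiso
  have hT : ∀ X : Fin t → Matrix (Fin d) (Fin d) F, (monoM π X)ᵀ = monoM π.symm (fun l => (X (π.symm l))ᵀ) := by
    intro X
    ext x y
    simp only [monoM, Matrix.transpose_apply, Matrix.of_apply]
    rw [← Equiv.prod_comp π.symm (fun l => X l (y l) (x (π l)))]
    simp
  have htw : twist σ (monoM π (fun l => (gs l : Matrix (Fin d) (Fin d) F))) =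
      monoM π (fun l => twist σ (gs l : Matrix (Fin d) (Fin d) F)) := by
    ext x y
    simp [monoM]
  rw [hT, htw, ← monoM_refl, monoM_mul, monoM_mul] at hiso'
  have hiso'' : pureTensor (fun l => (gs (π.symm l) : Matrix (Fin d) (Fin d) F)ᵀ *
      (Gs (π.symm l) : Matrix (Fin d) (Fin d) F) * twist σ (gs (π.symm l) : Matrix (Fin d) (Fin d) F)) =
      pureTensor (fun l => (Gs l : Matrix (Fin d) (Fin d) F)) := by
    rw [← monoM_refl, ← monoM_refl, ← hiso']
    congr 1
    ext l
    simp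
  obtain ⟨u, hu, huj⟩ := pureTensor_eq_cases (fun l => (Gs l).isUnit.ne_zero) hiso'' j
  exact ⟨gs i, u, hu, by rw [← huj, ← hπ]; simp⟩

/-- Changing the frame by a pure tensor does not change the tensor wreath stabiliser. -/
lemma tensorWreath_mul_pure (e : ι ≃ (Fin t → Fin d)) (B : GL ι F) {z : GL (Fin t → Fin d) F}
    (hz : z ∈ tensorWreathStandard d t F) :
    tensorWreathSubgroup d t e (B * glReindex e.symm z) = tensorWreathSubgroup d t e B := by
  set S := (tensorWreathStandard d t F).map (glReindex (F := F) e.symm).toMonoidHom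
  set w := glReindex e.symm z
  have hw : w ∈ S := ⟨z, hz, rfl⟩
  ext g
  show g ∈ S.map (MulAut.conj (B * w)).toMonoidHom ↔ g ∈ S.map (MulAut.conj B).toMonoidHom
  constructor
  · rintro ⟨s, hs, rfl⟩
    exact ⟨w * s * w⁻¹, S.mul_mem (S.mul_mem hw hs) (S.inv_mem hw), by simp [mul_assoc]⟩
  · rintro ⟨s, hs, rfl⟩
    exact ⟨w⁻¹ * s * w, S.mul_mem (S.mul_mem (S.inv_mem hw) hs) hw, by simp [mul_assoc]⟩

/-- Pairwise similar factors give a tensor power structure with the same stabiliser. -/
theorem exists_power_structure {σ : F ≃+* F} {G : GL ι F} {e : ι ≃ (Fin t → Fin d)} {B : GL ι F}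
    {c : F} (hc : c ≠ 0) {Gs : Fin t → GL (Fin d) F}
    (hA : gramIn σ G e B = c • pureTensor (fun i => (Gs i : Matrix (Fin d) (Fin d) F)))
    {G₀ : GL (Fin d) F}
    (hsim : ∀ i, ∃ (b : GL (Fin d) F) (u : F), u ≠ 0 ∧
      (b : Matrix (Fin d) (Fin d) F)ᵀ * (Gs i : Matrix (Fin d) (Fin d) F) *
        twist σ (b : Matrix (Fin d) (Fin d) F) = u • (G₀ : Matrix (Fin d) (Fin d) F)) :
    ∃ P : GL ι F, tensorWreathSubgroup d t e P = tensorWreathSubgroup d t e B ∧
      IsTensorPowerFormStructure (⇑σ) (formM σ (G : Matrix ι ι F)) (formM σ (G₀ : Matrix (Fin d) (Fin d) F)) e P := by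
  classical
  choose b u hu hb using hsim
  let z : GL (Fin t → Fin d) F :=
    ⟨pureTensor (fun i => (b i : Matrix (Fin d) (Fin d) F)),
      pureTensor (fun i => (((b i)⁻¹ : GL (Fin d) F) : Matrix (Fin d) (Fin d) F)),
      by rw [pureTensor_mul, ← pureTensor_one]; congr 1; funext i; simp,
      by rw [pureTensor_mul, ← pureTensor_one]; congr 1; funext i; simp⟩
  have hz : z ∈ tensorWreathStandard d t F := Subgroup.subset_closure (Or.inl ⟨b, fun x y => rfl⟩)
  refine ⟨B * glReindex e.symm z, tensorWreath_mul_pure e B hz,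
    c * ∏ i, u i, mul_ne_zero hc (Finset.prod_ne_zero_iff.mpr fun i _ => hu i), fun x y => ?_⟩
  have hgram : gramIn σ G e (B * glReindex e.symm z) =
      (c * ∏ i, u i) • pureTensor (fun _ : Fin t => (G₀ : Matrix (Fin d) (Fin d) F)) := by
    have h1 : gramIn σ G e (B * glReindex e.symm z) =
        (z : Matrix (Fin t → Fin d) (Fin t → Fin d) F)ᵀ * gramIn σ G e B *
          twist σ (z : Matrix (Fin t → Fin d) (Fin t → Fin d) F) := by
      have hw : ((glReindex e.symm z : GL ι F) : Matrix ι ι F) =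
          (z : Matrix (Fin t → Fin d) (Fin t → Fin d) F).submatrix e e := by
        simp [glReindex, Matrix.reindex_apply]
      have e1 : ((z : Matrix (Fin t → Fin d) (Fin t → Fin d) F).submatrix e e)ᵀ =
          ((z : Matrix (Fin t → Fin d) (Fin t → Fin d) F)ᵀ).submatrix e e := Matrix.transpose_submatrix _ _ _
      have e2 : twist σ ((z : Matrix (Fin t → Fin d) (Fin t → Fin d) F).submatrix e e) =
          (twist σ (z : Matrix (Fin t → Fin d) (Fin t → Fin d) F)).submatrix e e := rfl
      rw [gramIn, gramIn, Units.val_mul, hw, Matrix.transpose_mul, twist_mul, e1, e2]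
      set M := (B : Matrix ι ι F)ᵀ * (G : Matrix ι ι F) * twist σ (B : Matrix ι ι F)
      calc _ = ((z : Matrix (Fin t → Fin d) (Fin t → Fin d) F)ᵀ.submatrix e e * M *
            (twist σ (z : Matrix (Fin t → Fin d) (Fin t → Fin d) F)).submatrix e e).submatrix e.symm e.symm := by
            simp only [M, mul_assoc]
        _ = _ := by
          rw [← Matrix.submatrix_mul_equiv _ _ e.symm e.symm e.symm,
            ← Matrix.submatrix_mul_equiv _ _ e.symm e.symm e.symm]
          simp [Matrix.submatrix_submatrix]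
    rw [h1, hA, Matrix.mul_smul, Matrix.smul_mul, ← smul_smul]
    congr 1
    show (pureTensor (fun i => (b i : Matrix (Fin d) (Fin d) F)))ᵀ * _ *
      twist σ (pureTensor (fun i => (b i : Matrix (Fin d) (Fin d) F))) = _
    have htw : twist σ (pureTensor (fun i => (b i : Matrix (Fin d) (Fin d) F))) =
        pureTensor (fun i => twist σ (b i : Matrix (Fin d) (Fin d) F)) := by
      ext x y; simp [pureTensor]
    rw [htw, pureTensor_transpose, pureTensor_mul, pureTensor_mul, ← pureTensor_smul_family]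
    exact congrArg pureTensor (funext hb)
  rw [formM_frame, hgram, formM_smul, gramMatrix_formM]
  congr 1
  simp [formM, pureTensor, dotProduct, Matrix.mulVec, Finset.mul_sum, mul_assoc]

/-- A Kronecker product Gram matrix gives a tensor structure of the form. -/
lemma tensorFormStructure_of_gram {σ : F ≃+* F} {G : GL ι F} {n₁ n₂ : ℕ} {e : ι ≃ Fin n₁ × Fin n₂}
    {B : GL ι F} {G₁ : Matrix (Fin n₁) (Fin n₁) F} {G₂ : Matrix (Fin n₂) (Fin n₂) F} {c : F} (hc : c ≠ 0)
    (hA : gramIn σ G e B = c • (G₁ ⊗ₖ G₂)) :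
    IsTensorFormStructure (⇑σ) (formM σ (G : Matrix ι ι F)) (formM σ G₁) (formM σ G₂) e B :=
  ⟨c, hc, fun x y => by
    rw [formM_frame, hA, formM_smul, gramMatrix_formM, gramMatrix_formM, formOfGram_eq]⟩

lemma gramIn_swap {σ : F ≃+* F} {G : GL ι F} {n₁ n₂ : ℕ} {e : ι ≃ Fin n₁ × Fin n₂} {B : GL ι F}
    {G₁ : Matrix (Fin n₁) (Fin n₁) F} {G₂ : Matrix (Fin n₂) (Fin n₂) F}
    (hA : gramIn σ G e B = G₁ ⊗ₖ G₂) :
    gramIn σ G (e.trans (Equiv.prodComm _ _)) B = G₂ ⊗ₖ G₁ := by
  ext ⟨k, i⟩ ⟨l, j⟩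
  have h := congrFun (congrFun hA (i, k)) (j, l)
  simp only [gramIn, Matrix.submatrix_apply, kroneckerMap_apply] at h ⊢
  rw [mul_comm, ← h]
  rfl

end Cfsg.Agent.Lib.Aschbacher
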