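/-
Orthonormal bases: symmetric forms in odd dimension are congruent to a multiple of the identity, hermitian forms
to the identity.
-/
import Cfsg.Agent.Lib.Aschbacher.TensorForm
import Cfsg.Agent.Lib.Forms.Families
import Cfsg.Agent.Lib.PlusType.Criterion

set_option autoImplicit false

namespace Cfsg.Agent.Lib.Aschbacher

open Cfsg Cfsg.Geo Matrix

variable {ι : Type} [Fintype ι] [DecidableEq ι] {F : Type*} [Field F]
variable {σ : F ≃+* F} {G : GL ι F}

lemma formM_eq_comm (hF : IsFormGram σ G 1) (u v : ι → F) :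
    σ (formM σ (G : Matrix ι ι F) v u) = formM σ (G : Matrix ι ι F) u v := by
  rw [formM_comm hF, one_mul]

lemma formM_sum_left (s : Finset ι) (c : ι → F) (w : ι → (ι → F)) (v : ι → F) :
    formM σ (G : Matrix ι ι F) (∑ i ∈ s, c i • w i) v = ∑ i ∈ s, c i * formM σ (G : Matrix ι ι F) (w i) v := by
  classical
  induction s using Finset.induction with
  | empty => simp [formM]
  | insert a s ha ih => rw [Finset.sum_insert ha, Finset.sum_insert ha, formM_add_left, formM_smul_left, ih]

lemma formM_sumFin_left {j : ℕ} (c : Fin j → F) (w : Fin j → (ι → F)) (v : ι → F) :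
    formM σ (G : Matrix ι ι F) (∑ i, c i • w i) v = ∑ i, c i * formM σ (G : Matrix ι ι F) (w i) v := by
  classical
  induction j with
  | zero => simp [formM]
  | succ j ih => rw [Fin.sum_univ_succ, Fin.sum_univ_succ, formM_add_left, formM_smul_left, ih]

/-- The complement of an orthonormal family is non-degenerate and has at least the expected dimension. -/
lemma orth_complement (hF : IsFormGram σ G 1) [Nonempty ι] {j : ℕ} (v : Fin j → (ι → F))
    (hv : ∀ a b, formM σ (G : Matrix ι ι F) (v a) (v b) = if a = b then 1 else 0) :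
    ∃ W : Submodule F (ι → F), (∀ w, w ∈ W ↔ ∀ a, formM σ (G : Matrix ι ι F) w (v a) = 0) ∧
      IsNondegenerateOn (formM σ (G : Matrix ι ι F)) W ∧ Fintype.card ι ≤ Module.finrank F W + j := by
  let φ : (ι → F) →ₗ[F] (Fin j → F) :=
    { toFun := fun w a => formM σ (G : Matrix ι ι F) w (v a)
      map_add' := fun x y => funext fun a => formM_add_left ..
      map_smul' := fun c x => funext fun a => formM_smul_left .. }
  have hmem : ∀ w, w ∈ LinearMap.ker φ ↔ ∀ a, formM σ (G : Matrix ι ι F) w (v a) = 0 := fun w => by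
    rw [LinearMap.mem_ker]
    exact ⟨fun h a => congrFun h a, fun h => funext h⟩
  refine ⟨LinearMap.ker φ, hmem, fun w hw hw0 => ?_, ?_⟩
  · have hp : ∀ x, x - ∑ a, formM σ (G : Matrix ι ι F) x (v a) • v a ∈ LinearMap.ker φ ∧
        formM σ (G : Matrix ι ι F) (x - ∑ a, formM σ (G : Matrix ι ι F) x (v a) • v a) w =
          formM σ (G : Matrix ι ι F) x w := by
      intro x
      set p := ∑ a, formM σ (G : Matrix ι ι F) x (v a) • v a with hp
      have hsub : ∀ y, formM σ (G : Matrix ι ι F) (x - p) y =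
          formM σ (G : Matrix ι ι F) x y - formM σ (G : Matrix ι ι F) p y := fun y => by
        have := formM_add_left σ (G : Matrix ι ι F) (x - p) p y
        rw [sub_add_cancel] at this
        linear_combination -this
      constructor
      · rw [hmem]
        intro b
        rw [hsub, hp, formM_sumFin_left]
        simp [hv]
      · rw [hsub, hp, formM_sumFin_left, Finset.sum_eq_zero fun a _ => ?_, sub_zero]
        rw [formM_eq_zero_comm hF ((hmem w).mp hw a), mul_zero]
    obtain ⟨⟨x, hx⟩, -⟩ := nondegenerate_formM σ G w hw0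
    have h1 := hp x
    refine ⟨⟨_, h1.1, by rw [h1.2]; exact hx⟩, ⟨_, h1.1, fun h => hx ?_⟩⟩
    rw [← h1.2]
    exact formM_eq_zero_comm hF h
  · have h1 := φ.finrank_range_add_finrank_ker
    have h2 : Module.finrank F (LinearMap.range φ) ≤ j := (Submodule.finrank_le _).trans (by simp)
    rw [Module.finrank_pi] at h1
    omega

/-- Orthonormal families exist as long as non-degenerate subspaces of the remaining dimension represent one. -/
lemma exists_orth_family (hF : IsFormGram σ G 1) [Nonempty ι] (s : ℕ)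
    (hrep : ∀ W : Submodule F (ι → F), s ≤ Module.finrank F W →
      IsNondegenerateOn (formM σ (G : Matrix ι ι F)) W → ∃ w ∈ W, formM σ (G : Matrix ι ι F) w w = 1) :
    ∀ j : ℕ, j + s ≤ Fintype.card ι + 1 → ∃ v : Fin j → (ι → F),
      ∀ a b, formM σ (G : Matrix ι ι F) (v a) (v b) = if a = b then 1 else 0 := by
  intro j
  induction j with
  | zero => exact fun _ => ⟨fun a => a.elim0, fun a => a.elim0⟩
  | succ j ih =>
    intro hj
    obtain ⟨v, hv⟩ := ih (by omega)
    obtain ⟨W, hW, hnd, hdim⟩ := orth_complement hF v hv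
    obtain ⟨w, hw, hw1⟩ := hrep W (by omega) hnd
    refine ⟨Fin.cons w v, fun a b => ?_⟩
    refine Fin.cases ?_ (fun a' => ?_) a <;> refine Fin.cases ?_ (fun b' => ?_) b
    · simp [hw1]
    · simp only [Fin.cons_zero, Fin.cons_succ, (hW w).mp hw b', (Fin.succ_ne_zero b').symm, if_false]
    · simp only [Fin.cons_zero, Fin.cons_succ, formM_eq_zero_comm hF ((hW w).mp hw a'), Fin.succ_ne_zero,
        if_false]
    · simp only [Fin.cons_succ, hv, Fin.succ_inj]

/-- The matrix with the given columns congruates the form to their Gram matrix. -/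
lemma gram_of_columns (v : ι → (ι → F)) (d : ι → F)
    (hv : ∀ a b, formM σ (G : Matrix ι ι F) (v a) (v b) = if a = b then d a else 0) (hd : ∀ a, d a ≠ 0) :
    ∃ b : GL ι F, (∀ a, (b : Matrix ι ι F) *ᵥ Pi.single a 1 = v a) ∧
      (b : Matrix ι ι F)ᵀ * (G : Matrix ι ι F) * twist σ (b : Matrix ι ι F) = Matrix.diagonal d := by
  set P : Matrix ι ι F := Matrix.of fun i a => v a i with hP
  have hcol : ∀ a, P *ᵥ Pi.single a 1 = v a := fun a => by
    rw [Matrix.mulVec_single_one]; rfl
  have hgram : Pᵀ * (G : Matrix ι ι F) * twist σ P = Matrix.diagonal d := by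
    ext a b
    rw [← formM_single σ (Pᵀ * (G : Matrix ι ι F) * twist σ P) a b, ← formM_mulVec, hcol, hcol, hv,
      Matrix.diagonal_apply]
  have hu : IsUnit P := by
    rw [Matrix.isUnit_iff_isUnit_det, isUnit_iff_ne_zero]
    intro h
    have h1 := congrArg Matrix.det hgram
    rw [Matrix.det_mul, Matrix.det_mul, Matrix.det_transpose, h, zero_mul, zero_mul, Matrix.det_diagonal] at h1
    exact Finset.prod_ne_zero_iff.mpr (fun a _ => hd a) h1.symm
  obtain ⟨b, hb⟩ := hu
  exact ⟨b, fun a => by rw [hb]; exact hcol a, by rw [hb]; exact hgram⟩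

/-- A non-degenerate symmetric form in odd characteristic has anisotropic vectors on non-degenerate subspaces. -/
lemma exists_anisotropic (h2 : (2 : F) ≠ 0) {G : GL ι F} (hF : IsFormGram (RingEquiv.refl F) G 1)
    {W : Submodule F (ι → F)} (hW : W ≠ ⊥) (hnd : IsNondegenerateOn (formM (RingEquiv.refl F) (G : Matrix ι ι F)) W) :
    ∃ w ∈ W, formM (RingEquiv.refl F) (G : Matrix ι ι F) w w ≠ 0 := by
  by_contra h
  push Not at h
  obtain ⟨w, hw, hw0⟩ := W.ne_bot_iff.mp hW
  obtain ⟨⟨x, hx, hxw⟩, -⟩ := hnd w hw hw0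
  apply hxw
  have h1 := h _ (W.add_mem hx hw)
  rw [formM_add_left, formM_add_right, formM_add_right, h x hx, h w hw] at h1
  have h3 := formM_eq_comm hF w x
  rw [RingEquiv.refl_apply] at h3
  exact mul_left_cancel₀ h2 (by linear_combination h1 + h3)

lemma ne_bot_of_finrank_pos {W : Submodule F (ι → F)} (h : 0 < Module.finrank F W) : W ≠ ⊥ := by
  rintro rfl
  rw [finrank_bot] at h
  omega

/-- A non-degenerate plane of a symmetric form over a finite field represents one. -/
lemma symm_represents [Finite F] [Nonempty ι] (h2 : (2 : F) ≠ 0) {G : GL ι F}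
    (hF : IsFormGram (RingEquiv.refl F) G 1) (W : Submodule F (ι → F)) (hdim : 2 ≤ Module.finrank F W)
    (hnd : IsNondegenerateOn (formM (RingEquiv.refl F) (G : Matrix ι ι F)) W) :
    ∃ w ∈ W, formM (RingEquiv.refl F) (G : Matrix ι ι F) w w = 1 := by
  set f := formM (RingEquiv.refl F) (G : Matrix ι ι F) with hf
  obtain ⟨w₁, hw₁, h1⟩ := exists_anisotropic h2 hF (ne_bot_of_finrank_pos (by omega : 0 < Module.finrank F W)) hnd
  let φ : W →ₗ[F] F :=
    { toFun := fun x => f (x : ι → F) w₁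
      map_add' := fun x y => formM_add_left ..
      map_smul' := fun c x => formM_smul_left .. }
  let W' := (LinearMap.ker φ).map W.subtype
  have hW'mem : ∀ y, y ∈ W' ↔ y ∈ W ∧ f y w₁ = 0 := fun y => by
    constructor
    · rintro ⟨z, hz, rfl⟩; exact ⟨z.2, hz⟩
    · rintro ⟨hy, hy'⟩; exact ⟨⟨y, hy⟩, hy', rfl⟩
  have hW'0 : W' ≠ ⊥ := by
    apply ne_bot_of_finrank_pos
    have h := φ.finrank_range_add_finrank_ker
    have hle : Module.finrank F (LinearMap.range φ) ≤ 1 := (Submodule.finrank_le _).trans (by simp)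
    rw [show Module.finrank F W' = Module.finrank F (LinearMap.ker φ) from
      (Submodule.equivMapOfInjective _ W.injective_subtype _).finrank_eq.symm]
    omega
  have hnd' : IsNondegenerateOn f W' := by
    intro y hy hy0
    obtain ⟨hyW, hyw⟩ := (hW'mem y).mp hy
    obtain ⟨⟨x, hx, hxy⟩, -⟩ := hnd y hyW hy0
    set c := f x w₁ / f w₁ w₁
    have hw1y : f w₁ y = 0 := formM_eq_zero_comm hF hyw
    have hmem : x - c • w₁ ∈ W' := (hW'mem _).mpr ⟨W.sub_mem hx (W.smul_mem c hw₁), by
      rw [sub_eq_add_neg, ← neg_smul, hf, formM_add_left, formM_smul_left, ← hf, neg_mul,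
        div_mul_cancel₀ _ h1, add_neg_cancel]⟩
    have hval : f (x - c • w₁) y = f x y := by
      rw [sub_eq_add_neg, ← neg_smul, hf, formM_add_left, formM_smul_left, ← hf, hw1y, mul_zero, add_zero]
    exact ⟨⟨_, hmem, by rw [hval]; exact hxy⟩,
      ⟨_, hmem, fun h => hxy (by rw [← hval]; exact formM_eq_zero_comm hF h)⟩⟩
  obtain ⟨w₂, hw₂', h3⟩ := exists_anisotropic h2 hF hW'0 hnd'
  obtain ⟨hw₂, h21⟩ := (hW'mem _).mp hw₂'
  obtain ⟨a, b, hab⟩ := Cfsg.Agent.Lib.PlusType.exists_sum_eq h2 h1 h3 1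
  refine ⟨a • w₁ + b • w₂, W.add_mem (W.smul_mem a hw₁) (W.smul_mem b hw₂), ?_⟩
  have h12 : f w₁ w₂ = 0 := formM_eq_zero_comm hF h21
  rw [hf, formM_add_left, formM_add_right, formM_add_right, formM_smul_left, formM_smul_left, formM_smul_left,
    formM_smul_left, formM_smul_right, formM_smul_right, formM_smul_right, formM_smul_right, ← hf,
    RingEquiv.refl_apply, RingEquiv.refl_apply, h12, h21]
  linear_combination hab

/-- A symmetric form in odd dimension is congruent to a multiple of the identity. -/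
theorem exists_congr_scalar [Fintype F] (hodd : Odd (Fintype.card F)) {d : ℕ} (hd : Odd d)
    (A : GL (Fin d) F) (hA : (A : Matrix (Fin d) (Fin d) F)ᵀ = (A : Matrix (Fin d) (Fin d) F)) :
    ∃ (b : GL (Fin d) F) (u : F), u ≠ 0 ∧
      (b : Matrix (Fin d) (Fin d) F)ᵀ * (A : Matrix (Fin d) (Fin d) F) * (b : Matrix (Fin d) (Fin d) F) =
        u • (1 : Matrix (Fin d) (Fin d) F) := by
  have h2 := two_ne_zero_of_odd hodd
  obtain ⟨k, rfl⟩ := hd
  haveI : Nonempty (Fin (2 * k + 1)) := ⟨0⟩
  set δ := (A : Matrix (Fin (2 * k + 1)) (Fin (2 * k + 1)) F).det with hδdef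
  have hδ : δ ≠ 0 := ((Matrix.isUnit_iff_isUnit_det _).mp A.isUnit).ne_zero
  set G : GL (Fin (2 * k + 1)) F := Units.mk0 δ hδ • A with hG
  have hGval : (G : Matrix (Fin (2 * k + 1)) (Fin (2 * k + 1)) F) = δ • (A : Matrix (Fin (2 * k + 1)) (Fin (2 * k + 1)) F) := rfl
  have hF : IsFormGram (RingEquiv.refl F) G 1 :=
    ⟨fun _ => rfl, by rw [twist_refl, one_smul, hGval, Matrix.transpose_smul, hA]⟩
  obtain ⟨v, hv⟩ := exists_orth_family hF 2 (symm_represents h2 hF) (2 * k) (by simp)
  obtain ⟨W, hW, hnd, hdim⟩ := orth_complement hF v hv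
  rw [Fintype.card_fin] at hdim
  obtain ⟨w, hw, hw0⟩ := exists_anisotropic h2 hF (ne_bot_of_finrank_pos (by omega : 0 < Module.finrank F W)) hnd
  set x := formM (RingEquiv.refl F) (G : Matrix (Fin (2 * k + 1)) (Fin (2 * k + 1)) F) w w
  let col : Fin (2 * k + 1) → (Fin (2 * k + 1) → F) := Fin.cons w v
  let dd : Fin (2 * k + 1) → F := Fin.cons x (fun _ => 1)
  obtain ⟨P, -, hP⟩ := gram_of_columns (G := G) (σ := RingEquiv.refl F) col dd (fun a b => by
      refine Fin.cases ?_ (fun a' => ?_) a <;> refine Fin.cases ?_ (fun b' => ?_) b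
      · simp [col, dd, x]
      · simp only [col, Fin.cons_zero, Fin.cons_succ, (hW w).mp hw b', (Fin.succ_ne_zero b').symm, if_false]
      · simp only [col, Fin.cons_zero, Fin.cons_succ, formM_eq_zero_comm hF ((hW w).mp hw a'),
          Fin.succ_ne_zero, if_false]
      · simp only [col, dd, Fin.cons_succ, hv, Fin.succ_inj]) (fun a => by
      refine Fin.cases ?_ (fun a' => ?_) a
      · simpa [dd] using hw0
      · simp [dd])
  rw [twist_refl] at hP
  set s := (P : Matrix (Fin (2 * k + 1)) (Fin (2 * k + 1)) F).det * δ ^ (k + 1) with hs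
  have hx : x = s ^ 2 := by
    have h1 := congrArg Matrix.det hP
    rw [Matrix.det_mul, Matrix.det_mul, Matrix.det_transpose, Matrix.det_diagonal, Fin.prod_univ_succ, hGval,
      Matrix.det_smul, Fintype.card_fin, ← hδdef] at h1
    simp only [dd, Fin.cons_zero, Fin.cons_succ, Finset.prod_const_one, mul_one] at h1
    rw [← h1, hs]
    ring
  have hs0 : s ≠ 0 := fun h => hw0 (show x = 0 by rw [hx, h]; ring)
  let e : Fin (2 * k + 1) → F := Fin.cons s⁻¹ (fun _ => 1)
  obtain ⟨E, hE⟩ : IsUnit (Matrix.diagonal e) := by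
    rw [Matrix.isUnit_diagonal, Pi.isUnit_iff]
    intro a
    refine Fin.cases ?_ (fun a' => ?_) a
    · simp [e, hs0]
    · simp [e]
  refine ⟨P * E, δ⁻¹, inv_ne_zero hδ, ?_⟩
  have hA' : (A : Matrix (Fin (2 * k + 1)) (Fin (2 * k + 1)) F) = δ⁻¹ • (G : Matrix (Fin (2 * k + 1)) (Fin (2 * k + 1)) F) := by
    rw [hGval, smul_smul, inv_mul_cancel₀ hδ, one_smul]
  rw [Units.val_mul, hE, Matrix.transpose_mul, Matrix.diagonal_transpose, hA', Matrix.mul_smul, Matrix.smul_mul]
  congr 1
  rw [show Matrix.diagonal e * (P : Matrix (Fin (2 * k + 1)) (Fin (2 * k + 1)) F)ᵀ * (G : Matrix (Fin (2 * k + 1)) (Fin (2 * k + 1)) F) * ((P : Matrix (Fin (2 * k + 1)) (Fin (2 * k + 1)) F) * Matrix.diagonal e) =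
    Matrix.diagonal e * ((P : Matrix (Fin (2 * k + 1)) (Fin (2 * k + 1)) F)ᵀ * (G : Matrix (Fin (2 * k + 1)) (Fin (2 * k + 1)) F) * (P : Matrix (Fin (2 * k + 1)) (Fin (2 * k + 1)) F)) * Matrix.diagonal e by
      simp only [mul_assoc], hP, Matrix.diagonal_mul_diagonal, Matrix.diagonal_mul_diagonal, ← Matrix.diagonal_one]
  congr 1
  funext a
  refine Fin.cases ?_ (fun a' => ?_) a
  · simp only [e, dd, Fin.cons_zero, hx]
    field_simp
  · simp [e, dd]

/-- A hermitian form over a finite field is congruent to the identity. -/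
theorem exists_congr_one [Finite F] {d : ℕ} {σ : F ≃+* F} (hne : σ ≠ RingEquiv.refl F)
    (A : GL (Fin d) F) (hF : IsFormGram σ A 1) :
    ∃ b : GL (Fin d) F,
      (b : Matrix (Fin d) (Fin d) F)ᵀ * (A : Matrix (Fin d) (Fin d) F) * twist σ (b : Matrix (Fin d) (Fin d) F) =
        1 := by
  rcases Nat.eq_zero_or_pos d with rfl | hd
  · exact ⟨1, Subsingleton.elim _ _⟩
  haveI : Nonempty (Fin d) := ⟨⟨0, hd⟩⟩
  set f := formM σ (A : Matrix (Fin d) (Fin d) F) with hf
  have hrep : ∀ W : Submodule F (Fin d → F), 1 ≤ Module.finrank F W → IsNondegenerateOn f W →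
      ∃ w ∈ W, f w w = 1 := by
    intro W hW hnd
    obtain ⟨w, hw, hw0⟩ : ∃ w ∈ W, f w w ≠ 0 := by
      by_contra h
      push Not at h
      obtain ⟨w, hw, hw0⟩ := W.ne_bot_iff.mp (ne_bot_of_finrank_pos (W := W) hW)
      obtain ⟨⟨x, hx, hxw⟩, -⟩ := hnd w hw hw0
      apply hxw
      by_contra hne0
      apply hne
      ext a
      have key : ∀ z ∈ W, f x z + σ (f x z) = 0 := fun z hz => by
        have h1 := h _ (W.add_mem hx hz)
        rw [hf, formM_add_left, formM_add_right, formM_add_right, ← hf, h x hx, h z hz] at h1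
        rw [hf, formM_eq_comm hF, ← hf]
        linear_combination h1
      have k1 := key w hw
      have k2 := key (σ a • w) (W.smul_mem _ hw)
      rw [hf, formM_smul_right, ← hf, hF.invol, map_mul] at k2
      rw [RingEquiv.refl_apply]
      refine mul_right_cancel₀ hne0 ?_
      linear_combination σ a * k1 - k2
    have hfix : σ (f w w)⁻¹ = (f w w)⁻¹ := by rw [map_inv₀, hf, formM_eq_comm hF]
    obtain ⟨a, ha⟩ := Cfsg.Agent.Lib.Forms.exists_norm_eq (σ := (σ : F →+* F))
      (fun h => hne (RingEquiv.ext fun z => RingHom.congr_fun h z)) hF.invol hfix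
    refine ⟨a • w, W.smul_mem a hw, ?_⟩
    have ha' : a * σ a = (f w w)⁻¹ := ha
    rw [hf, formM_smul_left, formM_smul_right, ← hf, ← mul_assoc, ha', inv_mul_cancel₀ hw0]
  obtain ⟨v, hv⟩ := exists_orth_family hF 1 hrep d (by simp)
  obtain ⟨b, -, hb⟩ := gram_of_columns (σ := σ) (G := A) v (fun _ => 1) hv (fun _ => one_ne_zero)
  exact ⟨b, by rw [hb, Matrix.diagonal_one]⟩

end Cfsg.Agent.Lib.Aschbacher
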