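/-
Further tools for the classical cases of Aschbacher's theorem: groups fixing two forms of different kinds,
perfect groups in small dimension, frames and vectors, self-adjoint commutative algebras.
-/
import Cfsg.Agent.Lib.Aschbacher.TensorForm
import Cfsg.Agent.Lib.Burnside.Paqb
import Cfsg.Agent.Lib.LinClasses.SympBasis

set_option autoImplicit false

namespace Cfsg.Agent.Lib.Aschbacher

open Cfsg Cfsg.Geo Matrix

variable {ι : Type} [Fintype ι] [DecidableEq ι] {F : Type*} [Field F]

/-- A spanning group fixing a bilinear and a sesquilinear form is realisable over a proper subfield. -/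
theorem realisable_of_two_forms [Finite F] [Nonempty ι] {N : Subgroup (GL ι F)} (hN : spanAlg N = ⊤)
    {G : GL ι F} (hG : Invariant (RingEquiv.refl F) N (G : Matrix ι ι F)) {σ : F ≃+* F}
    (hne : σ ≠ RingEquiv.refl F) (hσ : ∀ a, σ (σ a) = a) {G' : GL ι F}
    (hG' : Invariant σ N (G' : Matrix ι ι F)) :
    ∃ F₀ : Subfield F, F₀ ≠ ⊤ ∧ RealisableOver F₀ (matrixSet N) := by
  classical
  set F₀ := (σ : F →+* F).eqLocusField (RingHom.id F)
  have hmem : ∀ a, a ∈ F₀ ↔ σ a = a := fun a => Iff.rfl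
  obtain ⟨y, hy⟩ : ∃ y, σ y ≠ y := by
    by_contra h
    push Not at h
    exact hne (RingEquiv.ext h)
  have htop : F₀ ≠ ⊤ := fun h => hy ((hmem y).mp (by rw [h]; trivial))
  obtain ⟨τ, hτ⟩ := exists_frobenius F₀
  have hfix : ∀ a, σ a = a → τ a = a := fun a ha => by
    rw [hτ, ← mem_subfield_iff, hmem, ha]
  have hτσ : ∀ x, τ x = σ x := by
    intro x
    have hs : σ (x + σ x) = x + σ x := by rw [map_add, hσ, add_comm]
    have hp : σ (x * σ x) = x * σ x := by rw [map_mul, hσ, mul_comm]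
    have h1 := hfix _ hs
    have h2 := hfix _ hp
    rw [map_add] at h1
    rw [map_mul] at h2
    have h3 : (τ x - x) * (τ x - σ x) = 0 := by linear_combination (τ x) * h1 - h2
    rcases mul_eq_zero.mp h3 with h | h
    · have hx : x ∈ F₀ := by
        rw [mem_subfield_iff, ← hτ]
        exact sub_eq_zero.mp h
      rw [sub_eq_zero.mp h, (hmem x).mp hx]
    · exact sub_eq_zero.mp h
  refine ⟨F₀, htop, realisable_of_twist_conj hN F₀ (σ := σ) (fun x => by rw [← hτσ, hτ])
    (C := G'⁻¹ * G) fun x hx => ?_⟩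
  have h1 := hG x hx
  rw [twist_refl] at h1
  have h2 := hG' x hx
  have e1 : ((x⁻¹ : GL ι F) : Matrix ι ι F)ᵀ * (G : Matrix ι ι F) =
      (G : Matrix ι ι F) * (x : Matrix ι ι F) := by
    conv_lhs => rw [← h1]
    rw [← mul_assoc, ← mul_assoc, ← Matrix.transpose_mul, Units.mul_inv, Matrix.transpose_one, one_mul]
  have e2 : ((x⁻¹ : GL ι F) : Matrix ι ι F)ᵀ * (G' : Matrix ι ι F) =
      (G' : Matrix ι ι F) * twist σ (x : Matrix ι ι F) := by
    conv_lhs => rw [← h2]
    rw [← mul_assoc, ← mul_assoc, ← Matrix.transpose_mul, Units.mul_inv, Matrix.transpose_one, one_mul]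
  have e3 : ((x⁻¹ : GL ι F) : Matrix ι ι F)ᵀ =
      (G : Matrix ι ι F) * (x : Matrix ι ι F) * ((G⁻¹ : GL ι F) : Matrix ι ι F) := by
    rw [← e1, mul_assoc, Units.mul_inv, mul_one]
  rw [conjM_apply, _root_.mul_inv_rev, inv_inv, Units.val_mul, Units.val_mul]
  calc twist σ (x : Matrix ι ι F)
      = ((G'⁻¹ : GL ι F) : Matrix ι ι F) * ((G' : Matrix ι ι F) * twist σ (x : Matrix ι ι F)) := by
        rw [← mul_assoc, Units.inv_mul, one_mul]
    _ = _ := by rw [← e2, e3]; simp only [mul_assoc]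

/-- Perfect groups of invertible `2 × 2` matrices over the field of three elements are trivial. -/
theorem eq_bot_of_perfect_two_three [Fintype F] (hF : Fintype.card F = 3) {N : Subgroup (GL (Fin 2) F)}
    (hN : ⁅N, N⁆ = N) : N = ⊥ := by
  haveI : Fact (Nat.Prime 2) := ⟨Nat.prime_two⟩
  have hcard : Nat.card (GL (Fin 2) F) = 2 ^ 4 * 3 ^ 1 := by
    rw [Matrix.card_GL_field, hF]
    simp [Fin.prod_univ_two]
  haveI : Group.IsSolvable (GL (Fin 2) F) :=
    Cfsg.Agent.Lib.Burnside.isSolvable_of_card_eq_prime_pow_mul Nat.prime_two Nat.prime_three hcard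
  by_contra hne
  exact absurd hN (Group.IsSolvable.commutator_lt_of_ne_bot hne).ne

lemma frame_mulVec {κ : Type} [Fintype κ] [DecidableEq κ] (e : ι ≃ κ) (B : GL ι F) (k : Matrix κ κ F)
    (v : ι → F) :
    (((B⁻¹ : GL ι F) : Matrix ι ι F) *ᵥ (framed e B k *ᵥ v)) ∘ e.symm =
      k *ᵥ ((((B⁻¹ : GL ι F) : Matrix ι ι F) *ᵥ v) ∘ e.symm) := by
  rw [framed_apply, Matrix.mulVec_mulVec, ← mul_assoc, ← mul_assoc, Units.inv_mul, one_mul,
    ← Matrix.mulVec_mulVec]
  generalize ((B⁻¹ : GL ι F) : Matrix ι ι F) *ᵥ v = w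
  funext a
  simp only [Function.comp_apply, Matrix.mulVec, dotProduct, Matrix.submatrix_apply, Equiv.apply_symm_apply]
  rw [← Equiv.sum_comp e (fun x => k a x * w (e.symm x))]
  simp

/-- The quadratic form obtained in a frame from a matrix `U` with `U + Uᵀ` the Gram matrix. -/
theorem exists_quad_of_upper {κ : Type} [Fintype κ] [DecidableEq κ] {G : GL ι F} {e : ι ≃ κ} {B : GL ι F}
    {U : Matrix κ κ F} (hU : U + Uᵀ = gramIn (RingEquiv.refl F) G e B) {H : Subgroup (GL ι F)}
    (hH : Invariant (RingEquiv.refl F) H (G : Matrix ι ι F))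
    (hbas : ∀ g ∈ H, ∀ a, quadM U ((inFrame e B g : Matrix κ κ F) *ᵥ Pi.single a 1) =
      quadM U (Pi.single a 1)) :
    ∃ Q : (ι → F) → F, IsNondegenerateQuadraticForm Q ∧
      (∀ u v, QuadraticMap.polar Q u v = formM (RingEquiv.refl F) (G : Matrix ι ι F) u v) ∧
      ∀ g ∈ H, ∀ v, Q ((g : Matrix ι ι F) *ᵥ v) = Q v := by
  classical
  let Φ : (ι → F) → (κ → F) := fun v => (((B⁻¹ : GL ι F) : Matrix ι ι F) *ᵥ v) ∘ e.symm
  have hΦadd : ∀ u v, Φ (u + v) = Φ u + Φ v := fun u v => by
    funext a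
    simp [Φ, Matrix.mulVec_add]
  have hΦsmul : ∀ (c : F) v, Φ (c • v) = c • Φ v := fun c v => by
    funext a
    simp [Φ, Matrix.mulVec_smul]
  let Q : (ι → F) → F := fun v => quadM U (Φ v)
  have hback : ∀ v, v = (B : Matrix ι ι F) *ᵥ (Φ v ∘ e) := fun v => by
    have : Φ v ∘ e = ((B⁻¹ : GL ι F) : Matrix ι ι F) *ᵥ v := by funext i; simp [Φ]
    rw [this, Matrix.mulVec_mulVec, Units.mul_inv, Matrix.one_mulVec]
  have hpol : ∀ u v, QuadraticMap.polar Q u v = formM (RingEquiv.refl F) (G : Matrix ι ι F) u v := by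
    intro u v
    conv_rhs => rw [hback u, hback v, formM_frame, ← hU, ← polar_quadM_add]
    simp only [QuadraticMap.polar, Q, hΦadd]
  have hfun : QuadraticMap.polar Q = formM (RingEquiv.refl F) (G : Matrix ι ι F) := funext fun u =>
    funext fun v => hpol u v
  refine ⟨Q, ⟨fun c v => by simp only [Q, hΦsmul, quadM_smul], ?_, ?_⟩, hpol, fun g hg v => ?_⟩
  · rw [hfun]; exact isBilinearForm_formM _
  · rw [hfun]; exact nondegenerate_formM _ G
  · have hkf : (g : Matrix ι ι F) = framed e B (inFrame e B g : Matrix κ κ F) := (framed_inFrame e B g).symm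
    show quadM U (Φ _) = quadM U (Φ v)
    simp only [Φ]
    rw [hkf, frame_mulVec]
    refine quad_eq_of_basis (quadM_smul U) (fun a b => ?_) (hbas g hg) _
    rw [polar_quadM_add, polar_quadM_add, formM_mulVec, hU, gramIn_invariant e B (hH g hg) hkf]

/-- A non-zero self-adjoint idempotent for an alternating form has rank at least two. -/
lemma exists_pair_of_idem {G : GL ι F}
    (halt : ∀ v, formM (RingEquiv.refl F) (G : Matrix ι ι F) v v = 0) {a : Matrix ι ι F}
    (ha : a * a = a) (hadj : adjM (RingEquiv.refl F) G a = a) (ha0 : a ≠ 0) :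
    ∃ u v, a *ᵥ u = u ∧ a *ᵥ v = v ∧ formM (RingEquiv.refl F) (G : Matrix ι ι F) u v = 1 := by
  obtain ⟨x, hx⟩ : ∃ x, a *ᵥ x ≠ 0 := by
    by_contra h
    push Not at h
    exact ha0 (Matrix.toLin'.injective (LinearMap.ext fun x => by simpa using h x))
  obtain ⟨-, ⟨y, hy⟩⟩ := nondegenerate_formM (RingEquiv.refl F) G _ hx
  have h2 : formM (RingEquiv.refl F) (G : Matrix ι ι F) (a *ᵥ x) (a *ᵥ y) =
      formM (RingEquiv.refl F) (G : Matrix ι ι F) (a *ᵥ x) y := by
    conv_lhs => rw [← hadj, ← formM_adjM (fun _ => rfl), Matrix.mulVec_mulVec, hadj, ha]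
  set c := formM (RingEquiv.refl F) (G : Matrix ι ι F) (a *ᵥ x) y
  refine ⟨a *ᵥ x, c⁻¹ • (a *ᵥ y), by rw [Matrix.mulVec_mulVec, ha],
    by rw [Matrix.mulVec_smul, Matrix.mulVec_mulVec, ha], ?_⟩
  rw [formM_smul_right, RingEquiv.refl_apply, h2, inv_mul_cancel₀ hy]

/-- A commutative self-adjoint algebra over the prime field all of whose elements are `p`-th powers of
themselves has dimension at most half the degree, for an alternating form. -/
theorem two_mul_finrank_le [Fintype F] [Nonempty ι] {G : GL ι F}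
    (hskew : (G : Matrix ι ι F)ᵀ = -(G : Matrix ι ι F))
    (halt : ∀ v, formM (RingEquiv.refl F) (G : Matrix ι ι F) v v = 0)
    {A : Subalgebra F (Matrix ι ι F)} (hcomm : ∀ x ∈ A, ∀ y ∈ A, x * y = y * x)
    (hadj : ∀ x ∈ A, adjM (RingEquiv.refl F) G x = x)
    (hpow : ∀ x ∈ A, x ^ Fintype.card F = x) :
    2 * Module.finrank F A ≤ Fintype.card ι := by
  classical
  letI : CommRing ↥A := { (inferInstance : Ring ↥A) with
    mul_comm := fun x y => Subtype.ext (hcomm x x.2 y y.2) }
  haveI : Finite ↥A := Module.finite_of_finite F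
  haveI : IsReduced ↥A := by
    refine ⟨fun x hx => ?_⟩
    obtain ⟨k, hk⟩ := hx
    have hq : x ^ Fintype.card F = x := Subtype.ext (by simpa using hpow x x.2)
    have hall : ∀ j, x ^ (Fintype.card F ^ j) = x := by
      intro j
      induction j with
      | zero => rw [pow_zero, pow_one]
      | succ j ih => rw [pow_succ, pow_mul, ih, hq]
    have hle : k ≤ Fintype.card F ^ k := (Nat.lt_pow_self Fintype.one_lt_card).le
    rw [← hall k, ← Nat.sub_add_cancel hle, pow_add, hk, mul_zero]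
  let E := (IsArtinianRing.equivPi ↥A).toRingEquiv
  haveI : Fintype (MaximalSpectrum ↥A) := Fintype.ofFinite _
  set s := Fintype.card (MaximalSpectrum ↥A) with hs
  -- the dimension is at most the number of factors
  have hdim : Module.finrank F ↥A ≤ s := by
    have hfac : ∀ I : MaximalSpectrum ↥A, Nat.card (↥A ⧸ I.asIdeal) ≤ Fintype.card F := by
      intro I
      haveI := I.isMaximal
      letI : Field (↥A ⧸ I.asIdeal) := Ideal.Quotient.field _
      have huniv : ∀ z : ↥A ⧸ I.asIdeal, z ^ Fintype.card F = z := by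
        intro z
        obtain ⟨w, rfl⟩ := Ideal.Quotient.mk_surjective z
        rw [← map_pow]
        congr 1
        exact Subtype.ext (by simpa using hpow w w.2)
      have h1 := ncard_pow_eq_self_le (L := ↥A ⧸ I.asIdeal) (Fintype.one_lt_card (α := F))
      rwa [Set.eq_univ_of_forall (s := {x : ↥A ⧸ I.asIdeal | x ^ Fintype.card F = x}) huniv,
        Set.ncard_univ] at h1
    have h2 : Nat.card ↥A ≤ Fintype.card F ^ s := by
      rw [Nat.card_congr E.toEquiv, Nat.card_pi]
      exact (Finset.prod_le_prod' fun I _ => hfac I).trans (by simp [hs])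
    rw [Module.natCard_eq_pow_finrank (K := F), Nat.card_eq_fintype_card] at h2
    exact (Nat.pow_le_pow_iff_right Fintype.one_lt_card).mp h2
  -- each factor supports a hyperbolic pair
  let ψ : Fin s ≃ MaximalSpectrum ↥A := (Fintype.equivFin _).symm
  let ε : Fin s → Matrix ι ι F := fun i => ((E.symm (Pi.single (ψ i) 1) : ↥A) : Matrix ι ι F)
  have hidem : ∀ i, ε i * ε i = ε i := fun i => by
    show ((E.symm _ * E.symm _ : ↥A) : Matrix ι ι F) = _
    rw [← map_mul, ← Pi.single_mul, one_mul]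
  have horth : ∀ i j, i ≠ j → ε i * ε j = 0 := fun i j hij => by
    show ((E.symm _ * E.symm _ : ↥A) : Matrix ι ι F) = _
    have h0 : (Pi.single (ψ i) 1 : Π I : MaximalSpectrum ↥A, ↥A ⧸ I.asIdeal) * Pi.single (ψ j) 1 = 0 := by
      funext l
      rcases eq_or_ne l (ψ i) with rfl | hl
      · simp [Pi.single_eq_of_ne (show ψ i ≠ ψ j from fun h => hij (ψ.injective h))]
      · simp [Pi.single_eq_of_ne hl]
    rw [← map_mul, h0, map_zero]
    rfl
  have hne : ∀ i, ε i ≠ 0 := fun i h => by
    have h' : E.symm (Pi.single (ψ i) 1) = 0 := Subtype.ext h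
    rw [map_eq_zero_iff _ E.symm.injective, Pi.single_eq_zero_iff] at h'
    haveI := (ψ i).isMaximal
    haveI : Nontrivial (↥A ⧸ (ψ i).asIdeal) := Ideal.Quotient.nontrivial_iff.mpr (ψ i).isMaximal.ne_top
    exact one_ne_zero h'
  choose u v hu hv huv using fun i =>
    exists_pair_of_idem halt (hidem i) (hadj _ (E.symm (Pi.single (ψ i) 1) : ↥A).2) (hne i)
  have hz : ∀ i j, i ≠ j → ∀ x y, ε i *ᵥ x = x → ε j *ᵥ y = y →
      formM (RingEquiv.refl F) (G : Matrix ι ι F) x y = 0 := by
    intro i j hij x y hx hy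
    rw [← hx, formM_adjM (fun _ => rfl), hadj (ε i) (E.symm (Pi.single (ψ i) 1) : ↥A).2, ← hy,
      Matrix.mulVec_mulVec, horth i j hij, Matrix.zero_mulVec]
    exact formM_zero_right _
  have hsf : IsSymplecticForm (formM (RingEquiv.refl F) (G : Matrix ι ι F)) :=
    isSymplecticForm_formM G hskew halt
  have hfam : Cfsg.Agent.Lib.LinClasses.IsSympFamily (formM (RingEquiv.refl F) (G : Matrix ι ι F))
      (fun p : Fin 2 × Fin s => if p.1 = 0 then u p.2 else v p.2) := by
    rintro ⟨a, i⟩ ⟨b, j⟩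
    simp only
    rcases eq_or_ne i j with rfl | hij
    · rw [if_pos rfl]
      fin_cases a <;> fin_cases b
      · simp [halt]
      · simp [huv]
      · simp [hsf.skew (v i) (u i), huv]
      · simp [halt]
    · rw [if_neg hij]
      apply hz i j hij
      · split_ifs
        · exact hu i
        · exact hv i
      · split_ifs
        · exact hu j
        · exact hv j
  have hli := (Cfsg.Agent.Lib.LinClasses.sympFamily_linearIndependent hsf hfam).fintype_card_le_finrank
  rw [Fintype.card_prod, Fintype.card_fin, Fintype.card_fin, Module.finrank_pi] at hli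
  omega

lemma finrank_of_two_members {k : ℕ} {D : Fin 2 → Submodule F (ι → F)} (hD : IsMDecomposition k D) :
    2 * k = Fintype.card ι := by
  have hdis : Disjoint (D 0) (D 1) := hD.indep.pairwiseDisjoint (by decide)
  have hsup : D 0 ⊔ D 1 = ⊤ := by
    rw [← hD.iSup_eq_top]
    refine le_antisymm (sup_le (le_iSup D 0) (le_iSup D 1)) (iSup_le fun i => ?_)
    fin_cases i
    · exact le_sup_left
    · exact le_sup_right
  have h := Submodule.finrank_sup_add_finrank_inf_eq (D 0) (D 1)
  rw [hsup, hdis.eq_bot, finrank_bot, finrank_top, Module.finrank_pi, hD.finrank_eq, hD.finrank_eq] at h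
  omega

end Cfsg.Agent.Lib.Aschbacher
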