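/-
Aschbacher's theorem for the odd-dimensional orthogonal groups in odd characteristic.
-/
import Cfsg.Agent.Lib.Aschbacher.FormTools
import Cfsg.Agent.Lib.Aschbacher.FormBasis

set_option autoImplicit false

namespace Cfsg.Agent.Lib.Aschbacher

open Cfsg Cfsg.Geo Matrix
open scoped Kronecker

set_option maxHeartbeats 1000000

variable {F : Type*} [Field F] [Fintype F] {m : ℕ}

local notation "ιO" => (Unit ⊕ (Fin m ⊕ Fin m))

/-- `H` lies in a member of the geometric classes of the odd-dimensional orthogonal group. -/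
def OrthHasClass (H : Subgroup (GL (Unit ⊕ (Fin m ⊕ Fin m)) F)) : Prop :=
  ∃ M : Subgroup (GL (Unit ⊕ (Fin m ⊕ Fin m)) F), InOrthogonalOddClass m F M ∧ H ≤ M

/-- A matrix of the standard quadratic form. -/
def oddHalfMat (m : ℕ) (F : Type*) [Field F] :
    Matrix (Unit ⊕ (Fin m ⊕ Fin m)) (Unit ⊕ (Fin m ⊕ Fin m)) F :=
  Matrix.fromBlocks 1 0 0 (Matrix.fromBlocks 0 1 0 0)

omit [Fintype F] in
lemma quadM_oddHalfMat : quadM (oddHalfMat m F) = quadFormOdd m F := by
  funext v
  simp only [quadM, formM, oddHalfMat, quadFormOdd, dotProduct, Matrix.mulVec, RingEquiv.refl_apply,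
    Fintype.sum_sum_type, Matrix.fromBlocks_apply₁₁, Matrix.fromBlocks_apply₁₂, Matrix.fromBlocks_apply₂₁,
    Matrix.fromBlocks_apply₂₂, Matrix.zero_apply, Matrix.one_apply, zero_mul, Finset.sum_const_zero,
    ite_mul, one_mul, Finset.sum_ite_eq, Finset.mem_univ, if_true, add_zero, zero_add, mul_zero]
  simp [sq]

omit [Fintype F] in
lemma isUnit_oddPolarMat (h2 : (2 : F) ≠ 0) : IsUnit (oddHalfMat m F + (oddHalfMat m F)ᵀ) := by
  have e : oddHalfMat m F + (oddHalfMat m F)ᵀ =
      Matrix.fromBlocks ((2 : F) • 1) 0 0 (Matrix.fromBlocks 0 1 1 0) := by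
    simp only [oddHalfMat, Matrix.fromBlocks_transpose, Matrix.transpose_one, Matrix.transpose_zero,
      Matrix.fromBlocks_add, add_zero, zero_add, two_smul]
  rw [e]
  refine IsUnit.of_mul_eq_one (Matrix.fromBlocks ((2 : F)⁻¹ • 1) 0 0 (Matrix.fromBlocks 0 1 1 0)) ?_
  simp [Matrix.fromBlocks_multiply, smul_smul, mul_inv_cancel₀ h2, inv_mul_cancel₀ h2, Matrix.fromBlocks_one]

/-- The Gram matrix of the polar form of the standard quadratic form. -/
noncomputable def oddGram (m : ℕ) (h2 : (2 : F) ≠ 0) : GL (Unit ⊕ (Fin m ⊕ Fin m)) F :=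
  (isUnit_oddPolarMat (m := m) h2).unit

omit [Fintype F] in
lemma polar_quadFormOdd (h2 : (2 : F) ≠ 0) :
    QuadraticMap.polar (quadFormOdd m F) = formM (RingEquiv.refl F) (oddGram m h2 : Matrix ιO ιO F) := by
  funext u v
  rw [← quadM_oddHalfMat, polar_quadM_add]
  rfl

omit [Fintype F] in
lemma quadFormOdd_eq (h2 : (2 : F) ≠ 0) (v : ιO → F) :
    quadFormOdd m F v = 2⁻¹ * formM (RingEquiv.refl F) (oddGram m h2 : Matrix ιO ιO F) v v := by
  rw [← polar_quadFormOdd h2, ← quadM_oddHalfMat, QuadraticMap.polar, show v + v = (2 : F) • v by rw [two_smul],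
    quadM_smul]
  field_simp
  ring

omit [Fintype F] in
lemma oddGram_isFormGram (h2 : (2 : F) ≠ 0) : IsFormGram (RingEquiv.refl F) (oddGram m h2) 1 := by
  refine ⟨fun _ => rfl, ?_⟩
  rw [twist_refl, one_smul]
  show (oddHalfMat m F + (oddHalfMat m F)ᵀ)ᵀ = oddHalfMat m F + (oddHalfMat m F)ᵀ
  rw [Matrix.transpose_add, Matrix.transpose_transpose, add_comm]

omit [Fintype F] in
lemma invariant_of_le_isometry (h2 : (2 : F) ≠ 0) {H : Subgroup (GL ιO F)}
    (hH : H ≤ isometryGroup F (quadFormOdd m F)) :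
    Invariant (RingEquiv.refl F) H (oddGram m h2 : Matrix ιO ιO F) := by
  refine invariant_iff_fixes.mpr ?_
  rintro _ ⟨x, hx, rfl⟩ u v
  have hQ : ∀ w, quadFormOdd m F ((x : Matrix ιO ιO F) *ᵥ w) = quadFormOdd m F w := fun w => hH hx w 0
  rw [← polar_quadFormOdd h2]
  simp only [QuadraticMap.polar, ← Matrix.mulVec_add, hQ]

omit [Fintype F] in
lemma det_mem_subfield {ι : Type} [Fintype ι] [DecidableEq ι] (F₁ : Subfield F) {A : Matrix ι ι F}
    (h : ∀ i j, A i j ∈ F₁) : A.det ∈ F₁ := by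
  rw [Matrix.det_apply']
  exact Subfield.sum_mem _ fun p _ => Subfield.mul_mem _ (intCast_mem F₁ _)
    (Subfield.prod_mem _ fun i _ => h _ _)

/-- A rational structure up to a scalar gives a subfield class. -/
theorem orth_rational (h2 : (2 : F) ≠ 0) {H : Subgroup (GL ιO F)} (hH : H ≤ isometryGroup F (quadFormOdd m F))
    {F₁ : Subfield F} {r : ℕ} (hr : r.Prime) (hcard : Fintype.card F = Nat.card F₁ ^ r) {P : GL ιO F}
    (hP : H ≤ subfieldSubgroup F₁ P) {c : F} (hc : c ≠ 0) {G₁ : Matrix ιO ιO F} (hG₁ : ∀ i j, G₁ i j ∈ F₁)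
    (hG : (P : Matrix ιO ιO F)ᵀ * (oddGram m h2 : Matrix ιO ιO F) * (P : Matrix ιO ιO F) = c • G₁) :
    OrthHasClass H := by
  set d := (P : Matrix ιO ιO F).det with hd
  have hd0 : d ≠ 0 := ((Matrix.isUnit_iff_isUnit_det _).mp P.isUnit).ne_zero
  set D := (oddGram m h2 : Matrix ιO ιO F).det with hD
  have hD0 : D ≠ 0 := ((Matrix.isUnit_iff_isUnit_det _).mp (oddGram m h2).isUnit).ne_zero
  have hDmem : D ∈ F₁ := det_mem_subfield F₁ fun i j => by
    have hM : ∀ a b, oddHalfMat m F a b ∈ F₁ := by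
      intro a b
      rcases a with a | a | a <;> rcases b with b | b | b <;>
        simp [oddHalfMat, Matrix.fromBlocks, Matrix.one_apply] <;>
        first
          | exact F₁.zero_mem
          | exact F₁.one_mem
          | (split_ifs <;> first | exact F₁.zero_mem | exact F₁.one_mem)
    exact Subfield.add_mem _ (hM i j) (hM j i)
  have hdet := congrArg Matrix.det hG
  rw [Matrix.det_mul, Matrix.det_mul, Matrix.det_transpose, Matrix.det_smul, Fintype.card_sum, Fintype.card_sum,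
    Fintype.card_unit, Fintype.card_fin, ← hd, ← hD] at hdet
  have hG1det : G₁.det ≠ 0 := fun h => mul_ne_zero (mul_ne_zero hd0 hD0) hd0 (by rw [hdet, h, mul_zero])
  set s := c ^ m / d with hs
  have hs0 : s ≠ 0 := div_ne_zero (pow_ne_zero _ hc) hd0
  have hsc : s ^ 2 * c = D / G₁.det := by
    rw [eq_div_iff hG1det, hs, div_pow, ← pow_mul, div_mul_eq_mul_div, div_mul_eq_mul_div,
      div_eq_iff (pow_ne_zero _ hd0)]
    linear_combination -hdet
  set P' : GL ιO F := Units.mk0 s hs0 • P with hP'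
  have hval : (P' : Matrix ιO ιO F) = s • (P : Matrix ιO ιO F) := rfl
  have hle : subfieldSubgroup F₁ P ≤ subfieldSubgroup F₁ P' := by
    rintro _ ⟨k, hk, rfl⟩
    refine ⟨k, hk, ?_⟩
    show P' * k * P'⁻¹ = P * k * P⁻¹
    have hvi : ((P'⁻¹ : GL ιO F) : Matrix ιO ιO F) = s⁻¹ • ((P⁻¹ : GL ιO F) : Matrix ιO ιO F) := by
      apply P'.isUnit.mul_left_cancel
      rw [Units.mul_inv, hval, Matrix.smul_mul, Matrix.mul_smul, smul_smul, Units.mul_inv,
        mul_inv_cancel₀ hs0, one_smul]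
    apply Units.ext
    rw [Units.val_mul, Units.val_mul, Units.val_mul, Units.val_mul, hvi, hval, Matrix.smul_mul, Matrix.mul_smul,
      Matrix.smul_mul, smul_smul, inv_mul_cancel₀ hs0, one_smul]
  refine ⟨subfieldSubgroup F₁ P' ⊓ isometryGroup F (quadFormOdd m F),
    Or.inr (Or.inr (Or.inr (Or.inr (Or.inr (Or.inr (Or.inl ⟨F₁, r, P', hr, hcard, fun u hu => ?_, rfl⟩)))))),
    le_inf (hP.trans hle) hH⟩
  rw [quadFormOdd_eq h2, hval, formM_mulVec, twist_refl, Matrix.transpose_smul, Matrix.smul_mul, Matrix.smul_mul,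
    Matrix.mul_smul, hG, smul_smul, smul_smul, formM_smul, show s * s * c = D / G₁.det by rw [← hsc]; ring]
  exact Subfield.mul_mem _ (Subfield.inv_mem _ (natCast_mem F₁ 2))
    (Subfield.mul_mem _ (Subfield.div_mem _ hDmem (det_mem_subfield F₁ hG₁))
      (formM_mem_subfield (fun a ha => ha) hG₁ hu hu))

/-- Groups normalising a spanning subgroup realised over a proper subfield. -/
theorem orth_subfield (h2 : (2 : F) ≠ 0) {H N : Subgroup (GL ιO F)}
    (hH : H ≤ isometryGroup F (quadFormOdd m F)) (hN : spanAlg N = ⊤)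
    (hNH : N ≤ H) (hnorm : Normalises H N) {F₀ : Subfield F} (hne : F₀ ≠ ⊤)
    (hreal : RealisableOver F₀ (matrixSet N)) : OrthHasClass H := by
  obtain ⟨F₁, r, hle, hr, hcard, -⟩ := exists_prime_index hne
  obtain ⟨B, hB⟩ := hreal
  obtain ⟨P, hP, hPN⟩ := le_subfieldSubgroup hN hnorm (F₁ := F₁) ⟨B, fun s hs i j => hle (hB s hs i j)⟩
  obtain ⟨c, G₁, hc, hG₁, -, hG⟩ :=
    exists_rational_gram hN ((invariant_of_le_isometry h2 hH).mono hNH) (P := P) hPN
  rw [twist_refl] at hG
  rw [Nat.card_eq_fintype_card (α := F)] at hcard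
  exact orth_rational h2 hH hr hcard hP hc hG₁ hG

/-- A group monomial with signs in an orthogonal basis of vectors of equal norm. -/
theorem orth_monomial (h2 : (2 : F) ≠ 0) (hm : 0 < m) {H : Subgroup (GL ιO F)}
    (hH : H ≤ isometryGroup F (quadFormOdd m F))
    {P : GL ιO F} {c : F} (hc : c ≠ 0)
    (hG : (P : Matrix ιO ιO F)ᵀ * (oddGram m h2 : Matrix ιO ιO F) * (P : Matrix ιO ιO F) = c • 1)
    (hmono : ∀ g ∈ H, ∀ i, ∃ (j : ιO) (s : F), (s = 1 ∨ s = -1) ∧
      (g : Matrix ιO ιO F) *ᵥ ((P : Matrix ιO ιO F) *ᵥ Pi.single i 1) =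
        s • ((P : Matrix ιO ιO F) *ᵥ Pi.single j 1)) :
    OrthHasClass H := by
  classical
  obtain ⟨p, hchar⟩ := CharP.exists F
  haveI hp : Fact p.Prime := ⟨CharP.char_is_prime F p⟩
  obtain ⟨a, -, hcard⟩ := FiniteField.card F p
  set v : ιO → (ιO → F) := fun i => (P : Matrix ιO ιO F) *ᵥ Pi.single i 1 with hv
  have hPinj : ∀ x y, (P : Matrix ιO ιO F) *ᵥ x = (P : Matrix ιO ιO F) *ᵥ y → x = y := fun x y h => by
    have := congrArg (fun w => ((P⁻¹ : GL ιO F) : Matrix ιO ιO F) *ᵥ w) h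
    simpa [Matrix.mulVec_mulVec] using this
  have hvv : ∀ i j, formM (RingEquiv.refl F) (oddGram m h2 : Matrix ιO ιO F) (v i) (v j) =
      if i = j then c else 0 := by
    intro i j
    rw [hv, formM_mulVec, twist_refl, hG, formM_smul, formM_single, Matrix.one_apply]
    split_ifs <;> simp
  rcases Nat.lt_or_ge 1 (a : ℕ) with ha | ha
  · obtain ⟨F₁, r, -, hr, hcardF, -⟩ := exists_prime_index (frobFixed_ne_top (L := F) (p := p) one_pos (by
      rw [Nat.card_eq_fintype_card, hcard]
      exact Nat.pow_lt_pow_right hp.out.one_lt ha))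
    rw [Nat.card_eq_fintype_card (α := F)] at hcardF
    refine orth_rational h2 hH hr hcardF (P := P) ?_ hc (G₁ := 1) ?_ hG
    · intro g hg
      have key : ∀ g ∈ H, ∀ i j, ((P⁻¹ * g * P : GL ιO F) : Matrix ιO ιO F) i j ∈ F₁ := by
        intro g hg i j
        obtain ⟨k, s, hs, hk⟩ := hmono g hg j
        have : ((P⁻¹ * g * P : GL ιO F) : Matrix ιO ιO F) *ᵥ Pi.single j 1 = s • Pi.single k 1 := by
          rw [Units.val_mul, Units.val_mul, ← Matrix.mulVec_mulVec, ← Matrix.mulVec_mulVec, hk, Matrix.mulVec_smul,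
            Matrix.mulVec_mulVec, Units.inv_mul, Matrix.one_mulVec]
        rw [Matrix.mulVec_single_one] at this
        have h' : ((P⁻¹ * g * P : GL ιO F) : Matrix ιO ιO F) i j = s * (Pi.single k (1 : F) : ιO → F) i :=
          congrFun this i
        rw [h']
        refine Subfield.mul_mem _ ?_ ?_
        · rcases hs with rfl | rfl
          · exact F₁.one_mem
          · exact F₁.neg_mem F₁.one_mem
        · rw [Pi.single_apply]
          split_ifs
          · exact F₁.one_mem
          · exact F₁.zero_mem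
      let X : Matrix ιO ιO F₁ := Matrix.of fun i j => ⟨_, key g hg i j⟩
      let X' : Matrix ιO ιO F₁ := Matrix.of fun i j => ⟨_, key g⁻¹ (H.inv_mem hg) i j⟩
      have hX : X.map F₁.subtype = ((P⁻¹ * g * P : GL ιO F) : Matrix ιO ιO F) := rfl
      have hX' : X'.map F₁.subtype = ((P⁻¹ * g⁻¹ * P : GL ιO F) : Matrix ιO ιO F) := rfl
      have hinj : Function.Injective (fun A : Matrix ιO ιO F₁ => A.map F₁.subtype) :=
        Matrix.map_injective F₁.subtype.injective
      have h1 : X * X' = 1 := by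
        apply hinj
        simp only [Matrix.map_mul, hX, hX', Matrix.map_one _ (map_zero F₁.subtype) (map_one F₁.subtype)]
        rw [← Units.val_mul, show P⁻¹ * g * P * (P⁻¹ * g⁻¹ * P) = 1 by group, Units.val_one]
      refine ⟨P⁻¹ * g * P, Subgroup.mem_sup_left ⟨⟨X, X', h1, mul_eq_one_comm.mp h1⟩, Units.ext hX⟩, ?_⟩
      show P * (P⁻¹ * g * P) * P⁻¹ = g
      group
    · intro i j
      rw [Matrix.one_apply]
      split_ifs
      · exact F₁.one_mem
      · exact F₁.zero_mem
  -- prime field: a system of orthogonal lines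
  have hprime : (Fintype.card F).Prime := by
    have := a.pos
    rw [hcard, show (a : ℕ) = 1 by omega, pow_one]
    exact hp.out
  set ψ : Fin (Fintype.card ιO) ≃ ιO := (Fintype.equivFin _).symm
  let D : Fin (Fintype.card ιO) → Submodule F (ιO → F) := fun k => F ∙ v (ψ k)
  have hv0 : ∀ i, v i ≠ 0 := fun i h => by
    have := hvv i i
    rw [if_pos rfl, h] at this
    simp [formM] at this
    exact hc this.symm
  have hli : LinearIndependent F v := by
    have : v = (Matrix.mulVecLin (P : Matrix ιO ιO F)) ∘ (fun i => Pi.single i (1 : F)) := rfl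
    rw [this]
    exact (Pi.linearIndependent_single_one ιO F).map' _ (LinearMap.ker_eq_bot.mpr hPinj)
  have hD : IsMDecomposition 1 D := by
    refine ⟨?_, one_pos, fun k => finrank_span_singleton (hv0 _), ?_, ?_⟩
    · simp only [Fintype.card_sum, Fintype.card_unit, Fintype.card_fin]; omega
    · exact (hli.comp ψ ψ.injective).iSupIndep_span_singleton
    · rw [eq_top_iff]
      intro x _
      have : x = ∑ i, (((P⁻¹ : GL ιO F) : Matrix ιO ιO F) *ᵥ x) i • v i := by
        simp only [hv, ← Matrix.mulVec_smul, ← Matrix.mulVec_sum, ← pi_eq_sum_univ', Matrix.mulVec_mulVec,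
          Units.mul_inv, Matrix.one_mulVec]
      rw [this]
      refine Submodule.sum_mem _ fun i _ => Submodule.mem_iSup_of_mem (ψ.symm i) ?_
      show _ ∈ F ∙ v (ψ (ψ.symm i))
      rw [Equiv.apply_symm_apply]
      exact Submodule.smul_mem _ _ (Submodule.mem_span_singleton_self _)
  have hD' : IsOrthogonalMDecomposition (quadFormOdd m F) 1 D := by
    refine ⟨⟨hD, fun k w hw hw0 => ?_, fun k l hkl u hu w hw => ?_⟩, fun k l => ?_⟩
    · rw [polar_quadFormOdd h2]
      obtain ⟨b, rfl⟩ := Submodule.mem_span_singleton.mp hw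
      have hb : b ≠ 0 := fun h => hw0 (by rw [h, zero_smul])
      refine ⟨⟨v (ψ k), Submodule.mem_span_singleton_self _, ?_⟩, ⟨v (ψ k), Submodule.mem_span_singleton_self _, ?_⟩⟩
      · rw [formM_smul_right, hvv, if_pos rfl]
        exact mul_ne_zero hb hc
      · rw [formM_smul_left, hvv, if_pos rfl]
        exact mul_ne_zero hb hc
    · rw [polar_quadFormOdd h2]
      obtain ⟨b, rfl⟩ := Submodule.mem_span_singleton.mp hu
      obtain ⟨b', rfl⟩ := Submodule.mem_span_singleton.mp hw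
      rw [formM_smul_left, formM_smul_right, hvv, if_neg (fun h => hkl (ψ.injective h)), mul_zero, mul_zero]
    · refine ⟨(LinearEquiv.toSpanNonzeroSingleton F _ _ (hv0 (ψ k))).symm.trans
        (LinearEquiv.toSpanNonzeroSingleton F _ _ (hv0 (ψ l))), fun w => ?_⟩
      obtain ⟨b, hb⟩ : ∃ b, (LinearEquiv.toSpanNonzeroSingleton F _ _ (hv0 (ψ k))) b = w :=
        (LinearEquiv.toSpanNonzeroSingleton F _ _ (hv0 (ψ k))).surjective w
      subst hb
      rw [LinearEquiv.trans_apply, LinearEquiv.symm_apply_apply]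
      show quadFormOdd m F (b • v (ψ l)) = quadFormOdd m F (b • v (ψ k))
      simp only [quadFormOdd_eq h2, formM_smul_left, formM_smul_right, hvv, if_true]
  refine ⟨decompositionStabilizer D ⊓ isometryGroup F (quadFormOdd m F),
    Or.inr (Or.inr (Or.inr (Or.inl ⟨_, D, hprime, hD', rfl⟩))), le_inf (fun g hg => ?_) hH⟩
  choose j s hs hj using hmono g hg
  have hjinj : Function.Injective j := by
    intro i k hik
    have h1 := hj i
    have h2' := hj k
    rw [← hik] at h2'
    have hsk : s k ≠ 0 := by rcases hs k with h | h <;> simp [h]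
    have h3 : (g : Matrix ιO ιO F) *ᵥ v i = (g : Matrix ιO ιO F) *ᵥ ((s i * (s k)⁻¹) • v k) := by
      rw [Matrix.mulVec_smul, hv, h1, h2', smul_smul, mul_assoc, inv_mul_cancel₀ hsk, mul_one]
    have h4 := congrArg (fun w => ((g⁻¹ : GL ιO F) : Matrix ιO ιO F) *ᵥ w) h3
    simp only [Matrix.mulVec_mulVec, Units.inv_mul, Matrix.one_mulVec] at h4
    rw [hv] at h4
    simp only [← Matrix.mulVec_smul] at h4
    have h5 := congrFun (hPinj _ _ h4) i
    by_contra hne
    simp [Pi.single_eq_of_ne hne] at h5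
  refine ⟨(ψ.trans (Equiv.ofBijective j (Finite.injective_iff_bijective.mp hjinj))).trans ψ.symm, fun k => ?_⟩
  show (F ∙ v (ψ k)).map _ = F ∙ v (ψ (ψ.symm (j (ψ k))))
  rw [Equiv.apply_symm_apply, Submodule.map_span, Set.image_singleton, toLin'_mulVec, hv, hj,
    Submodule.span_singleton_smul_eq (IsUnit.mk0 _ (by rcases hs (ψ k) with h | h <;> simp [h]))]

/-- The reducible case. -/
theorem orth_reducible (h2 : (2 : F) ≠ 0) {H : Subgroup (GL ιO F)}
    (hH : H ≤ isometryGroup F (quadFormOdd m F)) (hred : ¬ ActsIrreducibly (matrixSet H)) : OrthHasClass H := by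
  have hinv := invariant_of_le_isometry h2 hH
  rcases exists_subspace_of_reducible (oddGram_isFormGram h2) hinv hred with
    ⟨W, hW0, hts, hle⟩ | ⟨W, U, hW0, hU0, hi, hs, -, -, hndW, -, -, -, hWi, -⟩
  · exact ⟨subspaceStabilizer W ⊓ isometryGroup F (quadFormOdd m F), Or.inl
      ⟨W, hW0, fun w hw => by rw [quadFormOdd_eq h2, hts w hw w hw, mul_zero], rfl⟩, le_inf hle hH⟩
  · refine ⟨subspaceStabilizer W ⊓ isometryGroup F (quadFormOdd m F), Or.inr (Or.inl
      ⟨W, hW0, fun hWtop => hU0 ?_, by rw [polar_quadFormOdd h2]; exact hndW, rfl⟩),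
      le_inf (le_subspaceStabilizer hWi) hH⟩
    rw [hWtop, top_inf_eq] at hi
    exact hi

/-- The imprimitive case. -/
theorem orth_imprimitive (h2 : (2 : F) ≠ 0) (hm : 0 < m) {H : Subgroup (GL ιO F)}
    (hH : H ≤ isometryGroup F (quadFormOdd m F)) (him : HasImprimitive H) : OrthHasClass H := by
  classical
  have hinv := invariant_of_le_isometry h2 hH
  have hcardO : Fintype.card ιO = 2 * m + 1 := by
    simp only [Fintype.card_sum, Fintype.card_unit, Fintype.card_fin]; omega
  rcases exists_decomposition_of_imprimitive (oddGram_isFormGram h2) hinv him with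
    ⟨t, e, he, hself⟩ | ⟨e, he, -, -⟩
  swap
  · obtain ⟨k, hk, -⟩ := he.decomposition
    have := finrank_of_two_members hk
    rw [hcardO] at this
    omega
  obtain ⟨k, hk, hle⟩ := he.nondegenerate (fun _ => rfl) hself
  have hdec := hk.decomp
  by_cases hk1 : 1 < k
  · refine ⟨decompositionStabilizer (fun i => rangeOf (e i)) ⊓ isometryGroup F (quadFormOdd m F),
      Or.inr (Or.inr (Or.inl ⟨t, k, _, hk1, ⟨by rw [polar_quadFormOdd h2]; exact hk, fun i j => ?_⟩, rfl⟩)),
      le_inf hle hH⟩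
    obtain ⟨g, hg, hgij⟩ := he.trans i j
    have hmap : (rangeOf (e i)).map (Matrix.toLin' (g : Matrix ιO ιO F)) = rangeOf (e j) := by
      rw [map_rangeOf, hgij]
    have hinj : Function.Injective (Matrix.toLin' (g : Matrix ιO ιO F)) := by
      intro x y hxy
      have := congrArg (fun u => ((g⁻¹ : GL ιO F) : Matrix ιO ιO F) *ᵥ u) hxy
      simpa [toLin'_mulVec, Matrix.mulVec_mulVec] using this
    refine ⟨(Submodule.equivMapOfInjective _ hinj _).trans (LinearEquiv.ofEq _ _ hmap), fun w => ?_⟩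
    show quadFormOdd m F (Matrix.toLin' (g : Matrix ιO ιO F) w) = _
    rw [toLin'_mulVec]
    exact hH hg (w : ιO → F) 0
  have hk1' : k = 1 := by have := hdec.pos; omega
  subst hk1'
  let i₀ : Fin t := ⟨0, by have := he.two_le; omega⟩
  obtain ⟨v₀, hv₀, hv₀0⟩ := (rangeOf (e i₀)).ne_bot_iff.mp (fun h => by
    have h' : Module.finrank F (rangeOf (e i₀)) = 1 := hdec.finrank_eq i₀
    rw [h, finrank_bot] at h'
    omega)
  choose g hg hgi using fun i => he.trans i₀ i
  set w : Fin t → (ιO → F) := fun i => (g i : Matrix ιO ιO F) *ᵥ v₀ with hw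
  have hwmem : ∀ i, w i ∈ rangeOf (e i) := fun i => by
    rw [← hgi i, ← map_rangeOf]
    exact ⟨v₀, hv₀, toLin'_mulVec _ _⟩
  have hw0 : ∀ i, w i ≠ 0 := fun i h => hv₀0 (by
    have := congrArg (fun u => ((((g i))⁻¹ : GL ιO F) : Matrix ιO ιO F) *ᵥ u) h
    simpa [hw, Matrix.mulVec_mulVec] using this)
  have hline : ∀ i, ∀ x ∈ rangeOf (e i), ∃ b : F, x = b • w i := by
    intro i x hx
    obtain ⟨b, hb⟩ := (finrank_eq_one_iff_of_nonzero' (⟨w i, hwmem i⟩ : rangeOf (e i))
      (fun h => hw0 i (congrArg Subtype.val h))).mp (hdec.finrank_eq i) ⟨x, hx⟩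
    exact ⟨b, (congrArg Subtype.val hb).symm⟩
  set f := formM (RingEquiv.refl F) (oddGram m h2 : Matrix ιO ιO F) with hf
  set lam := f v₀ v₀
  have hdiag : ∀ i, f (w i) (w i) = lam := fun i => by
    rw [hw, hf, formM_mulVec, hinv _ (hg i)]
  have hlam : lam ≠ 0 := by
    intro h
    obtain ⟨⟨x, hx, hxv⟩, -⟩ := hk.nondegenerate i₀ v₀ hv₀ hv₀0
    obtain ⟨b, rfl⟩ := hline i₀ x hx
    obtain ⟨b', hb'⟩ := hline i₀ v₀ hv₀
    apply hxv
    rw [(congrArg (f (b • w i₀)) hb' : f (b • w i₀) v₀ = f (b • w i₀) (b' • w i₀)), hf, formM_smul_left,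
      formM_smul_right, ← hf]
    have h' : lam = b' * (b' * f (w i₀) (w i₀)) := by
      show f v₀ v₀ = _
      conv_lhs => rw [hb']
      rw [hf, formM_smul_left, formM_smul_right, RingEquiv.refl_apply]
    rw [h] at h'
    have hb'0 : b' ≠ 0 := fun hz => hv₀0 (by rw [hb', hz, zero_smul])
    rw [hdiag, h, mul_zero, mul_zero]
  have horth : ∀ i j, i ≠ j → f (w i) (w j) = 0 := fun i j hij =>
    hk.orthogonal i j hij _ (hwmem i) _ (hwmem j)
  have hcard : Fintype.card ιO = t := by
    have hli : LinearIndependent F w := hdec.indep.linearIndependent _ hwmem hw0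
    have hsp : ⊤ ≤ Submodule.span F (Set.range w) := by
      rw [← hdec.iSup_eq_top]
      refine iSup_le fun i x hx => ?_
      obtain ⟨b, rfl⟩ := hline i x hx
      exact Submodule.smul_mem _ _ (Submodule.subset_span ⟨i, rfl⟩)
    have := Module.finrank_eq_card_basis (Module.Basis.mk hli hsp)
    rwa [Module.finrank_pi, Fintype.card_fin] at this
  set ψ : ιO ≃ Fin t := (Fintype.equivFin ιO).trans (finCongr hcard)
  obtain ⟨P, hPcol, hP⟩ := gram_of_columns (σ := RingEquiv.refl F) (G := oddGram m h2) (fun i => w (ψ i))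
    (fun _ => lam) (fun i j => by
      rcases eq_or_ne i j with rfl | hij
      · rw [if_pos rfl]; exact hdiag _
      · rw [if_neg hij]; exact horth _ _ (fun h => hij (ψ.injective h))) (fun _ => hlam)
  rw [twist_refl] at hP
  refine orth_monomial h2 hm hH (P := P) hlam (by rw [hP, Matrix.smul_one_eq_diagonal]) fun x hx i => ?_
  obtain ⟨s, hs⟩ := he.perm x hx
  have hmem : (x : Matrix ιO ιO F) *ᵥ w (ψ i) ∈ rangeOf (e (s (ψ i))) := by
    rw [← hs, ← map_rangeOf]
    exact ⟨_, hwmem _, toLin'_mulVec _ _⟩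
  obtain ⟨b, hb⟩ := hline _ _ hmem
  refine ⟨ψ.symm (s (ψ i)), b, ?_, ?_⟩
  · have h1 : f ((x : Matrix ιO ιO F) *ᵥ w (ψ i)) ((x : Matrix ιO ιO F) *ᵥ w (ψ i)) = lam := by
      rw [hf, formM_mulVec, hinv x hx, ← hf, hdiag]
    rw [hb, hf, formM_smul_left, formM_smul_right, RingEquiv.refl_apply, ← hf, hdiag, ← mul_assoc] at h1
    exact mul_self_eq_one_iff.mp (mul_right_cancel₀ hlam (by rw [h1, one_mul]))
  · rw [hPcol, hPcol, Equiv.apply_symm_apply, hb]

/-- The extension field case. -/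
theorem orth_extension (h2 : (2 : F) ≠ 0) {H : Subgroup (GL ιO F)}
    (hH : H ≤ isometryGroup F (quadFormOdd m F)) (hext : HasExtension H) : OrthHasClass H := by
  classical
  have hinv := invariant_of_le_isometry h2 hH
  obtain ⟨r, K, hr, hK, hnorm, hstab, N, hNH, hns, hcom⟩ := exists_stable_field (oddGram_isFormGram h2) hinv hext
  have hcardO : Fintype.card ιO = 2 * m + 1 := by
    simp only [Fintype.card_sum, Fintype.card_unit, Fintype.card_fin]; omega
  set A := adjM (RingEquiv.refl F) (oddGram m h2) with hA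
  have hall : ∀ x ∈ K, A x = x := by
    intro x hx
    by_contra hne
    set y := x - A x with hy
    have hy0 : y ≠ 0 := sub_ne_zero.mpr (Ne.symm hne)
    have hAy : A y = -y := by
      have h1 : A y + A (A x) = A x := by rw [hA, ← adjM_add, ← hA, sub_add_cancel]
      rw [hA, adjM_adjM (oddGram_isFormGram h2), ← hA] at h1
      rw [eq_sub_of_add_eq h1, hy, neg_sub]
    obtain ⟨z, -, hyz⟩ := hK.inv y (K.sub_mem hx ((hstab x).mpr hx)) hy0
    have hdy : y.det ≠ 0 := fun h => by
      have := congrArg Matrix.det hyz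
      rw [Matrix.det_mul, h, zero_mul, Matrix.det_one] at this
      exact zero_ne_one this
    have h := congrArg Matrix.det (adjM_spec (G := oddGram m h2) (σ := RingEquiv.refl F) (fun _ => rfl) y)
    rw [← hA, hAy, twist_refl, Matrix.det_mul, Matrix.det_mul, Matrix.det_transpose, Matrix.det_neg, hcardO,
      Odd.neg_one_pow ⟨m, rfl⟩] at h
    have hD : (oddGram m h2 : Matrix ιO ιO F).det ≠ 0 :=
      ((Matrix.isUnit_iff_isUnit_det _).mp (oddGram m h2).isUnit).ne_zero
    exact mul_ne_zero (mul_ne_zero h2 hdy) hD (by linear_combination h)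
  refine ⟨subalgebraNormalizer K ⊓ isometryGroup F (quadFormOdd m F),
    Or.inr (Or.inr (Or.inr (Or.inr (Or.inl ⟨r, K, hr, fun hrn => hns ?_, hK,
      fun k hk u v => by rw [polar_quadFormOdd h2, formM_adjM (fun _ => rfl), ← hA, hall k hk], rfl⟩)))),
    le_inf hnorm hH⟩
  -- the field would be self-centralising
  intro x hx
  obtain ⟨v, hv⟩ : ∃ v : ιO → F, v ≠ 0 := ⟨Pi.single (Sum.inl ()) 1, by simp⟩
  let L : ↥K →ₗ[F] (ιO → F) :=
    { toFun := fun k => (k : Matrix ιO ιO F) *ᵥ v
      map_add' := fun a b => Matrix.add_mulVec ..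
      map_smul' := fun a b => Matrix.smul_mulVec .. }
  have hLinj : Function.Injective L := by
    rw [← LinearMap.ker_eq_bot, LinearMap.ker_eq_bot']
    intro k hk
    by_contra hk0
    obtain ⟨z, hz, hkz⟩ := hK.inv k k.2 (fun h => hk0 (Subtype.ext h))
    rw [hK.comm _ k.2 _ hz] at hkz
    apply hv
    have hk' : (k : Matrix ιO ιO F) *ᵥ v = 0 := hk
    calc v = (z * (k : Matrix ιO ιO F)) *ᵥ v := by rw [hkz, Matrix.one_mulVec]
      _ = 0 := by rw [← Matrix.mulVec_mulVec, hk', Matrix.mulVec_zero]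
  have hLsurj : Function.Surjective L :=
    (LinearMap.injective_iff_surjective_of_finrank_eq_finrank (by
      rw [Module.finrank_pi, hcardO, hrn]; exact hK.finrank_eq)).mp hLinj
  obtain ⟨k₀, hk₀⟩ := hLsurj ((x : Matrix ιO ιO F) *ᵥ v)
  have hxk : (x : Matrix ιO ιO F) = k₀ := by
    apply Matrix.toLin'.injective
    refine LinearMap.ext fun u => ?_
    obtain ⟨k, rfl⟩ := hLsurj u
    rw [toLin'_mulVec, toLin'_mulVec]
    show (x : Matrix ιO ιO F) *ᵥ ((k : Matrix ιO ιO F) *ᵥ v) = (k₀ : Matrix ιO ιO F) *ᵥ ((k : Matrix ιO ιO F) *ᵥ v)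
    rw [Matrix.mulVec_mulVec, ← hcom x hx _ k.2, ← Matrix.mulVec_mulVec, ← hk₀, Matrix.mulVec_mulVec,
      hK.comm _ k₀.2 _ k.2, ← Matrix.mulVec_mulVec]
    rfl
  have hsq : (k₀ : Matrix ιO ιO F) * k₀ = 1 := by
    have h1 := hall _ k₀.2
    rw [hA, ← hxk, adjM_coe (fun _ => rfl) (hinv x (hNH hx))] at h1
    rw [← hxk]
    nth_rewrite 1 [← h1]
    exact Units.inv_mul x
  letI : Field ↥K := (isField_of_fieldSubalgebra hr.pos hK).toField
  rcases mul_self_eq_one_iff.mp (show k₀ * k₀ = 1 from Subtype.ext hsq) with h | h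
  · refine mem_scalars_of_commute (c := 1) ?_
    rw [hxk, h, one_smul]
    rfl
  · refine mem_scalars_of_commute (c := -1) ?_
    rw [hxk, h, neg_one_smul]
    rfl

omit [Fintype F] in
/-- Over a field of odd characteristic no skew invertible matrix has odd degree. -/
lemma not_skew_of_odd (h2 : (2 : F) ≠ 0) {d : ℕ} (hd : Odd d) (A : GL (Fin d) F) :
    (A : Matrix (Fin d) (Fin d) F)ᵀ ≠ -(A : Matrix (Fin d) (Fin d) F) := by
  intro h
  have h1 := congrArg Matrix.det h
  rw [Matrix.det_transpose, Matrix.det_neg, Fintype.card_fin, hd.neg_one_pow] at h1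
  exact mul_ne_zero h2 ((Matrix.isUnit_iff_isUnit_det _).mp A.isUnit).ne_zero (by linear_combination h1)

/-- An orthogonal matrix of degree three over the field of three elements is monomial. -/
lemma monomial_of_orth_three (hF : Fintype.card F = 3) {a : Matrix (Fin 3) (Fin 3) F} (ha : aᵀ * a = 1) :
    ∀ j, ∃ (i : Fin 3) (s : F), (s = 1 ∨ s = -1) ∧ a *ᵥ Pi.single j 1 = s • Pi.single i 1 := by
  intro j
  haveI : CharP F 3 := by
    obtain ⟨p, hp⟩ := CharP.exists F
    haveI hp' : Fact p.Prime := ⟨CharP.char_is_prime F p⟩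
    obtain ⟨k, -, hk⟩ := FiniteField.card F p
    rw [hF] at hk
    have : p = 3 := ((Nat.prime_dvd_prime_iff_eq hp'.out Nat.prime_three).mp
      (hk ▸ dvd_pow_self p k.pos.ne'))
    rwa [this] at hp
  have h3 : (3 : F) = 0 := CharP.cast_eq_zero F 3
  have hsq : ∀ x : F, x = 0 ∨ x * x = 1 := fun x => by
    rcases eq_or_ne x 0 with h | h
    · exact Or.inl h
    · right
      have := FiniteField.pow_card_sub_one_eq_one x h
      rw [hF] at this
      rw [← this]; ring
  have hcol : a 0 j * a 0 j + a 1 j * a 1 j + a 2 j * a 2 j = 1 := by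
    have := congrFun (congrFun ha j) j
    simpa [Matrix.mul_apply, Fin.sum_univ_three] using this
  have hone : ∀ x : F, x ≠ 0 → x = 1 ∨ x = -1 := fun x hx =>
    mul_self_eq_one_iff.mp ((hsq x).resolve_left hx)
  have h12 : (1 : F) + 1 ≠ 1 := by intro h; exact one_ne_zero (by linear_combination h)
  rw [Matrix.mulVec_single_one]
  rcases hsq (a 0 j) with h0 | h0 <;> rcases hsq (a 1 j) with h1 | h1 <;> rcases hsq (a 2 j) with h2 | h2
  · exfalso; rw [h0, h1, h2] at hcol; simp at hcol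
  · exact ⟨2, a 2 j, hone _ (fun h => by rw [h] at h2; simp at h2), funext fun i => by fin_cases i <;> simp [h0, h1]⟩
  · exact ⟨1, a 1 j, hone _ (fun h => by rw [h] at h1; simp at h1), funext fun i => by fin_cases i <;> simp [h0, h2]⟩
  · exfalso; rw [h0, h1, h2] at hcol; exact h12 (by linear_combination hcol)
  · exact ⟨0, a 0 j, hone _ (fun h => by rw [h] at h0; simp at h0), funext fun i => by fin_cases i <;> simp [h1, h2]⟩
  · exfalso; rw [h0, h1, h2] at hcol; exact h12 (by linear_combination hcol)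
  · exfalso; rw [h0, h1, h2] at hcol; exact h12 (by linear_combination hcol)
  · exfalso; rw [h0, h1, h2, show (1 : F) + 1 + 1 = 3 by norm_num, h3] at hcol; exact zero_ne_one hcol

/-- Perfect groups preserving the standard form in degree three over three elements are trivial. -/
theorem eq_bot_of_perfect_orth_three (hF : Fintype.card F = 3) {N : Subgroup (GL (Fin 3) F)}
    (hN : ⁅N, N⁆ = N)
    (hinv : ∀ x ∈ N, (x : Matrix (Fin 3) (Fin 3) F)ᵀ * (x : Matrix (Fin 3) (Fin 3) F) = 1) : N = ⊥ := by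
  classical
  choose π s hs hπ using fun x : N => monomial_of_orth_three hF (hinv x.1 x.2)
  have huniq : ∀ (x : N) (j i : Fin 3) (b : F), b ≠ 0 →
      ((x : GL (Fin 3) F) : Matrix (Fin 3) (Fin 3) F) *ᵥ Pi.single j 1 = b • Pi.single i 1 → π x j = i := by
    intro x j i b hb h
    by_contra hne
    have := congrFun (h.symm.trans (hπ x j)) i
    simp [Pi.single_eq_of_ne (Ne.symm hne), hb] at this
  have hs0 : ∀ x j, s x j ≠ 0 := fun x j => by rcases hs x j with h | h <;> simp [h]
  have hmul : ∀ x y : N, ∀ j, π (x * y) j = π x (π y j) := by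
    intro x y j
    refine huniq _ _ _ (s y j * s x (π y j)) (mul_ne_zero (hs0 _ _) (hs0 _ _)) ?_
    rw [Subgroup.coe_mul, Units.val_mul, ← Matrix.mulVec_mulVec, hπ y j, Matrix.mulVec_smul, hπ x, smul_smul]
  have hone : ∀ j, π 1 j = j := fun j => huniq 1 j j 1 one_ne_zero
    (by rw [OneMemClass.coe_one, Units.val_one, Matrix.one_mulVec, one_smul])
  let permHom : N →* Equiv.Perm (Fin 3) :=
    { toFun := fun x => ⟨π x, π x⁻¹, fun j => by rw [← hmul, inv_mul_cancel, hone],
        fun j => by rw [← hmul, mul_inv_cancel, hone]⟩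
      map_one' := Equiv.ext hone
      map_mul' := fun x y => Equiv.ext fun j => hmul x y j }
  have hperf : ⁅(⊤ : Subgroup N), (⊤ : Subgroup N)⁆ = (⊤ : Subgroup N) := by
    apply Subgroup.map_injective N.subtype_injective
    rw [Subgroup.map_commutator, ← MonoidHom.range_eq_map, Subgroup.range_subtype, hN]
  haveI : Group.IsSolvable (Equiv.Perm (Fin 3)) :=
    Cfsg.Agent.Lib.Burnside.isSolvable_of_card_eq_prime_pow_mul (p := 2) (q := 3) (a := 1) (b := 1)
      Nat.prime_two Nat.prime_three (by simp [Nat.card_eq_fintype_card, Fintype.card_perm, Nat.factorial])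
  have hrange : permHom.range = ⊥ := by
    by_contra hne
    have h1 : ⁅permHom.range, permHom.range⁆ = permHom.range := by
      rw [MonoidHom.range_eq_map, ← Subgroup.map_commutator, hperf]
    exact absurd h1 (Group.IsSolvable.commutator_lt_of_ne_bot hne).ne
  have hfix : ∀ x : N, ∀ j, π x j = j := fun x j => by
    have : permHom x = 1 := by
      rw [← Subgroup.mem_bot, ← hrange]
      exact ⟨x, rfl⟩
    exact congrFun (congrArg (fun p : Equiv.Perm (Fin 3) => ⇑p) this) j
  have hdiag : ∀ x : N, ((x : GL (Fin 3) F) : Matrix (Fin 3) (Fin 3) F) = Matrix.diagonal (s x) := by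
    intro x
    ext i j
    have h := congrFun (hπ x j) i
    rw [Matrix.mulVec_single_one, hfix] at h
    rw [show ((x : GL (Fin 3) F) : Matrix (Fin 3) (Fin 3) F) i j = _ from h, Matrix.diagonal_apply]
    by_cases hij : i = j
    · subst hij; simp
    · simp [hij]
  rw [← hN, eq_bot_iff, Subgroup.commutator_le]
  intro x hx y hy
  rw [Subgroup.mem_bot, commutatorElement_eq_one_iff_mul_comm]
  apply Units.ext
  rw [Units.val_mul, Units.val_mul, hdiag ⟨x, hx⟩, hdiag ⟨y, hy⟩, Matrix.diagonal_mul_diagonal,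
    Matrix.diagonal_mul_diagonal]
  congr 1
  funext i
  exact mul_comm _ _

/-- The tensor case. -/
theorem orth_tensor (hodd : Odd (Fintype.card F)) (hm : 0 < m) {H : Subgroup (GL ιO F)}
    (hH : H ≤ isometryGroup F (quadFormOdd m F)) (ht : HasTensor H) : OrthHasClass H := by
  classical
  have h2 := two_ne_zero_of_odd hodd
  have hinv := invariant_of_le_isometry h2 hH
  obtain ⟨N, d, n₂, e, B, hNH, -, hd, hn₂, hmem, hle⟩ := ht
  have hcard := Fintype.card_congr e
  simp only [Fintype.card_sum, Fintype.card_unit, Fintype.card_fin, Fintype.card_prod] at hcard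
  obtain ⟨hdodd, hn₂odd⟩ : Odd d ∧ Odd n₂ := Nat.odd_mul.mp ⟨m, by omega⟩
  obtain ⟨G₁, G₂, c₁, c₂, Nd, hA, hcc, hc1, h1, h2', -, -⟩ :=
    exists_tensor_gram (oddGram_isFormGram h2) (by omega) (by omega) e B hmem (hinv.mono hNH)
  rw [RingEquiv.refl_apply] at hc1
  rw [twist_refl] at h1 h2'
  have hc : c₁ = 1 := by
    rcases mul_self_eq_one_iff.mp hc1 with h | h
    · exact h
    · exact absurd (by rw [h1, h, neg_one_smul]) (not_skew_of_odd h2 hdodd G₁)
  subst hc
  rw [one_mul] at hcc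
  subst hcc
  rw [one_smul] at h1 h2'
  have hd3 : 3 ≤ d := by rcases hdodd with ⟨a, ha⟩; omega
  have hn3 : 3 ≤ n₂ := by rcases hn₂odd with ⟨a, ha⟩; omega
  have hid : (id : F → F) = ⇑(RingEquiv.refl F) := rfl
  have hsym : ∀ {n : ℕ} (A : GL (Fin n) F), (A : Matrix (Fin n) (Fin n) F)ᵀ = (A : Matrix (Fin n) (Fin n) F) →
      IsSymmetricForm (formM (RingEquiv.refl F) (A : Matrix (Fin n) (Fin n) F)) := fun A hA' =>
    ⟨isBilinearForm_formM _, fun u v => by rw [← formM_transpose (A : Matrix _ _ F) v u, hA'],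
      nondegenerate_formM _ A⟩
  rcases lt_trichotomy d n₂ with hlt | heq | hgt
  · refine ⟨tensorProductSubgroup d n₂ e B ⊓ isometryGroup F (quadFormOdd m F),
      Or.inr (Or.inr (Or.inr (Or.inr (Or.inr (Or.inl ⟨d, n₂, e, B, _, _, hd3, hlt, hsym G₁ h1, hsym G₂ h2',
        ?_, rfl⟩))))), le_inf hle hH⟩
    rw [polar_quadFormOdd h2, hid]
    exact tensorFormStructure_of_gram one_ne_zero (by rw [one_smul]; exact hA)
  swap
  · refine ⟨tensorProductSubgroup n₂ d (e.trans (Equiv.prodComm _ _)) B ⊓ isometryGroup F (quadFormOdd m F),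
      Or.inr (Or.inr (Or.inr (Or.inr (Or.inr (Or.inl ⟨n₂, d, _, B, _, _, hn3, hgt, hsym G₂ h2', hsym G₁ h1,
        ?_, rfl⟩))))), le_inf (hle.trans (tensorProduct_le_swap e B)) hH⟩
    rw [polar_quadFormOdd h2, hid]
    exact tensorFormStructure_of_gram one_ne_zero (by rw [one_smul]; exact gramIn_swap hA)
  subst heq
  haveI : Nonempty (Fin d) := ⟨⟨0, by omega⟩⟩
  obtain ⟨b₁, u₁, hu₁, hb₁⟩ := exists_congr_scalar hodd hdodd G₁ h1
  obtain ⟨b₂, u₂, hu₂, hb₂⟩ := exists_congr_scalar hodd hdodd G₂ h2'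
  by_cases hex : Fintype.card F = 3 ∧ d = 3
  · obtain ⟨h3, rfl⟩ := hex
    let bb : GL (Fin 3 × Fin 3) F :=
      ⟨(b₁ : Matrix (Fin 3) (Fin 3) F) ⊗ₖ (b₂ : Matrix (Fin 3) (Fin 3) F),
        ((b₁⁻¹ : GL (Fin 3) F) : Matrix (Fin 3) (Fin 3) F) ⊗ₖ ((b₂⁻¹ : GL (Fin 3) F) : Matrix (Fin 3) (Fin 3) F),
        by rw [← Matrix.mul_kronecker_mul, Units.mul_inv, Units.mul_inv, Matrix.one_kronecker_one],
        by rw [← Matrix.mul_kronecker_mul, Units.inv_mul, Units.inv_mul, Matrix.one_kronecker_one]⟩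
    set P : GL ιO F := B * glReindex e.symm bb with hP
    have hPval : (P : Matrix ιO ιO F) = (B : Matrix ιO ιO F) *
        ((b₁ : Matrix (Fin 3) (Fin 3) F) ⊗ₖ (b₂ : Matrix (Fin 3) (Fin 3) F)).submatrix e e := by
      rw [hP, Units.val_mul]
      simp [glReindex, Matrix.reindex_apply, bb]
    refine orth_monomial h2 hm hH (P := P) (c := u₁ * u₂) (mul_ne_zero hu₁ hu₂) ?_ fun g hg i => ?_
    · have hA' : (B : Matrix ιO ιO F)ᵀ * (oddGram m h2 : Matrix ιO ιO F) * (B : Matrix ιO ιO F) =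
          ((G₁ : Matrix (Fin 3) (Fin 3) F) ⊗ₖ (G₂ : Matrix (Fin 3) (Fin 3) F)).submatrix e e := by
        rw [← hA, gramIn, twist_refl]
        simp [Matrix.submatrix_submatrix]
      rw [hPval, Matrix.transpose_mul, Matrix.transpose_submatrix, ← Matrix.kroneckerMap_transpose]
      calc _ = ((b₁ : Matrix (Fin 3) (Fin 3) F)ᵀ ⊗ₖ (b₂ : Matrix (Fin 3) (Fin 3) F)ᵀ).submatrix e e *
            ((B : Matrix ιO ιO F)ᵀ * (oddGram m h2 : Matrix ιO ιO F) * (B : Matrix ιO ιO F)) *
            ((b₁ : Matrix (Fin 3) (Fin 3) F) ⊗ₖ (b₂ : Matrix (Fin 3) (Fin 3) F)).submatrix e e := by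
            simp only [mul_assoc]
        _ = _ := by
          rw [hA', Matrix.submatrix_mul_equiv, Matrix.submatrix_mul_equiv, ← Matrix.mul_kronecker_mul,
            ← Matrix.mul_kronecker_mul, hb₁, hb₂, Matrix.smul_kronecker, Matrix.kronecker_smul,
            Matrix.one_kronecker_one, smul_smul, Matrix.submatrix_smul, Pi.smul_apply, Pi.smul_apply,
            Matrix.submatrix_one_equiv]
    · obtain ⟨a, b, c, hc, hval, ha, hb⟩ := exists_similitudes hA (hle hg) (hinv g hg)
      rw [twist_refl] at ha hb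
      have hmono : ∀ (a' : GL (Fin 3) F) (G : GL (Fin 3) F) (bs : GL (Fin 3) F) (u cc : F), u ≠ 0 → cc ≠ 0 →
          (bs : Matrix (Fin 3) (Fin 3) F)ᵀ * (G : Matrix (Fin 3) (Fin 3) F) * (bs : Matrix (Fin 3) (Fin 3) F) = u • 1 →
          (a' : Matrix (Fin 3) (Fin 3) F)ᵀ * (G : Matrix (Fin 3) (Fin 3) F) * (a' : Matrix (Fin 3) (Fin 3) F) =
            cc • (G : Matrix (Fin 3) (Fin 3) F) →
          ∀ j, ∃ (i : Fin 3) (s : F), (s = 1 ∨ s = -1) ∧
            (a' : Matrix (Fin 3) (Fin 3) F) *ᵥ ((bs : Matrix (Fin 3) (Fin 3) F) *ᵥ Pi.single j 1) =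
              s • ((bs : Matrix (Fin 3) (Fin 3) F) *ᵥ Pi.single i 1) := by
        intro a' G bs u cc hu hcc hbs ha'
        set a'' : GL (Fin 3) F := bs⁻¹ * a' * bs with ha''
        have hba : (bs : Matrix (Fin 3) (Fin 3) F) * (a'' : Matrix (Fin 3) (Fin 3) F) =
            (a' : Matrix (Fin 3) (Fin 3) F) * (bs : Matrix (Fin 3) (Fin 3) F) := by
          rw [← Units.val_mul, ← Units.val_mul, ha'']; congr 1; group
        have h1 : (a'' : Matrix (Fin 3) (Fin 3) F)ᵀ * (a'' : Matrix (Fin 3) (Fin 3) F) = cc • 1 := by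
          have h := congrArg (fun X => (bs : Matrix (Fin 3) (Fin 3) F)ᵀ * X * (bs : Matrix (Fin 3) (Fin 3) F)) ha'
          simp only [Matrix.mul_smul, Matrix.smul_mul, hbs] at h
          have e1 : (bs : Matrix (Fin 3) (Fin 3) F)ᵀ * ((a' : Matrix (Fin 3) (Fin 3) F)ᵀ *
              (G : Matrix (Fin 3) (Fin 3) F) * (a' : Matrix (Fin 3) (Fin 3) F)) * (bs : Matrix (Fin 3) (Fin 3) F) =
              (a'' : Matrix (Fin 3) (Fin 3) F)ᵀ * (u • (1 : Matrix (Fin 3) (Fin 3) F)) *
                (a'' : Matrix (Fin 3) (Fin 3) F) := by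
            rw [← hbs]
            calc _ = ((a' : Matrix (Fin 3) (Fin 3) F) * (bs : Matrix (Fin 3) (Fin 3) F))ᵀ *
                  (G : Matrix (Fin 3) (Fin 3) F) * ((a' : Matrix (Fin 3) (Fin 3) F) * (bs : Matrix (Fin 3) (Fin 3) F)) := by
                  rw [Matrix.transpose_mul]; simp only [mul_assoc]
              _ = _ := by rw [← hba, Matrix.transpose_mul]; simp only [mul_assoc]
          rw [e1, Matrix.mul_smul, mul_one, Matrix.smul_mul, smul_smul, mul_comm cc, ← smul_smul] at h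
          exact smul_right_injective _ hu h
        have hcc1 : cc = 1 := by
          have hd := congrArg Matrix.det h1
          rw [Matrix.det_mul, Matrix.det_transpose, Matrix.det_smul, Matrix.det_one, Fintype.card_fin, mul_one] at hd
          have hx : (a'' : Matrix (Fin 3) (Fin 3) F).det / cc ≠ 0 :=
            div_ne_zero ((Matrix.isUnit_iff_isUnit_det _).mp a''.isUnit).ne_zero hcc
          have h' := FiniteField.pow_card_sub_one_eq_one _ hx
          rw [h3] at h'
          rw [div_pow, div_eq_one_iff_eq (pow_ne_zero _ hcc)] at h'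
          have e : cc * cc ^ 2 = 1 * cc ^ 2 := by linear_combination h' - hd
          exact mul_right_cancel₀ (pow_ne_zero 2 hcc) e
        rw [hcc1, one_smul] at h1
        intro j
        obtain ⟨i, s, hs, hi⟩ := monomial_of_orth_three h3 h1 j
        refine ⟨i, s, hs, ?_⟩
        rw [Matrix.mulVec_mulVec, ← hba, ← Matrix.mulVec_mulVec, hi, Matrix.mulVec_smul]
      have hb' : (b : Matrix (Fin 3) (Fin 3) F)ᵀ * (G₂ : Matrix (Fin 3) (Fin 3) F) * (b : Matrix (Fin 3) (Fin 3) F) =
          c⁻¹ • (G₂ : Matrix (Fin 3) (Fin 3) F) := by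
        conv_rhs => rw [← hb]
        rw [smul_smul, inv_mul_cancel₀ hc, one_smul]
      obtain ⟨p, s, hs, hp⟩ := hmono a G₁ b₁ u₁ c hu₁ hc hb₁ ha (e i).1
      obtain ⟨q, s', hs', hq⟩ := hmono b G₂ b₂ u₂ c⁻¹ hu₂ (inv_ne_zero hc) hb₂ hb' (e i).2
      refine ⟨e.symm (p, q), s * s', ?_, ?_⟩
      · rcases hs with rfl | rfl <;> rcases hs' with rfl | rfl <;> simp
      · have hPcol : ∀ j, (P : Matrix ιO ιO F) *ᵥ Pi.single j 1 = (B : Matrix ιO ιO F) *ᵥ
            ((fun x : Fin 3 × Fin 3 => ((b₁ : Matrix (Fin 3) (Fin 3) F) *ᵥ Pi.single (e j).1 1) x.1 *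
              ((b₂ : Matrix (Fin 3) (Fin 3) F) *ᵥ Pi.single (e j).2 1) x.2) ∘ e) := by
          intro j
          rw [hPval, ← Matrix.mulVec_mulVec, Matrix.mulVec_single_one, Matrix.mulVec_single_one,
            Matrix.mulVec_single_one]
          rfl
        rw [hPcol, hPcol, Equiv.apply_symm_apply]
        set x := fun x : Fin 3 × Fin 3 => ((b₁ : Matrix (Fin 3) (Fin 3) F) *ᵥ Pi.single (e i).1 1) x.1 *
              ((b₂ : Matrix (Fin 3) (Fin 3) F) *ᵥ Pi.single (e i).2 1) x.2 with hx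
        rw [hval, framed_apply, Matrix.mulVec_mulVec, mul_assoc, Units.inv_mul, mul_one,
          ← Matrix.mulVec_mulVec, ← Matrix.mulVec_smul]
        congr 1
        funext y
        show ∑ z, ((a : Matrix (Fin 3) (Fin 3) F) ⊗ₖ (b : Matrix (Fin 3) (Fin 3) F)) (e y) (e z) * x (e z) = _
        rw [Equiv.sum_comp e (fun z => ((a : Matrix (Fin 3) (Fin 3) F) ⊗ₖ (b : Matrix (Fin 3) (Fin 3) F)) (e y) z * x z),
          Fintype.sum_prod_type]
        have hp' := congrFun hp (e y).1
        have hq' := congrFun hq (e y).2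
        simp only [Matrix.mulVec, dotProduct, Pi.smul_apply, smul_eq_mul] at hp' hq'
        calc _ = (∑ z, (a : Matrix (Fin 3) (Fin 3) F) (e y).1 z *
              ((b₁ : Matrix (Fin 3) (Fin 3) F) *ᵥ Pi.single (e i).1 1) z) *
              (∑ z, (b : Matrix (Fin 3) (Fin 3) F) (e y).2 z *
              ((b₂ : Matrix (Fin 3) (Fin 3) F) *ᵥ Pi.single (e i).2 1) z) := by
              rw [Finset.sum_mul_sum]
              refine Finset.sum_congr rfl fun _ _ => Finset.sum_congr rfl fun _ _ => ?_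
              simp only [kroneckerMap_apply, hx]
              ring
          _ = _ := by
              simp only [Matrix.mulVec, dotProduct, Pi.smul_apply, Function.comp_apply, smul_eq_mul]
              rw [hp', hq']
              ring
  -- class seven
  set E := e.trans (finTwoArrowEquiv (Fin d)).symm with hE
  have hgram : gramIn (RingEquiv.refl F) (oddGram m h2) E B =
      (1 : F) • pureTensor (fun i => (![G₁, G₂] i : Matrix (Fin d) (Fin d) F)) := by
    rw [one_smul]
    ext x y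
    have := congrFun (congrFun hA (x 0, x 1)) (y 0, y 1)
    simp only [gramIn, Matrix.submatrix_apply, kroneckerMap_apply] at this ⊢
    rw [pureTensor, Matrix.of_apply, Fin.prod_univ_two]
    exact this
  obtain ⟨P, hPB, hstr⟩ := exists_power_structure (G₀ := (1 : GL (Fin d) F)) one_ne_zero hgram (fun i => by
    fin_cases i
    · exact ⟨b₁, u₁, hu₁, by rw [twist_refl]; exact hb₁⟩
    · exact ⟨b₂, u₂, hu₂, by rw [twist_refl]; exact hb₂⟩)
  refine ⟨tensorWreathSubgroup d 2 E P ⊓ isometryGroup F (quadFormOdd m F),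
    Or.inr (Or.inr (Or.inr (Or.inr (Or.inr (Or.inr (Or.inr ⟨d, 2, E, P, _, hd3, le_rfl, hex,
      hsym 1 (by rw [Units.val_one, Matrix.transpose_one]), ?_, rfl⟩)))))),
    le_inf (hPB ▸ hle.trans (tensorProduct_le_wreath e B)) hH⟩
  rw [polar_quadFormOdd h2, hid]
  exact hstr

/-- The symplectic type case does not occur. -/
theorem orth_symplecticCore (h2 : (2 : F) ≠ 0) {H : Subgroup (GL ιO F)}
    (hH : H ≤ isometryGroup F (quadFormOdd m F)) (hsc : HasSymplecticCore H) : False := by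
  classical
  have hinv := invariant_of_le_isometry h2 hH
  obtain ⟨R, r, hRH, -, hR⟩ := hsc
  obtain ⟨k, hk, hnk, -⟩ := hR.card_cases
  simp only [Fintype.card_sum, Fintype.card_unit, Fintype.card_fin] at hnk
  have hr2 : r ≠ 2 := fun h => by
    subst h
    obtain ⟨k', rfl⟩ : ∃ k', k = k' + 1 := ⟨k - 1, by omega⟩
    rw [pow_succ] at hnk
    omega
  rcases hR.center_cases with ⟨hrodd, hz⟩ | ⟨h, -⟩
  swap
  · exact hr2 h
  have hle : Nat.card (Subgroup.center R) ≤ 2 := by
    choose g hg using fun z : Subgroup.center R => hR.exists_scalar z.2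
    have hinj : Function.Injective g := fun a b hab => by
      apply Subtype.ext; apply Subtype.ext; apply Units.ext
      rw [hg, hg, hab]
    have hmem : ∀ z, (g z : F) = 1 ∨ (g z : F) = -1 := fun z => by
      have h := hinv _ (hRH (z : R).2)
      rw [hg z, Matrix.transpose_smul, Matrix.transpose_one, twist_refl, Matrix.smul_mul, one_mul, Matrix.mul_smul,
        mul_one, smul_smul] at h
      have h0 : ((g z : F) * (g z : F) - 1) • (oddGram m h2 : Matrix ιO ιO F) = 0 := by
        rw [sub_smul, one_smul, h, sub_self]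
      exact mul_self_eq_one_iff.mp
        (sub_eq_zero.mp ((smul_eq_zero.mp h0).resolve_right (oddGram m h2).isUnit.ne_zero))
    refine (Nat.card_le_card_of_injective
      (fun z => decide ((g z : F) = 1)) (fun a b hab => hinj (Units.ext ?_))).trans (by simp)
    simp only [decide_eq_decide] at hab
    rcases hmem a with h | h
    · rw [h, hab.mp h]
    · rcases hmem b with h' | h'
      · rw [hab.mpr h', h']
      · rw [h, h']
  have := hR.type.prime.two_le
  rw [hz] at hle
  omega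

/-- The tensor induced case. -/
theorem orth_tensorInduced (hodd : Odd (Fintype.card F)) {H : Subgroup (GL ιO F)}
    (hH : H ≤ isometryGroup F (quadFormOdd m F)) (hti : HasTensorInduced H) : OrthHasClass H := by
  classical
  have h2 := two_ne_zero_of_odd hodd
  have hinv := invariant_of_le_isometry h2 hH
  obtain ⟨t, d, M, e, B, ht, hd, hMH, hMp, -, hmem, -, -, -, htrans, hle⟩ := hti
  haveI : Nonempty (Fin d) := ⟨⟨0, by omega⟩⟩
  obtain ⟨c, Gs, cs, hc, hA, hcs, hNd, hsim⟩ :=
    exists_power_gram (oddGram_isFormGram h2) hinv hd e B hMH hMp hmem htrans hle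
  have hdodd : Odd d := by
    have hcard := Fintype.card_congr e
    simp only [Fintype.card_sum, Fintype.card_unit, Fintype.card_fin, Fintype.card_fun] at hcard
    exact (Nat.odd_pow_iff (show t ≠ 0 by omega)).mp ⟨m, by omega⟩
  have hd3 : 3 ≤ d := by rcases hdodd with ⟨a, ha⟩; omega
  let i₀ : Fin t := ⟨0, by omega⟩
  have hsymm : (Gs i₀ : Matrix (Fin d) (Fin d) F)ᵀ = (Gs i₀ : Matrix (Fin d) (Fin d) F) := by
    have h := (hcs i₀).2
    have h' := (hcs i₀).1
    rw [twist_refl] at h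
    rcases mul_self_eq_one_iff.mp h' with h'' | h''
    · rw [h, h'', one_smul]
    · exact absurd (by rw [h, h'', neg_one_smul]) (not_skew_of_odd h2 hdodd (Gs i₀))
  obtain ⟨P, hPB, hstr⟩ := exists_power_structure (G₀ := Gs i₀) hc hA (fun i => hsim i i₀)
  have hex : ¬ (Fintype.card F = 3 ∧ d = 3) := by
    rintro ⟨h3, rfl⟩
    obtain ⟨Nd, hspan, hperf, hNinv⟩ := hNd i₀
    obtain ⟨b, u, hu, hb⟩ := exists_congr_scalar hodd hdodd (Gs i₀) hsymm
    set N' := cj b⁻¹ Nd
    have hperf' : ⁅N', N'⁆ = N' := by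
      show ⁅Nd.map _, Nd.map _⁆ = Nd.map _
      rw [← Subgroup.map_commutator, hperf]
    have hbot := eq_bot_of_perfect_orth_three h3 hperf' (fun x hx => by
      rw [mem_cj, inv_inv] at hx
      have h := hNinv _ hx
      rw [twist_refl] at h
      have h' := congrArg (fun X => (b : Matrix (Fin 3) (Fin 3) F)ᵀ * X * (b : Matrix (Fin 3) (Fin 3) F)) h
      simp only [hb] at h'
      have e1 : ((b * x * b⁻¹ : GL (Fin 3) F) : Matrix (Fin 3) (Fin 3) F) * (b : Matrix (Fin 3) (Fin 3) F) =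
          (b : Matrix (Fin 3) (Fin 3) F) * (x : Matrix (Fin 3) (Fin 3) F) := by
        rw [← Units.val_mul, ← Units.val_mul]; congr 1; group
      have e2 : (x : Matrix (Fin 3) (Fin 3) F)ᵀ * (u • (1 : Matrix (Fin 3) (Fin 3) F)) * (x : Matrix (Fin 3) (Fin 3) F) =
          u • (1 : Matrix (Fin 3) (Fin 3) F) := by
        conv_rhs => rw [← h']
        rw [← hb]
        calc _ = ((b : Matrix (Fin 3) (Fin 3) F) * (x : Matrix (Fin 3) (Fin 3) F))ᵀ * (Gs i₀ : Matrix (Fin 3) (Fin 3) F) *
              ((b : Matrix (Fin 3) (Fin 3) F) * (x : Matrix (Fin 3) (Fin 3) F)) := by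
              rw [Matrix.transpose_mul]; simp only [mul_assoc]
          _ = _ := by rw [← e1, Matrix.transpose_mul]; simp only [mul_assoc]
      rw [Matrix.mul_smul, mul_one, Matrix.smul_mul] at e2
      exact smul_right_injective _ hu e2)
    have hNd0 : Nd = ⊥ := by
      have : cj b (cj b⁻¹ Nd) = Nd := by rw [cj_cj, mul_inv_cancel, cj_one]
      rw [← this, show cj b⁻¹ Nd = ⊥ from hbot]
      exact Subgroup.map_bot _
    have hle1 : spanAlg Nd ≤ ⊥ := spanAlg_le fun x hx => by
      rw [hNd0, Subgroup.mem_bot] at hx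
      rw [hx]
      exact one_mem _
    rw [hspan] at hle1
    obtain ⟨c', hc'⟩ := scalar_of_mem_bot (hle1 (Algebra.mem_top (x := Matrix.single (0 : Fin 3) 1 (1 : F))))
    have := congrFun (congrFun hc' 0) 1
    simp at this
  refine ⟨tensorWreathSubgroup d t e P ⊓ isometryGroup F (quadFormOdd m F),
    Or.inr (Or.inr (Or.inr (Or.inr (Or.inr (Or.inr (Or.inr ⟨d, t, e, P, _, hd3, ht, hex,
      ⟨isBilinearForm_formM _, fun u v => by rw [← formM_transpose (Gs i₀ : Matrix _ _ F) v u, hsymm],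
        nondegenerate_formM _ (Gs i₀)⟩, ?_, rfl⟩)))))), le_inf (hPB ▸ hle) hH⟩
  rw [polar_quadFormOdd h2, show (id : F → F) = ⇑(RingEquiv.refl F) from rfl]
  exact hstr

/-- Aschbacher's theorem for odd-dimensional orthogonal groups. -/
theorem orthogonalOdd_class_or_residual (hodd : Odd (Fintype.card F)) (hm : 0 < m) (H : Subgroup (GL ιO F))
    (hH : H ≤ isometryGroup F (quadFormOdd m F)) :
    (∃ M : Subgroup (GL ιO F), InOrthogonalOddClass m F M ∧ H ≤ M) ∨ InOrthogonalResidualClass H := by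
  classical
  have h2 := two_ne_zero_of_odd hodd
  haveI : Nonempty ιO := ⟨Sum.inl ()⟩
  by_cases hirr : ActsIrreducibly (matrixSet H)
  swap
  · exact Or.inl (orth_reducible h2 hH hirr)
  rcases structure_of_irreducible hirr (by
      simp only [Fintype.card_sum, Fintype.card_unit, Fintype.card_fin]; omega) with h | h | h | h | h | h
  · exact Or.inl (orth_imprimitive h2 hm hH h)
  · exact Or.inl (orth_extension h2 hH h)
  · exact Or.inl (orth_tensor hodd hm hH h)
  · exact (orth_symplecticCore h2 hH h).elim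
  · exact Or.inl (orth_tensorInduced hodd hH h)
  · obtain ⟨P, hP⟩ := h
    have hnorm : Normalises H P := hP.normal
    by_cases hsub : ∃ F₀ : Subfield F, F₀ ≠ ⊤ ∧ RealisableOver F₀ (matrixSet P)
    · obtain ⟨F₀, h0, h1⟩ := hsub
      exact Or.inl (orth_subfield h2 hH hP.span_top hP.le hnorm h0 h1)
    push Not at hsub
    refine Or.inr ⟨P, hP.residual (fun F₀ h0 => hsub F₀ h0), ?_⟩
    rintro ⟨σ, f, hf, hfix⟩
    obtain ⟨G', rfl⟩ := exists_gram_unitary hf
    obtain ⟨F₀, h0, h1⟩ := realisable_of_two_forms hP.span_top ((invariant_of_le_isometry h2 hH).mono hP.le)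
      hf.ne_refl hf.involutive (invariant_iff_fixes.mpr hfix)
    exact hsub F₀ h0 h1

end Cfsg.Agent.Lib.Aschbacher
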