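/-
Aschbacher's theorem for the symplectic groups, part one: the subfield class, forms in characteristic two,
and the individual cases of the structure theorem.
-/
import Cfsg.Agent.Lib.Aschbacher.FormTools

set_option autoImplicit false

namespace Cfsg.Agent.Lib.Aschbacher

open Cfsg Cfsg.Geo Matrix
open scoped Kronecker

set_option maxHeartbeats 1000000

variable {F : Type*} [Field F] [Fintype F] {m : ℕ}

local notation "ιS" => (Fin m ⊕ Fin m)

/-- `H` lies in a member of the geometric classes of the symplectic group. -/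
def SpHasClass (H : Subgroup (GL (Fin m ⊕ Fin m) F)) : Prop :=
  ∃ M : Subgroup (GL (Fin m ⊕ Fin m) F), InSymplecticClass m F M ∧ H ≤ M

/-- The Gram matrix of the standard symplectic form. -/
noncomputable def sympGram (m : ℕ) (F : Type*) [Field F] : GL (Fin m ⊕ Fin m) F :=
  ((Matrix.isUnit_iff_isUnit_det _).mpr (Matrix.isUnit_det_J (Fin m) F)).unit

omit [Fintype F] in
lemma sympForm_eq : sympForm m F = formM (RingEquiv.refl F) (sympGram m F : Matrix ιS ιS F) := rfl

omit [Fintype F] in
lemma sympGram_transpose : (sympGram m F : Matrix ιS ιS F)ᵀ = -(sympGram m F : Matrix ιS ιS F) :=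
  Matrix.J_transpose (Fin m) F

omit [Fintype F] in
lemma sympGram_alternating (v : ιS → F) :
    formM (RingEquiv.refl F) (sympGram m F : Matrix ιS ιS F) v v = 0 := by
  rw [← sympForm_eq]
  simp only [sympForm, Matrix.J, Matrix.fromBlocks_mulVec, dotProduct, Fintype.sum_sum_type, Sum.elim_inl,
    Sum.elim_inr, Matrix.zero_mulVec, Matrix.neg_mulVec, Matrix.one_mulVec, Pi.zero_apply, zero_add,
    Pi.neg_apply, Function.comp_apply, add_zero]
  rw [← Finset.sum_add_distrib]
  exact Finset.sum_eq_zero fun i _ => by ring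

omit [Fintype F] in
lemma sympGram_isFormGram : IsFormGram (RingEquiv.refl F) (sympGram m F) (-1) :=
  ⟨fun _ => rfl, by rw [twist_refl, sympGram_transpose, neg_smul, one_smul]⟩

omit [Fintype F] in
lemma invariant_of_le_spGL {H : Subgroup (GL ιS F)} (hH : H ≤ spGL m F) :
    Invariant (RingEquiv.refl F) H (sympGram m F : Matrix ιS ιS F) := fun x hx => by
  have h := hH hx
  exact mem_preserving_iff.mp h

omit [Fintype F] in
lemma le_similarity_of_invariant {H : Subgroup (GL ιS F)}
    (hH : Invariant (RingEquiv.refl F) H (sympGram m F : Matrix ιS ιS F)) :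
    H ≤ similarityGroup (sympForm m F) := fun x hx => ⟨1, fun u v => by
  rw [sympForm_eq, formM_mulVec, hH x hx, Units.val_one, one_mul]⟩

/-- Groups normalising a spanning subgroup realised over a proper subfield. -/
theorem sp_subfield (hm : 0 < m) {H N : Subgroup (GL ιS F)} (hH : H ≤ spGL m F) (hN : spanAlg N = ⊤)
    (hNH : N ≤ H) (hnorm : Normalises H N) {F₀ : Subfield F} (hne : F₀ ≠ ⊤)
    (hreal : RealisableOver F₀ (matrixSet N)) : SpHasClass H := by
  haveI : Nonempty ιS := ⟨Sum.inl ⟨0, hm⟩⟩
  obtain ⟨F₁, r, hle, hr, hcard, -⟩ := exists_prime_index hne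
  obtain ⟨B, hB⟩ := hreal
  obtain ⟨P, hP, hPN⟩ := le_subfieldSubgroup hN hnorm (F₁ := F₁) ⟨B, fun s hs i j => hle (hB s hs i j)⟩
  obtain ⟨c, G₁, hc, hG₁, -, hG⟩ :=
    exists_rational_gram hN ((invariant_of_le_spGL hH).mono hNH) (P := P) hPN
  rw [Nat.card_eq_fintype_card (α := F)] at hcard
  refine ⟨subfieldSubgroup F₁ P ⊓ spGL m F, Or.inl (Or.inr (Or.inr (Or.inr (Or.inr (Or.inl
    ⟨F₁, r, P, c⁻¹, hr, hcard, inv_ne_zero hc, fun u v hu hv => ?_, rfl⟩))))), le_inf hP hH⟩
  rw [sympForm_eq, formM_mulVec, hG, formM_smul, ← mul_assoc, inv_mul_cancel₀ hc, one_mul]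
  exact formM_mem_subfield (fun a ha => ha) hG₁ hu hv

/-- A fixed quadratic form polarising to the symplectic form in characteristic two. -/
lemma sp_class_of_quad (hodd : ¬ Odd (Fintype.card F)) {H : Subgroup (GL ιS F)} (hH : H ≤ spGL m F)
    {Q : (ιS → F) → F} (hQ : IsNondegenerateQuadraticForm Q)
    (hpol : ∀ u v, QuadraticMap.polar Q u v = sympForm m F u v)
    (hfix : ∀ g ∈ H, ∀ v, Q ((g : Matrix ιS ιS F) *ᵥ v) = Q v) : SpHasClass H :=
  ⟨quadSimilarityGroup Q ⊓ spGL m F, Or.inl (Or.inr (Or.inr (Or.inr (Or.inr (Or.inr (Or.inr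
    ⟨Q, hodd, hQ, hpol, rfl⟩)))))),
    le_inf (fun g hg => ⟨1, fun v => by rw [hfix g hg v, Units.val_one, one_mul]⟩) hH⟩

/-- A fixed matrix giving a quadratic form in the standard basis. -/
lemma sp_class_of_upper (hodd : ¬ Odd (Fintype.card F)) {H : Subgroup (GL ιS F)} (hH : H ≤ spGL m F)
    {U : Matrix ιS ιS F} (hU : U + Uᵀ = (sympGram m F : Matrix ιS ιS F))
    (hfix : ∀ g ∈ H, ∀ v, quadM U ((g : Matrix ιS ιS F) *ᵥ v) = quadM U v) : SpHasClass H := by
  have hpol : ∀ u v, QuadraticMap.polar (quadM U) u v = sympForm m F u v := fun u v => by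
    rw [polar_quadM_add, hU, sympForm_eq]
  have hfun : QuadraticMap.polar (quadM U) = formM (RingEquiv.refl F) (sympGram m F : Matrix ιS ιS F) :=
    funext fun u => funext fun v => by rw [hpol, sympForm_eq]
  refine sp_class_of_quad hodd hH ⟨quadM_smul U, ?_, ?_⟩ hpol hfix
  · rw [hfun]; exact isBilinearForm_formM _
  · rw [hfun]; exact nondegenerate_formM _ _

/-- The reducible case. -/
theorem sp_reducible {H : Subgroup (GL ιS F)} (hH : H ≤ spGL m F)
    (hred : ¬ ActsIrreducibly (matrixSet H)) : SpHasClass H := by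
  have hinv := invariant_of_le_spGL hH
  rcases exists_subspace_of_reducible sympGram_isFormGram hinv hred with
    ⟨W, hW0, hts, hle⟩ | ⟨W, U, hW0, hU0, hi, hs, hd, htot, hndW, hndU, hoWU, hoUW, hWi, hUi⟩
  · exact ⟨subspaceStabilizer W ⊓ spGL m F, Or.inl (Or.inl
      ⟨W, hW0, fun u hu v hv => by rw [sympForm_eq]; exact hts u hu v hv, rfl⟩), le_inf hle hH⟩
  rw [Fintype.card_sum, Fintype.card_fin] at htot
  rcases Nat.lt_or_ge (Module.finrank F W) m with hlt | hge
  · exact ⟨subspaceStabilizer W ⊓ spGL m F, Or.inl (Or.inr (Or.inl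
      ⟨W, hW0, by rw [sympForm_eq]; exact hndW, hlt, rfl⟩)), le_inf (le_subspaceStabilizer hWi) hH⟩
  · obtain ⟨hD, hle⟩ := decomposition_of_pair (H := H) hW0 hi hs (k := m) (by omega) (by omega) hWi hUi
    refine ⟨decompositionStabilizer ![W, U] ⊓ spGL m F, Or.inl (Or.inr (Or.inr (Or.inl
      ⟨2, m, ![W, U], ⟨hD, ?_, ?_⟩, rfl⟩))), le_inf hle hH⟩
    · intro i
      rw [sympForm_eq]
      fin_cases i
      · exact hndW
      · exact hndU
    · intro i j hij
      rw [sympForm_eq]
      fin_cases i <;> fin_cases j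
      · exact absurd rfl hij
      · exact hoWU
      · exact hoUW
      · exact absurd rfl hij

omit [Fintype F] in
lemma sympGram_char_two (h2 : (2 : F) = 0) :
    (sympGram m F : Matrix ιS ιS F)ᵀ = (sympGram m F : Matrix ιS ιS F) := by
  rw [sympGram_transpose]
  ext i j
  rw [Matrix.neg_apply]
  linear_combination -(sympGram m F : Matrix ιS ιS F) i j * h2

/-- The imprimitive case. -/
theorem sp_imprimitive {H : Subgroup (GL ιS F)} (hH : H ≤ spGL m F) (him : HasImprimitive H) :
    SpHasClass H := by
  have hinv := invariant_of_le_spGL hH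
  rcases exists_decomposition_of_imprimitive sympGram_isFormGram hinv him with
    ⟨t, e, he, hself⟩ | ⟨e, he, h01, h10⟩
  · obtain ⟨k, hk, hle⟩ := he.nondegenerate (fun _ => rfl) hself
    exact ⟨decompositionStabilizer (fun i => rangeOf (e i)) ⊓ spGL m F, Or.inl (Or.inr (Or.inr (Or.inl
      ⟨t, k, _, by rw [sympForm_eq]; exact hk, rfl⟩))), le_inf hle hH⟩
  by_cases hodd : Odd (Fintype.card F)
  · obtain ⟨k, hk, hle⟩ := he.decomposition
    have hkm : k = m := by
      have := finrank_of_two_members hk
      rw [Fintype.card_sum, Fintype.card_fin] at this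
      omega
    subst hkm
    refine ⟨decompositionStabilizer (fun i => rangeOf (e i)) ⊓ spGL k F, Or.inl (Or.inr (Or.inr (Or.inr
      (Or.inl ⟨_, hodd, hk, fun i => ?_, rfl⟩)))), le_inf hle hH⟩
    rw [sympForm_eq]
    fin_cases i
    · exact totallySingular_of_adj (fun _ => rfl) (he.idem 0) h01 (he.orth 1 0 (by decide))
    · exact totallySingular_of_adj (fun _ => rfl) (he.idem 1) h10 (he.orth 0 1 (by decide))
  · have h2 := two_eq_zero_of_not_odd hodd
    set J : Matrix ιS ιS F := (sympGram m F : Matrix ιS ιS F) with hJ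
    have hadj : ∀ a : Matrix ιS ιS F, aᵀ * J = J * adjM (RingEquiv.refl F) (sympGram m F) a := fun a => by
      have := adjM_spec (G := sympGram m F) (σ := RingEquiv.refl F) (fun _ => rfl) a
      rwa [twist_refl] at this
    have h00 : (e 0)ᵀ * J * e 0 = 0 := by
      rw [hadj, h01, mul_assoc, he.orth 1 0 (by decide), mul_zero]
    have h11 : (e 1)ᵀ * J * e 1 = 0 := by
      rw [hadj, h10, mul_assoc, he.orth 0 1 (by decide), mul_zero]
    have hsum : e 0 + e 1 = 1 := by
      have := he.sum_eq
      rwa [Fin.sum_univ_two] at this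
    refine sp_class_of_upper hodd hH (U := (e 0)ᵀ * J * e 1) ?_ fun g hg v => ?_
    · conv_rhs => rw [← hJ, show J = ((e 0 + e 1)ᵀ * J * (e 0 + e 1)) by
        rw [hsum, Matrix.transpose_one, one_mul, mul_one]]
      rw [Matrix.transpose_mul, Matrix.transpose_mul, Matrix.transpose_transpose, hJ,
        sympGram_char_two h2, ← hJ, Matrix.transpose_add, add_mul, add_mul, mul_add, mul_add, h00, h11]
      simp only [zero_add, add_zero, mul_assoc]
    · have hval : ∀ w, quadM ((e 0)ᵀ * J * e 1) w =
          formM (RingEquiv.refl F) J (e 0 *ᵥ w) (e 1 *ᵥ w) := fun w => by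
        rw [quadM, formM_mulVec, twist_refl]
      obtain ⟨s, hs⟩ := he.perm g hg
      have hge : ∀ i, e (s i) * (g : Matrix ιS ιS F) = (g : Matrix ιS ιS F) * e i := fun i => by
        rw [← hs i, conjM_apply, mul_assoc, Units.inv_mul, mul_one]
      rw [hval, hval]
      rcases (show s 0 = 0 ∨ s 0 = 1 by omega) with hs0 | hs0
      · have hs1 : s 1 = 1 := by
          rcases (show s 1 = 0 ∨ s 1 = 1 by omega) with h | h
          · exact absurd (s.injective (h.trans hs0.symm)) (by decide)
          · exact h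
        have a := hge 0
        have b := hge 1
        rw [hs0] at a
        rw [hs1] at b
        rw [Matrix.mulVec_mulVec, Matrix.mulVec_mulVec, a, b, ← Matrix.mulVec_mulVec, ← Matrix.mulVec_mulVec,
          formM_mulVec, hinv g hg]
      · have hs1 : s 1 = 0 := by
          rcases (show s 1 = 0 ∨ s 1 = 1 by omega) with h | h
          · exact h
          · exact absurd (s.injective (h.trans hs0.symm)) (by decide)
        have a := hge 0
        have b := hge 1
        rw [hs0] at a
        rw [hs1] at b
        rw [Matrix.mulVec_mulVec, Matrix.mulVec_mulVec, a, b, ← Matrix.mulVec_mulVec, ← Matrix.mulVec_mulVec,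
          formM_mulVec, hinv g hg, ← formM_transpose, hJ, sympGram_char_two h2]

/-- The extension field case. -/
theorem sp_extension {H : Subgroup (GL ιS F)} (hH : H ≤ spGL m F) (hext : HasExtension H) :
    SpHasClass H := by
  have hinv := invariant_of_le_spGL hH
  obtain ⟨r, K, hr, hK, hnorm, hstab, -⟩ := exists_stable_field sympGram_isFormGram hinv hext
  set J : Matrix ιS ιS F := (sympGram m F : Matrix ιS ιS F) with hJ
  have hswap : ∀ k : Matrix ιS ιS F, ∀ u v : ιS → F, adjM (RingEquiv.refl F) (sympGram m F) k = k →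
      formM (RingEquiv.refl F) J (k *ᵥ u) v = formM (RingEquiv.refl F) J u (k *ᵥ v) := fun k u v h => by
    rw [hJ, formM_adjM (fun _ => rfl), h]
  have hskew : ∀ u v : ιS → F, formM (RingEquiv.refl F) J u v = -formM (RingEquiv.refl F) J v u :=
    (isSymplecticForm_formM _ sympGram_transpose sympGram_alternating).skew
  by_cases hall : ∀ k ∈ K, adjM (RingEquiv.refl F) (sympGram m F) k = k
  · refine ⟨subalgebraNormalizer K ⊓ spGL m F, Or.inr (Or.inl ⟨r, K, hr, hK,
      fun k hk u v => by rw [sympForm_eq]; exact hswap k u v (hall k hk), fun k hk v => ?_, rfl⟩),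
      le_inf hnorm hH⟩
    rw [sympForm_eq]
    by_cases hodd : Odd (Fintype.card F)
    · have h1 := hskew (k *ᵥ v) v
      rw [← hswap k v v (hall k hk)] at h1
      exact mul_left_cancel₀ (two_ne_zero_of_odd hodd) (by linear_combination h1)
    · have h2 := two_eq_zero_of_not_odd hodd
      letI : Field ↥K := (isField_of_fieldSubalgebra hr.pos hK).toField
      haveI : Finite ↥K := Module.finite_of_finite F
      have h2K : (2 : ↥K) = 0 := by
        have := congrArg (algebraMap F ↥K) h2
        rwa [map_ofNat, map_zero] at this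
      have hsq : Function.Surjective (fun x : ↥K => x * x) := by
        refine Finite.surjective_of_injective fun a b hab => sub_eq_zero.mp (mul_self_eq_zero.mp ?_)
        have hab' : a * a = b * b := hab
        linear_combination hab' + (b * b - a * b) * h2K
      obtain ⟨s, hs⟩ := hsq ⟨k, hk⟩
      have hs' : (s : Matrix ιS ιS F) * s = k := congrArg Subtype.val hs
      rw [← hs', ← Matrix.mulVec_mulVec, hswap _ _ _ (hall _ s.2)]
      exact sympGram_alternating _
  push Not at hall
  obtain ⟨x, hxK, hx⟩ := hall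
  obtain ⟨hr2, hfix⟩ := stable_field_bilinear sympGram_isFormGram hr hK hstab hxK hx
  subst hr2
  by_cases hodd : Odd (Fintype.card F)
  · refine ⟨subalgebraNormalizer K ⊓ spGL m F, Or.inr (Or.inr (Or.inl ⟨K, hodd, hK,
      fun k hk => ⟨adjM (RingEquiv.refl F) (sympGram m F) k, (hstab k).mpr hk, fun u v => ?_⟩,
      fun hsa => hx ?_, rfl⟩)), le_inf hnorm hH⟩
    · rw [sympForm_eq, formM_adjM (fun _ => rfl)]
    · symm
      refine eq_adjM (fun _ => rfl) fun u v => ?_
      have := hsa x hxK u v
      rwa [sympForm_eq] at this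
  · have h2 := two_eq_zero_of_not_odd hodd
    set A := adjM (RingEquiv.refl F) (sympGram m F) with hA
    have hdfix : A (x + A x) = x + A x := by
      rw [hA, adjM_add, adjM_adjM sympGram_isFormGram, add_comm]
    obtain ⟨c, hc⟩ := hfix _ (K.add_mem hxK ((hstab x).mpr hxK)) hdfix
    have hneg : ∀ a : Matrix ιS ιS F, a + a = 0 := fun a => by
      ext i j
      rw [Matrix.add_apply, Matrix.zero_apply]
      linear_combination a i j * h2
    have hc0 : c ≠ 0 := by
      rintro rfl
      rw [zero_smul] at hc
      apply hx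
      calc A x = A x + (x + x) := by rw [hneg, add_zero]
        _ = x + (x + A x) := by abel
        _ = x := by rw [hc, add_zero]
    set k := c⁻¹ • x with hk
    have hkK : k ∈ K := K.smul_mem hxK _
    have hAk : A k = k + 1 := by
      rw [hk, hA, adjM_smul, RingEquiv.refl_apply, ← hA]
      have : A x = x + c • 1 := by
        rw [← hc]
        calc A x = A x + (x + x) := by rw [hneg, add_zero]
          _ = _ := by abel
      rw [this, smul_add, smul_smul, inv_mul_cancel₀ hc0, one_smul]
    refine sp_class_of_upper hodd hH (U := kᵀ * J) ?_ fun g hg v => ?_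
    · have hadj : kᵀ * J = J * A k := by
        have := adjM_spec (G := sympGram m F) (σ := RingEquiv.refl F) (fun _ => rfl) k
        rwa [twist_refl] at this
      rw [Matrix.transpose_mul, Matrix.transpose_transpose, hJ, sympGram_char_two h2, ← hJ, hadj, hAk, mul_add,
        mul_one, add_right_comm, hneg, zero_add]
    · have hval : ∀ w, quadM (kᵀ * J) w = formM (RingEquiv.refl F) J (k *ᵥ w) w := fun w => by
        have := formM_mulVec (RingEquiv.refl F) J k 1 w w
        rw [Matrix.one_mulVec, twist_refl, mul_one] at this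
        rw [quadM, this]
      set k' := conjM g⁻¹ k with hk'
      have hk'K : k' ∈ K := by
        have := (hnorm (H.inv_mem hg) k).mp hkK
        rwa [← conjM_apply] at this
      have hd : A (k' - k) = k' - k := by
        have hAk' : A k' = k' + 1 := by
          rw [hk', hA, adjM_conjM (fun _ => rfl) hinv (H.inv_mem hg), ← hA, hAk, map_add, map_one]
        have : A (k' - k) + A k = A k' := by rw [hA, ← adjM_add, sub_add_cancel]
        rw [hAk, hAk'] at this
        calc A (k' - k) = A (k' - k) + (k + 1) - (k + 1) := by abel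
          _ = _ := by rw [this]; abel
      obtain ⟨c', hc'⟩ := hfix _ (K.sub_mem hk'K hkK) hd
      have hgk : k * (g : Matrix ιS ιS F) = (g : Matrix ιS ιS F) * k' := by
        rw [hk', conjM_apply, inv_inv, ← mul_assoc, ← mul_assoc, Units.mul_inv, one_mul]
      rw [hval, hval, Matrix.mulVec_mulVec, hgk, ← Matrix.mulVec_mulVec, formM_mulVec, hinv g hg,
        show k' = k + c' • 1 by rw [← hc']; abel, Matrix.add_mulVec, formM_add_left,
        show (c' • (1 : Matrix ιS ιS F)) *ᵥ v = c' • v by rw [Matrix.smul_mulVec, Matrix.one_mulVec],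
        formM_smul_left, hJ, sympGram_alternating, mul_zero, add_zero]

/-- An anti-self-adjoint square root of a scalar, normalised up to sign, gives a class. -/
theorem sp_class_of_anti (hodd : Odd (Fintype.card F)) {H : Subgroup (GL ιS F)} (hH : H ≤ spGL m F)
    (hirr : ActsIrreducibly (matrixSet H)) (hm : 0 < m) {k : Matrix ιS ιS F} {δ : F} (hδ : δ ≠ 0)
    (hk2 : k * k = δ • 1) (hanti : adjM (RingEquiv.refl F) (sympGram m F) k = -k)
    (hconj : ∀ g ∈ H, conjM g k = k ∨ conjM g k = -k) : SpHasClass H := by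
  haveI : Nonempty ιS := ⟨Sum.inl ⟨0, hm⟩⟩
  have hinv := invariant_of_le_spGL hH
  have h2 := two_ne_zero_of_odd hodd
  by_cases hsq : IsSquare δ
  · obtain ⟨s, hs⟩ := hsq
    have hs0 : s ≠ 0 := fun h => hδ (by rw [hs, h, mul_zero])
    set j := s⁻¹ • k with hj
    have hjj : j * j = 1 := by
      rw [hj, Matrix.smul_mul, Matrix.mul_smul, hk2, smul_smul, smul_smul, hs,
        show s⁻¹ * s⁻¹ * (s * s) = 1 by field_simp, one_smul]
    let e : Fin 2 → Matrix ιS ιS F := ![(2 : F)⁻¹ • (1 + j), (2 : F)⁻¹ • (1 - j)]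
    have hsum : e 0 + e 1 = 1 := by
      show (2 : F)⁻¹ • (1 + j) + (2 : F)⁻¹ • (1 - j) = 1
      rw [← smul_add, show (1 + j) + (1 - j) = (2 : F) • (1 : Matrix ιS ιS F) by rw [two_smul]; abel,
        smul_smul, inv_mul_cancel₀ h2, one_smul]
    have h01 : e 0 * e 1 = 0 := by
      show ((2 : F)⁻¹ • (1 + j)) * ((2 : F)⁻¹ • (1 - j)) = 0
      rw [Matrix.smul_mul, Matrix.mul_smul,
        show (1 + j) * (1 - j) = 1 - j * j by noncomm_ring, hjj, sub_self, smul_zero, smul_zero]
    have h10 : e 1 * e 0 = 0 := by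
      show ((2 : F)⁻¹ • (1 - j)) * ((2 : F)⁻¹ • (1 + j)) = 0
      rw [Matrix.smul_mul, Matrix.mul_smul,
        show (1 - j) * (1 + j) = 1 - j * j by noncomm_ring, hjj, sub_self, smul_zero, smul_zero]
    have hadj : adjM (RingEquiv.refl F) (sympGram m F) (e 0) = e 1 := by
      show adjM (RingEquiv.refl F) (sympGram m F) ((2 : F)⁻¹ • (1 + j)) = (2 : F)⁻¹ • (1 - j)
      rw [adjM_smul, adjM_add, adjM_one, hj, adjM_smul, hanti, RingEquiv.refl_apply, RingEquiv.refl_apply,
        smul_neg, ← sub_eq_add_neg]
    have hadj' : adjM (RingEquiv.refl F) (sympGram m F) (e 1) = e 0 := by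
      rw [← hadj, adjM_adjM sympGram_isFormGram]
    have hne0 : e 0 ≠ 0 := fun h => by
      have : e 1 = 0 := by rw [← hadj, h, adjM_zero]
      rw [h, this, add_zero] at hsum
      exact zero_ne_one hsum
    have hne1 : e 1 ≠ 0 := fun h => hne0 (by rw [← hadj', h, adjM_zero])
    have hperm : ∀ g ∈ H, (conjM g (e 0) = e 0 ∧ conjM g (e 1) = e 1) ∨
        (conjM g (e 0) = e 1 ∧ conjM g (e 1) = e 0) := by
      intro g hg
      rcases hconj g hg with h | h
      · left
        constructor <;> simp [e, hj, map_smul, h]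
      · right
        constructor <;> simp [e, hj, map_smul, h, sub_eq_add_neg]
    have htrans : ∃ g ∈ H, conjM g (e 0) = e 1 ∧ conjM g (e 1) = e 0 := by
      by_contra hcon
      push Not at hcon
      have hfix : ∀ g ∈ H, conjM g (e 0) = e 0 := fun g hg => by
        rcases hperm g hg with h | h
        · exact h.1
        · exact absurd h.2 (hcon g hg h.1)
      have hidem : e 0 * e 0 = e 0 := by
        calc e 0 * e 0 = e 0 * (e 0 + e 1) := by rw [mul_add, h01, add_zero]
          _ = e 0 := by rw [hsum, mul_one]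
      rcases actsIrreducibly_iff.mp hirr (rangeOf (e 0)) (fun g hg w hw => by
        rw [← hfix g hg, ← map_rangeOf]
        exact ⟨w, hw, toLin'_mulVec _ _⟩) with h | h
      · apply hne0
        have h' : Matrix.toLin' (e 0) = 0 := LinearMap.range_eq_bot.mp h
        simpa using h'
      · apply hne1
        have : e 0 = 1 := by
          apply Matrix.toLin'.injective
          refine LinearMap.ext fun v => ?_
          rw [toLin'_mulVec, toLin'_mulVec, Matrix.one_mulVec]
          exact (mem_rangeOf_idem hidem).mp (by rw [h]; trivial)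
        calc e 1 = (e 0 + e 1) - e 0 := by abel
          _ = 0 := by rw [hsum, this, sub_self]
    have he : IsIdemFrame H e := by
      refine ⟨le_rfl, fun i => ?_, fun i j hij => ?_, by rw [Fin.sum_univ_two, hsum], fun i => ?_,
        fun g hg => ?_, fun i j => ?_⟩
      · fin_cases i
        · calc e 0 * e 0 = e 0 * (e 0 + e 1) := by rw [mul_add, h01, add_zero]
            _ = e 0 := by rw [hsum, mul_one]
        · calc e 1 * e 1 = e 1 * (e 0 + e 1) := by rw [mul_add, h10, zero_add]
            _ = e 1 := by rw [hsum, mul_one]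
      · fin_cases i <;> fin_cases j
        · exact absurd rfl hij
        · exact h01
        · exact h10
        · exact absurd rfl hij
      · fin_cases i
        · exact hne0
        · exact hne1
      · rcases hperm g hg with h | h
        · exact ⟨Equiv.refl _, fun i => by fin_cases i <;> simp [h.1, h.2]⟩
        · exact ⟨Equiv.swap 0 1, fun i => by fin_cases i <;> simp [h.1, h.2]⟩
      · obtain ⟨g, hg, hg0, hg1⟩ := htrans
        fin_cases i <;> fin_cases j
        · exact ⟨1, H.one_mem, conjM_one _⟩
        · exact ⟨g, hg, hg0⟩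
        · exact ⟨g, hg, hg1⟩
        · exact ⟨1, H.one_mem, conjM_one _⟩
    obtain ⟨k', hk', hle⟩ := he.decomposition
    have hkm : k' = m := by
      have := finrank_of_two_members hk'
      rw [Fintype.card_sum, Fintype.card_fin] at this
      omega
    subst hkm
    refine ⟨decompositionStabilizer (fun i => rangeOf (e i)) ⊓ spGL k' F, Or.inl (Or.inr (Or.inr (Or.inr
      (Or.inl ⟨_, hodd, hk', fun i => ?_, rfl⟩)))), le_inf hle hH⟩
    rw [sympForm_eq]
    fin_cases i
    · exact totallySingular_of_adj (fun _ => rfl) (he.idem 0) hadj h10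
    · exact totallySingular_of_adj (fun _ => rfl) (he.idem 1) hadj' h01
  · let L : (F × F) →ₗ[F] Matrix ιS ιS F :=
      { toFun := fun p => p.1 • 1 + p.2 • k
        map_add' := fun p q => by simp only [Prod.fst_add, Prod.snd_add, add_smul]; abel
        map_smul' := fun c p => by simp [smul_smul, smul_add] }
    have hone : L (1, 0) = 1 := by simp [L]
    have hmul : ∀ p q : F × F, L p * L q = L (p.1 * q.1 + δ * (p.2 * q.2), p.1 * q.2 + p.2 * q.1) := by
      intro p q
      simp only [L, LinearMap.coe_mk, AddHom.coe_mk, add_mul, mul_add, Matrix.smul_mul, Matrix.mul_smul,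
        one_mul, mul_one, hk2, smul_smul, add_smul]
      module
    let K : Subalgebra F (Matrix ιS ιS F) := (LinearMap.range L).toSubalgebra ⟨_, hone⟩ (by
      rintro _ _ ⟨p, rfl⟩ ⟨q, rfl⟩
      exact ⟨_, (hmul p q).symm⟩)
    have hinj : Function.Injective L := by
      rw [← LinearMap.ker_eq_bot, LinearMap.ker_eq_bot']
      intro p hp
      by_contra hp0
      have h := hmul p (p.1, -p.2)
      rw [hp, zero_mul] at h
      have hz : p.1 * p.1 + δ * (p.2 * -p.2) = 0 := by
        have h1 := congrFun (congrFun h.symm (Classical.arbitrary ιS)) (Classical.arbitrary ιS)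
        simp only [L, LinearMap.coe_mk, AddHom.coe_mk] at h1
        rw [show p.1 * -p.2 + p.2 * p.1 = 0 by ring, zero_smul, add_zero] at h1
        simpa using h1
      rcases eq_or_ne p.2 0 with hp2 | hp2
      · rw [hp2] at hz
        exact hp0 (Prod.ext (mul_self_eq_zero.mp (by simpa using hz)) hp2)
      · exact hsq ⟨p.1 / p.2, by field_simp; linear_combination -hz⟩
    have hKmem : ∀ z, z ∈ K ↔ ∃ p, L p = z := fun z => Iff.rfl
    have hK : IsFieldSubalgebra 2 K := by
      refine ⟨?_, ?_, ?_⟩
      · rintro _ ⟨p, rfl⟩ _ ⟨q, rfl⟩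
        rw [hmul, hmul]
        congr 1
        ext <;> simp only <;> ring
      · rintro _ ⟨p, rfl⟩ hp0
        have hN : p.1 * p.1 - δ * (p.2 * p.2) ≠ 0 := by
          intro hz
          rcases eq_or_ne p.2 0 with hp2 | hp2
          · rw [hp2] at hz
            apply hp0
            rw [show p = 0 from Prod.ext (mul_self_eq_zero.mp (by simpa using hz)) hp2, map_zero]
          · exact hsq ⟨p.1 / p.2, by field_simp; linear_combination -hz⟩
        refine ⟨(p.1 * p.1 - δ * (p.2 * p.2))⁻¹ • L (p.1, -p.2), ⟨_, map_smul L _ _⟩, ?_⟩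
        rw [Matrix.mul_smul, hmul, ← map_smul, ← hone]
        congr 1
        ext
        · simp only [Prod.smul_mk, smul_eq_mul]
          linear_combination mul_inv_cancel₀ hN
        · simp only [Prod.smul_mk, smul_eq_mul]
          ring
      · rw [← Subalgebra.finrank_toSubmodule, show Subalgebra.toSubmodule K = LinearMap.range L from
            Submodule.toSubalgebra_toSubmodule _ _ _,
          LinearMap.finrank_range_of_inj hinj, Module.finrank_prod, Module.finrank_self]
    have hmapK : ∀ g ∈ H, ∀ z ∈ K, conjM g z ∈ K := by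
      rintro g hg _ ⟨p, rfl⟩
      rcases hconj g hg with h | h
      · exact ⟨p, by simp [L, h]⟩
      · exact ⟨(p.1, -p.2), by simp [L, h]⟩
    refine ⟨subalgebraNormalizer K ⊓ spGL m F, Or.inr (Or.inr (Or.inl ⟨K, hodd, hK, ?_, ?_, rfl⟩)),
      le_inf (fun g hg z => ⟨fun hz => hmapK g hg z hz, fun hz => ?_⟩) hH⟩
    · rintro _ ⟨p, rfl⟩
      refine ⟨L (p.1, -p.2), ⟨_, rfl⟩, fun u v => ?_⟩
      rw [sympForm_eq, formM_adjM (fun _ => rfl)]
      congr 2
      simp only [L, LinearMap.coe_mk, AddHom.coe_mk, adjM_add, adjM_smul, adjM_one, hanti,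
        RingEquiv.refl_apply, smul_neg, neg_smul]
    · intro hsa
      have hk : k ∈ K := ⟨(0, 1), by simp [L]⟩
      have h : k = -k := by
        rw [← hanti]
        refine eq_adjM (fun _ => rfl) fun u v => ?_
        have := hsa k hk u v
        rwa [sympForm_eq] at this
      apply hδ
      have h0 : k = 0 := by
        ext a b
        have := congrFun (congrFun h a) b
        rw [Matrix.neg_apply] at this
        exact mul_left_cancel₀ h2 (by rw [Matrix.zero_apply, mul_zero]; linear_combination this)
      rw [h0, mul_zero] at hk2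
      have := congrFun (congrFun hk2.symm (Classical.arbitrary ιS)) (Classical.arbitrary ιS)
      simpa using this
    · have h := hmapK g⁻¹ (H.inv_mem hg) _ hz
      rwa [← conjM_apply, conjM_inv_conjM] at h

end Cfsg.Agent.Lib.Aschbacher
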