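/-
Aschbacher's theorem for the symplectic groups.
-/
import Cfsg.Agent.Lib.Aschbacher.SympCases

set_option autoImplicit false

namespace Cfsg.Agent.Lib.Aschbacher

open Cfsg Cfsg.Geo Matrix
open scoped Kronecker

set_option maxHeartbeats 1000000

variable {F : Type*} [Field F] [Fintype F] {m : ℕ}

local notation "ιS" => (Fin m ⊕ Fin m)

omit [Fintype F] in
lemma twist_refl_transpose {n : ℕ} {A : Matrix (Fin n) (Fin n) F} {c : F}
    (h : twist (RingEquiv.refl F) Aᵀ = c • A) : Aᵀ = c • A := by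
  rwa [twist_refl] at h

/-- A symmetric invertible Gram matrix gives a symmetric form. -/
lemma isSymmetricForm_formM {n : ℕ} (G : GL (Fin n) F)
    (hG : (G : Matrix (Fin n) (Fin n) F)ᵀ = (G : Matrix (Fin n) (Fin n) F)) :
    IsSymmetricForm (formM (RingEquiv.refl F) (G : Matrix (Fin n) (Fin n) F)) where
  bilinear := isBilinearForm_formM _
  symm u v := by rw [← formM_transpose (G : Matrix (Fin n) (Fin n) F) v u, hG]
  nondegenerate := nondegenerate_formM _ G

/-- A skew invertible Gram matrix in odd characteristic gives a symplectic form. -/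
lemma isSymplecticForm_of_odd (hodd : Odd (Fintype.card F)) {n : ℕ} (G : GL (Fin n) F)
    (hG : (G : Matrix (Fin n) (Fin n) F)ᵀ = -(G : Matrix (Fin n) (Fin n) F)) :
    IsSymplecticForm (formM (RingEquiv.refl F) (G : Matrix (Fin n) (Fin n) F)) :=
  isSymplecticForm_formM G hG fun v => by
    have h1 := formM_transpose (G : Matrix (Fin n) (Fin n) F) v v
    rw [hG, ← neg_one_smul F (G : Matrix (Fin n) (Fin n) F), formM_smul] at h1
    apply mul_left_cancel₀ (two_ne_zero_of_odd hodd)
    linear_combination -h1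

omit [Fintype F] in
lemma id_eq_refl : (id : F → F) = ⇑(RingEquiv.refl F) := rfl

/-- A stable tensor decomposition with skew first and symmetric second factor, in odd characteristic. -/
theorem sp_tensor_odd (hm : 0 < m) (hodd : Odd (Fintype.card F)) {H : Subgroup (GL ιS F)}
    (hH : H ≤ spGL m F) (hirr : ActsIrreducibly (matrixSet H)) {d n₂ : ℕ} (hd : 2 ≤ d) (hn₂ : 2 ≤ n₂)
    {e : ιS ≃ Fin d × Fin n₂} {B : GL ιS F} {G₁ : GL (Fin d) F} {G₂ : GL (Fin n₂) F}
    (h1 : (G₁ : Matrix (Fin d) (Fin d) F)ᵀ = -(G₁ : Matrix (Fin d) (Fin d) F))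
    (h2 : (G₂ : Matrix (Fin n₂) (Fin n₂) F)ᵀ = (G₂ : Matrix (Fin n₂) (Fin n₂) F))
    (hA : gramIn (RingEquiv.refl F) (sympGram m F) e B =
      (G₁ : Matrix (Fin d) (Fin d) F) ⊗ₖ (G₂ : Matrix (Fin n₂) (Fin n₂) F))
    (hle : H ≤ tensorProductSubgroup d n₂ e B) : SpHasClass H := by
  have hinv := invariant_of_le_spGL hH
  rcases Nat.lt_or_ge n₂ 3 with hlt | hge
  swap
  · exact ⟨tensorProductSubgroup d n₂ e B ⊓ spGL m F, Or.inr (Or.inr (Or.inr (Or.inl
      ⟨d, n₂, e, B, _, _, hodd, hge, isSymplecticForm_of_odd hodd G₁ h1, isSymmetricForm_formM G₂ h2,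
        (by rw [sympForm_eq, id_eq_refl]; exact tensorFormStructure_of_gram one_ne_zero (by rw [one_smul]; exact hA)),
        rfl⟩))), le_inf hle hH⟩
  obtain rfl : n₂ = 2 := by omega
  haveI : Nonempty (Fin d) := ⟨⟨0, by omega⟩⟩
  set J₂ : Matrix (Fin 2) (Fin 2) F := ((G₂⁻¹ : GL (Fin 2) F) : Matrix (Fin 2) (Fin 2) F) * altTwo F with hJ₂
  set Gi : Matrix (Fin 2) (Fin 2) F := ((G₂⁻¹ : GL (Fin 2) F) : Matrix (Fin 2) (Fin 2) F) with hGi
  have hGiT : Giᵀ = Gi := by
    have e1 : Giᵀ * (G₂ : Matrix (Fin 2) (Fin 2) F) = 1 := by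
      rw [← h2, hGi, ← Matrix.transpose_mul, Units.mul_inv, Matrix.transpose_one]
    calc Giᵀ = Giᵀ * ((G₂ : Matrix (Fin 2) (Fin 2) F) * Gi) := by rw [hGi, Units.mul_inv, mul_one]
      _ = Gi := by rw [← mul_assoc, e1, one_mul]
  have hA2 : altTwo F * altTwo F = (-1 : F) • (1 : Matrix (Fin 2) (Fin 2) F) := by
    ext i j; fin_cases i <;> fin_cases j <;> simp [altTwo]
  set δ : F := -Gi.det with hδdef
  have hJJ : J₂ * J₂ = δ • 1 := by
    have := altTwo_congr Gi
    rw [hGiT] at this
    calc J₂ * J₂ = Gi * altTwo F * Gi * altTwo F := by rw [hJ₂]; simp only [mul_assoc]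
      _ = δ • 1 := by rw [this, Matrix.smul_mul, hA2, smul_smul, hδdef, mul_neg_one]
  have hδ : δ ≠ 0 := by
    rw [hδdef, neg_ne_zero]
    exact ((Matrix.isUnit_iff_isUnit_det _).mp (G₂⁻¹).isUnit).ne_zero
  set k := framed e B ((1 : Matrix (Fin d) (Fin d) F) ⊗ₖ J₂) with hk
  refine sp_class_of_anti hodd hH hirr hm (k := k) hδ ?_ ?_ fun g hg => ?_
  · rw [hk, ← map_mul, ← Matrix.mul_kronecker_mul, one_mul, hJJ, Matrix.kronecker_smul,
      Matrix.one_kronecker_one, map_smul, map_one]
  · symm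
    refine eq_adjM (fun _ => rfl) fun u v => ?_
    have hT : J₂ᵀ * (G₂ : Matrix (Fin 2) (Fin 2) F) = -((G₂ : Matrix (Fin 2) (Fin 2) F) * J₂) := by
      have hAT : (altTwo F)ᵀ = -altTwo F := by
        ext i j; fin_cases i <;> fin_cases j <;> simp [altTwo]
      rw [hJ₂, Matrix.transpose_mul, hGiT, hAT, Matrix.neg_mul, Matrix.neg_mul, ← mul_assoc,
        hGi, Units.mul_inv, one_mul, mul_assoc, Units.inv_mul, mul_one]
    set A := gramIn (RingEquiv.refl F) (sympGram m F) e B
    set kk := (1 : Matrix (Fin d) (Fin d) F) ⊗ₖ J₂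
    have hkk : kkᵀ * A = A * (-kk) := by
      rw [hA, mul_neg, ← Matrix.kroneckerMap_transpose, Matrix.transpose_one, ← Matrix.mul_kronecker_mul,
        ← Matrix.mul_kronecker_mul, one_mul, mul_one, hT]
      ext ⟨a, b⟩ ⟨c, d'⟩
      simp
    have hkf : ∀ w : ιS → F, k *ᵥ w = (B : Matrix ιS ιS F) *ᵥ
        ((kk *ᵥ ((((B⁻¹ : GL ιS F) : Matrix ιS ιS F) *ᵥ w) ∘ e.symm)) ∘ e) := fun w => by
      rw [hk, ← frame_mulVec, show ((((B⁻¹ : GL ιS F) : Matrix ιS ιS F) *ᵥ (framed e B kk *ᵥ w)) ∘ e.symm) ∘ e =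
        ((B⁻¹ : GL ιS F) : Matrix ιS ιS F) *ᵥ (framed e B kk *ᵥ w) by funext i; simp,
        Matrix.mulVec_mulVec, Units.mul_inv, Matrix.one_mulVec]
    have hid : ∀ w : ιS → F, w = (B : Matrix ιS ιS F) *ᵥ
        (((((B⁻¹ : GL ιS F) : Matrix ιS ιS F) *ᵥ w) ∘ e.symm) ∘ e) := fun w => by
      rw [show ((((B⁻¹ : GL ιS F) : Matrix ιS ιS F) *ᵥ w) ∘ e.symm) ∘ e =
        ((B⁻¹ : GL ιS F) : Matrix ιS ιS F) *ᵥ w by funext i; simp,
        Matrix.mulVec_mulVec, Units.mul_inv, Matrix.one_mulVec]
    have hneg : ∀ z : Fin d × Fin 2 → F, (B : Matrix ιS ιS F) *ᵥ (((-kk) *ᵥ z) ∘ e) =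
        -((B : Matrix ιS ιS F) *ᵥ ((kk *ᵥ z) ∘ e)) := fun z => by
      rw [Matrix.neg_mulVec, show (-(kk *ᵥ z)) ∘ e = -((kk *ᵥ z) ∘ e) from rfl, Matrix.mulVec_neg]
    rw [Matrix.neg_mulVec, hkf u, hkf v, ← hneg]
    conv_lhs => arg 4; rw [hid v]
    conv_rhs => arg 3; rw [hid u]
    rw [formM_frame, formM_frame]
    generalize (((B⁻¹ : GL ιS F) : Matrix ιS ιS F) *ᵥ u) ∘ e.symm = x
    generalize (((B⁻¹ : GL ιS F) : Matrix ιS ιS F) *ᵥ v) ∘ e.symm = y
    have e1 := formM_mulVec (RingEquiv.refl F) A kk 1 x y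
    have e2 := formM_mulVec (RingEquiv.refl F) A 1 (-kk) x y
    rw [Matrix.one_mulVec, twist_refl, mul_one] at e1
    rw [Matrix.one_mulVec, twist_refl, Matrix.transpose_one, one_mul] at e2
    rw [e1, e2, hkk]
  · obtain ⟨a, b, c, hc, hval, -, hb⟩ := exists_similitudes hA (hle hg) (hinv g hg)
    rw [twist_refl] at hb
    set bb := (b : Matrix (Fin 2) (Fin 2) F)
    have hbu : bbᵀ * altTwo F * bb = bb.det • altTwo F := altTwo_congr bb
    have e1 : bb * Gi * bbᵀ = c⁻¹ • Gi := by
      have h3 : (c • (bbᵀ * (G₂ : Matrix (Fin 2) (Fin 2) F))) * (bb * Gi) = 1 := by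
        rw [Matrix.smul_mul, ← mul_assoc, mul_assoc bbᵀ, ← Matrix.smul_mul, ← mul_assoc bbᵀ, hb, hGi,
          Units.mul_inv]
      have h4 := mul_eq_one_comm.mp h3
      rw [Matrix.mul_smul, ← mul_assoc] at h4
      have h5 : c • (bb * Gi * bbᵀ) = Gi := by
        calc c • (bb * Gi * bbᵀ) = c • (bb * Gi * bbᵀ * (G₂ : Matrix (Fin 2) (Fin 2) F)) * Gi := by
              rw [hGi, Matrix.smul_mul, mul_assoc _ (G₂ : Matrix (Fin 2) (Fin 2) F), Units.mul_inv, mul_one]
          _ = Gi := by rw [h4, one_mul]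
      exact (inv_smul_smul₀ hc (bb * Gi * bbᵀ)).symm.trans (congrArg (c⁻¹ • ·) h5)
    set bi := ((b⁻¹ : GL (Fin 2) F) : Matrix (Fin 2) (Fin 2) F)
    have e2 : altTwo F * bb = bb.det • (biᵀ * altTwo F) := by
      rw [← Matrix.mul_smul, ← hbu, ← mul_assoc, ← mul_assoc, ← Matrix.transpose_mul, Units.mul_inv,
        Matrix.transpose_one, one_mul]
    have e3 : J₂ * bb = (c * bb.det) • (bb * J₂) := by
      have hGb : Gi * biᵀ = c • (bb * Gi) := by
        have h6 := congrArg (fun M => M * biᵀ) e1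
        simp only [Matrix.smul_mul] at h6
        rw [mul_assoc _ bbᵀ, ← Matrix.transpose_mul, Units.inv_mul, Matrix.transpose_one, mul_one] at h6
        rw [h6, smul_smul, mul_inv_cancel₀ hc, one_smul]
      rw [hJ₂, mul_assoc, e2, Matrix.mul_smul, ← mul_assoc, hGb, Matrix.smul_mul, smul_smul,
        mul_comm, mul_assoc]
    set lam := c * bb.det with hlam
    have hlam0 : lam ≠ 0 := mul_ne_zero hc ((Matrix.isUnit_iff_isUnit_det _).mp b.isUnit).ne_zero
    have hcj : conjM g k = lam⁻¹ • k := by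
      set ai := ((a⁻¹ : GL (Fin d) F) : Matrix (Fin d) (Fin d) F)
      have hgi : ((g⁻¹ : GL ιS F) : Matrix ιS ιS F) = framed e B (ai ⊗ₖ bi) := by
        apply g.isUnit.mul_left_cancel
        rw [Units.mul_inv, hval, ← map_mul, ← Matrix.mul_kronecker_mul, Units.mul_inv, Units.mul_inv,
          Matrix.one_kronecker_one, map_one]
      have e4 : bb * J₂ * bi = lam⁻¹ • J₂ := by
        rw [show bb * J₂ = lam⁻¹ • (J₂ * bb) by rw [e3, smul_smul, inv_mul_cancel₀ hlam0, one_smul],
          Matrix.smul_mul, mul_assoc, Units.mul_inv, mul_one]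
      rw [conjM_apply, hval, hgi, hk, ← map_mul, ← map_mul, ← Matrix.mul_kronecker_mul,
        ← Matrix.mul_kronecker_mul, mul_one, Units.mul_inv, e4, Matrix.kronecker_smul, map_smul]
    have hkk2 : k * k = δ • 1 := by
      rw [hk, ← map_mul, ← Matrix.mul_kronecker_mul, one_mul, hJJ, Matrix.kronecker_smul,
        Matrix.one_kronecker_one, map_smul, map_one]
    have hsq : lam⁻¹ * lam⁻¹ = 1 := by
      have h := congrArg (conjM g) hkk2
      rw [map_mul, hcj, Matrix.smul_mul, Matrix.mul_smul, hkk2, smul_smul, smul_smul, map_smul, map_one] at h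
      have h0 : ((lam⁻¹ * lam⁻¹ - 1) * δ) • (1 : Matrix ιS ιS F) = 0 := by
        rw [sub_mul, one_mul, sub_smul, h, sub_self]
      haveI : Nonempty ιS := ⟨Sum.inl ⟨0, hm⟩⟩
      exact sub_eq_zero.mp ((mul_eq_zero.mp ((smul_eq_zero.mp h0).resolve_right one_ne_zero)).resolve_right hδ)
    rcases mul_self_eq_one_iff.mp hsq with h | h
    · left; rw [hcj, h, one_smul]
    · right; rw [hcj, h, neg_one_smul]

omit [Fintype F] in
lemma diag_eq_zero_of_alt {n : ℕ} {A : Matrix (Fin n) (Fin n) F}
    (h : ∀ v, formM (RingEquiv.refl F) A v v = 0) (i : Fin n) : A i i = 0 := by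
  rw [← formM_single (RingEquiv.refl F) A i i]
  exact h _

omit [Fintype F] in
/-- An upper triangular matrix with the given symmetric, zero-diagonal symmetrisation. -/
lemma exists_upper {n : ℕ} {A : Matrix (Fin n) (Fin n) F} (hA : Aᵀ = A) (hdiag : ∀ i, A i i = 0) :
    ∃ U : Matrix (Fin n) (Fin n) F, U + Uᵀ = A := by
  refine ⟨Matrix.of fun i j => if i < j then A i j else 0, ?_⟩
  ext i j
  simp only [Matrix.add_apply, Matrix.of_apply, Matrix.transpose_apply]
  have hs : A j i = A i j := congrFun (congrFun hA i) j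
  rcases lt_trichotomy i j with h | h | h
  · rw [if_pos h, if_neg (asymm h), add_zero]
  · subst h
    rw [if_neg (lt_irrefl i), add_zero, hdiag]
  · rw [if_neg (asymm h), if_pos h, zero_add, hs]

omit [Fintype F] in
lemma quadM_kronecker {d n : ℕ} (U : Matrix (Fin d) (Fin d) F) (A : Matrix (Fin n) (Fin n) F)
    (u : Fin d → F) (v : Fin n → F) :
    quadM (U ⊗ₖ A) (fun p => u p.1 * v p.2) = quadM U u * quadM A v := by
  simp only [quadM, formM, dotProduct, Matrix.mulVec, RingEquiv.refl_apply, kroneckerMap_apply,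
    Fintype.sum_prod_type]
  rw [Finset.sum_mul_sum]
  refine Finset.sum_congr rfl fun i _ => Finset.sum_congr rfl fun j _ => ?_
  rw [show u i * (∑ i', U i i' * u i') * (v j * ∑ l, A j l * v l) =
    u i * v j * ((∑ i', U i i' * u i') * ∑ l, A j l * v l) by ring, Finset.sum_mul_sum]
  congr 1
  exact Finset.sum_congr rfl fun _ _ => Finset.sum_congr rfl fun _ _ => by ring

/-- The tensor case. -/
theorem sp_tensor (hm : 0 < m) {H : Subgroup (GL ιS F)} (hH : H ≤ spGL m F)
    (hirr : ActsIrreducibly (matrixSet H)) (ht : HasTensor H) : SpHasClass H := by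
  classical
  have hinv := invariant_of_le_spGL hH
  obtain ⟨N, d, n₂, e, B, hNH, -, hd, hn₂, hmem, hle⟩ := ht
  haveI : Nonempty (Fin d) := ⟨⟨0, by omega⟩⟩
  haveI : Nonempty (Fin n₂) := ⟨⟨0, by omega⟩⟩
  obtain ⟨G₁, G₂, c₁, c₂, Nd, hA, hcc, hc1, h1, h2, hNd, hNdinv⟩ :=
    exists_tensor_gram sympGram_isFormGram (by omega) (by omega) e B hmem (hinv.mono hNH)
  have h1' := twist_refl_transpose h1
  have h2' := twist_refl_transpose h2
  rw [RingEquiv.refl_apply] at hc1
  by_cases hodd : Odd (Fintype.card F)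
  · rcases mul_self_eq_one_iff.mp hc1 with h | h
    · subst h
      rw [one_mul] at hcc
      subst hcc
      rw [one_smul] at h1'
      rw [neg_smul, one_smul] at h2'
      exact sp_tensor_odd hm hodd hH hirr hn₂ hd (B := B) h2' h1' (gramIn_swap hA)
        (hle.trans (tensorProduct_le_swap e B))
    · subst h
      have hc2 : c₂ = 1 := by linear_combination -hcc
      subst hc2
      rw [one_smul] at h2'
      rw [neg_smul, one_smul] at h1'
      exact sp_tensor_odd hm hodd hH hirr hd hn₂ (B := B) h1' h2' hA hle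
  -- characteristic two
  have h20 := two_eq_zero_of_not_odd hodd
  have hc1' : c₁ = 1 := by
    rcases mul_self_eq_one_iff.mp hc1 with h | h
    · exact h
    · rw [h]; linear_combination -h20
  subst hc1'
  have hc2' : c₂ = 1 := by rw [one_mul] at hcc; rw [hcc]; linear_combination -h20
  subst hc2'
  rw [one_smul] at h1' h2'
  have halt1 := alternating_of_invariant hodd (by rw [Fintype.card_fin]; omega) (absIrred_of_span_top hNd).1
    h1' hNdinv
  have hsim : ∀ g ∈ H, ∃ (a : GL (Fin d) F) (b : GL (Fin n₂) F) (c : F), c ≠ 0 ∧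
      (g : Matrix ιS ιS F) = framed e B ((a : Matrix (Fin d) (Fin d) F) ⊗ₖ (b : Matrix (Fin n₂) (Fin n₂) F)) ∧
      c • ((b : Matrix (Fin n₂) (Fin n₂) F)ᵀ * (G₂ : Matrix (Fin n₂) (Fin n₂) F) *
        (b : Matrix (Fin n₂) (Fin n₂) F)) = (G₂ : Matrix (Fin n₂) (Fin n₂) F) := by
    intro g hg
    obtain ⟨a, b, c, hc, hval, -, hb⟩ := exists_similitudes hA (hle hg) (hinv g hg)
    rw [twist_refl] at hb
    exact ⟨a, b, c, hc, hval, hb⟩
  -- the second factor is alternating as well
  let Φ : (ιS → F) → (Fin d × Fin n₂ → F) := fun v => (((B⁻¹ : GL ιS F) : Matrix ιS ιS F) *ᵥ v) ∘ e.symm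
  have hdiag2 : ∀ l, (G₂ : Matrix (Fin n₂) (Fin n₂) F) l l = 0 := by
    let Ψ : (Fin d × Fin n₂ → F) →+ (Fin d → F) := AddMonoidHom.mk'
      (fun x i => ∑ l, (G₂ : Matrix (Fin n₂) (Fin n₂) F) l l * (x (i, l)) ^ 2) (fun x y => by
        funext i
        simp only [Pi.add_apply, ← Finset.sum_add_distrib]
        refine Finset.sum_congr rfl fun l _ => ?_
        linear_combination ((G₂ : Matrix (Fin n₂) (Fin n₂) F) l l * x (i, l) * y (i, l)) * h20)
    have hΨ : ∀ (c : F) x, Ψ (c • x) = c ^ 2 • Ψ x := fun c x => by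
      funext i
      show ∑ l : Fin n₂, _ = c ^ 2 * ∑ l : Fin n₂, _
      rw [Finset.mul_sum]
      exact Finset.sum_congr rfl fun l _ => by simp only [Pi.smul_apply, smul_eq_mul]; ring
    have hdiagq : ∀ (w : Fin n₂ → F), formM (RingEquiv.refl F) (G₂ : Matrix (Fin n₂) (Fin n₂) F) w w =
        ∑ l, (G₂ : Matrix (Fin n₂) (Fin n₂) F) l l * w l ^ 2 := by
      intro w
      let D : (Fin n₂ → F) →+ F := AddMonoidHom.mk'
        (fun w => formM (RingEquiv.refl F) (G₂ : Matrix (Fin n₂) (Fin n₂) F) w w -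
          ∑ l, (G₂ : Matrix (Fin n₂) (Fin n₂) F) l l * w l ^ 2) (fun a b => by
          rw [formM_add_left, formM_add_right, formM_add_right, ← formM_transpose _ a b, h2']
          have : ∑ l, (G₂ : Matrix (Fin n₂) (Fin n₂) F) l l * (a + b) l ^ 2 =
              (∑ l, (G₂ : Matrix (Fin n₂) (Fin n₂) F) l l * a l ^ 2) +
              (∑ l, (G₂ : Matrix (Fin n₂) (Fin n₂) F) l l * b l ^ 2) := by
            rw [← Finset.sum_add_distrib]
            refine Finset.sum_congr rfl fun l _ => ?_
            simp only [Pi.add_apply]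
            linear_combination ((G₂ : Matrix (Fin n₂) (Fin n₂) F) l l * a l * b l) * h20
          rw [this]
          linear_combination (formM (RingEquiv.refl F) (G₂ : Matrix (Fin n₂) (Fin n₂) F) a b) * h20)
      have h0 : D w = 0 := by
        rw [← Finset.univ_sum_single w, map_sum]
        refine Finset.sum_eq_zero fun l _ => ?_
        show (_ : F) - _ = 0
        rw [Finset.sum_eq_single l (fun j _ hj => by simp [hj]) (fun h => absurd (Finset.mem_univ l) h),
          show (Pi.single l (w l) : Fin n₂ → F) = w l • Pi.single l (1 : F) by rw [← Pi.single_smul]; simp,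
          formM_smul_left, formM_smul_right, formM_single]
        simp
        ring
      exact sub_eq_zero.mp h0
    let Z : Submodule F (ιS → F) :=
      { carrier := {v | Ψ (Φ v) = 0}
        zero_mem' := by
          show Ψ (Φ 0) = 0
          rw [show Φ 0 = 0 by funext a; simp [Φ], map_zero]
        add_mem' := fun {a b} (ha : _ = 0) (hb : _ = 0) => by
          show Ψ (Φ (a + b)) = 0
          rw [show Φ (a + b) = Φ a + Φ b by funext x; simp [Φ, Matrix.mulVec_add], map_add, ha, hb, add_zero]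
        smul_mem' := fun c a (ha : _ = 0) => by
          show Ψ (Φ (c • a)) = 0
          rw [show Φ (c • a) = c • Φ a by funext x; simp [Φ, Matrix.mulVec_smul], hΨ, ha, smul_zero] }
    rcases actsIrreducibly_iff.mp hirr Z (fun g hg w hw => by
      obtain ⟨a, b, c, hc, hval, hb⟩ := hsim g hg
      show Ψ (Φ ((g : Matrix ιS ιS F) *ᵥ w)) = 0
      have hw' : Ψ (Φ w) = 0 := hw
      simp only [Φ]
      rw [hval, frame_mulVec]
      set x := Φ w
      show Ψ (_ *ᵥ x) = 0
      funext i
      show ∑ l, (G₂ : Matrix (Fin n₂) (Fin n₂) F) l l *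
        ((((a : Matrix (Fin d) (Fin d) F) ⊗ₖ (b : Matrix (Fin n₂) (Fin n₂) F)) *ᵥ x) (i, l)) ^ 2 = 0
      set y : Fin n₂ → F := fun l' => ∑ j, (a : Matrix (Fin d) (Fin d) F) i j * x (j, l') with hy
      have hrow : ∀ l, (((a : Matrix (Fin d) (Fin d) F) ⊗ₖ (b : Matrix (Fin n₂) (Fin n₂) F)) *ᵥ x) (i, l) =
          ((b : Matrix (Fin n₂) (Fin n₂) F) *ᵥ y) l := by
        intro l
        simp only [Matrix.mulVec, dotProduct, kroneckerMap_apply, Fintype.sum_prod_type, hy, Finset.mul_sum]
        rw [Finset.sum_comm]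
        exact Finset.sum_congr rfl fun _ _ => Finset.sum_congr rfl fun _ _ => by ring
      simp only [hrow]
      rw [← hdiagq, formM_mulVec, twist_refl]
      have hb' : (b : Matrix (Fin n₂) (Fin n₂) F)ᵀ * (G₂ : Matrix (Fin n₂) (Fin n₂) F) *
          (b : Matrix (Fin n₂) (Fin n₂) F) = c⁻¹ • (G₂ : Matrix (Fin n₂) (Fin n₂) F) := by
        conv_rhs => rw [← hb]
        rw [smul_smul, inv_mul_cancel₀ hc, one_smul]
      rw [hb', formM_smul, hdiagq]
      have hy2 : ∀ l', y l' ^ 2 = ∑ j, (a : Matrix (Fin d) (Fin d) F) i j ^ 2 * x (j, l') ^ 2 := by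
        intro l'
        haveI : CharP F 2 := CharTwo.of_one_ne_zero_of_two_eq_zero one_ne_zero h20
        simp only [hy, CharTwo.sum_sq, mul_pow]
      simp only [hy2, Finset.mul_sum]
      rw [Finset.sum_comm]
      refine Finset.sum_eq_zero fun j _ => ?_
      have := congrFun hw' j
      have h' : ∑ l, (G₂ : Matrix (Fin n₂) (Fin n₂) F) l l * x (j, l) ^ 2 = 0 := this
      calc _ = c⁻¹ * ((a : Matrix (Fin d) (Fin d) F) i j ^ 2 *
            ∑ l, (G₂ : Matrix (Fin n₂) (Fin n₂) F) l l * x (j, l) ^ 2) := by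
            rw [Finset.mul_sum, Finset.mul_sum]
            exact Finset.sum_congr rfl fun _ _ => by ring
        _ = 0 := by rw [h', mul_zero, mul_zero]) with hZ | hZ
    · exfalso
      have hninj : ¬ Function.Injective (fun v : ιS → F => Ψ (Φ v)) := by
        intro hf
        have hcard := Fintype.card_le_of_injective _ hf
        rw [Fintype.card_fun, Fintype.card_fun, Fintype.card_congr e, Fintype.card_prod, Fintype.card_fin,
          Fintype.card_fin] at hcard
        have h1lt := Fintype.one_lt_card (α := F)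
        have hlt : d < d * n₂ := by nlinarith
        exact absurd hcard (not_le.mpr (Nat.pow_lt_pow_right h1lt hlt))
      apply hninj
      intro u v huv
      have huv' : Ψ (Φ u) = Ψ (Φ v) := huv
      have : u - v ∈ Z := by
        show Ψ (Φ (u - v)) = 0
        rw [show Φ (u - v) = Φ u - Φ v by funext x; simp [Φ, Matrix.mulVec_sub], map_sub, huv', sub_self]
      rw [hZ, Submodule.mem_bot, sub_eq_zero] at this
      exact this
    · intro l
      let i₀ : Fin d := ⟨0, by omega⟩
      have hv : (B : Matrix ιS ιS F) *ᵥ ((Pi.single (i₀, l) (1 : F) : Fin d × Fin n₂ → F) ∘ e) ∈ Z := by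
        rw [hZ]; trivial
      have h' : Ψ (Φ _) = 0 := hv
      simp only [Φ, Matrix.mulVec_mulVec, Units.inv_mul, Matrix.one_mulVec] at h'
      have h'' : ∑ j, (G₂ : Matrix (Fin n₂) (Fin n₂) F) j j *
          (((Pi.single (i₀, l) (1 : F) : Fin d × Fin n₂ → F) ∘ e) ∘ e.symm) (i₀, j) ^ 2 = 0 := congrFun h' i₀
      rw [Finset.sum_eq_single l (fun j _ hj => by simp [hj]) (fun h => absurd (Finset.mem_univ l) h)] at h''
      simpa using h''
  obtain ⟨U₁, hU₁⟩ := exists_upper h1' (diag_eq_zero_of_alt halt1)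
  have hU : (U₁ ⊗ₖ (G₂ : Matrix (Fin n₂) (Fin n₂) F)) + (U₁ ⊗ₖ (G₂ : Matrix (Fin n₂) (Fin n₂) F))ᵀ =
      gramIn (RingEquiv.refl F) (sympGram m F) e B := by
    rw [hA, ← hU₁, Matrix.add_kronecker, ← Matrix.kroneckerMap_transpose, h2']
  have hq2 : ∀ w, quadM (G₂ : Matrix (Fin n₂) (Fin n₂) F) w = 0 := by
    intro w
    obtain ⟨U₂, hU₂⟩ := exists_upper h2' hdiag2
    have h := polar_quadM_add U₂ w w
    rw [hU₂, QuadraticMap.polar, show w + w = (2 : F) • w by rw [two_smul], h20, quadM_smul] at h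
    rw [quadM, ← h]
    linear_combination (-quadM U₂ w) * h20
  have hzero : ∀ (u : Fin d → F) (v : Fin n₂ → F),
      quadM (U₁ ⊗ₖ (G₂ : Matrix (Fin n₂) (Fin n₂) F)) (fun p => u p.1 * v p.2) = 0 := fun u v => by
    rw [quadM_kronecker, hq2, mul_zero]
  obtain ⟨Q, hQ, hpol, hfix⟩ := exists_quad_of_upper hU hinv (fun g hg a => by
    obtain ⟨A, A', c, -, hval, -⟩ := hsim g hg
    have hk : (inFrame e B g : Matrix (Fin d × Fin n₂) (Fin d × Fin n₂) F) =
        (A : Matrix (Fin d) (Fin d) F) ⊗ₖ (A' : Matrix (Fin n₂) (Fin n₂) F) := by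
      apply (framed e B).injective
      rw [framed_inFrame, hval]
    have e1 : (inFrame e B g : Matrix (Fin d × Fin n₂) (Fin d × Fin n₂) F) *ᵥ Pi.single a 1 =
        fun p => (A : Matrix (Fin d) (Fin d) F) p.1 a.1 * (A' : Matrix (Fin n₂) (Fin n₂) F) p.2 a.2 := by
      rw [hk, Matrix.mulVec_single_one]
      rfl
    have e2 : (Pi.single a (1 : F) : Fin d × Fin n₂ → F) =
        fun p => (Pi.single a.1 (1 : F) : Fin d → F) p.1 * (Pi.single a.2 (1 : F) : Fin n₂ → F) p.2 := by
      funext p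
      simp only [Pi.single_apply, Prod.ext_iff]
      split_ifs <;> simp_all
    rw [e1, hzero (fun i => (A : Matrix (Fin d) (Fin d) F) i a.1)
      (fun l => (A' : Matrix (Fin n₂) (Fin n₂) F) l a.2), e2,
      hzero (Pi.single a.1 1) (Pi.single a.2 1)])
  exact sp_class_of_quad hodd hH hQ (fun u v => by rw [hpol, sympForm_eq]) hfix

omit [Fintype F] in
/-- Elements of pairwise distinct cosets of the centre are linearly independent. -/
lemma card_le_finrank_of_cosets {ι : Type} [Fintype ι] [DecidableEq ι] [Finite F] [Nonempty ι] {r : ℕ}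
    {R : Subgroup (GL ι F)} (hR : IsSymplecticCore r R) (A : Subgroup R) :
    Nat.card A ≤ Module.finrank F (spanAlg (A.map R.subtype)) * Nat.card (Subgroup.center R) := by
  classical
  haveI : Fintype (R ⧸ Subgroup.center R) := Fintype.ofFinite _
  let rep : R ⧸ Subgroup.center R → R := fun q =>
    if h : ∃ a ∈ A, QuotientGroup.mk a = q then h.choose else q.out
  have hrep : ∀ q, (QuotientGroup.mk (rep q) : R ⧸ Subgroup.center R) = q := fun q => by
    simp only [rep]
    split_ifs with h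
    · exact h.choose_spec.2
    · exact QuotientGroup.out_eq' q
  let X : R ⧸ Subgroup.center R → Matrix ι ι F := fun q => ((rep q : GL ι F) : Matrix ι ι F)
  have hspan : ⊤ ≤ Submodule.span F (Set.range X) := by
    have h1 : Submodule.span F (matrixSet R) ≤ Submodule.span F (Set.range X) := by
      rw [Submodule.span_le]
      rintro _ ⟨x, hx, rfl⟩
      have hz : (rep (QuotientGroup.mk (⟨x, hx⟩ : R)))⁻¹ * ⟨x, hx⟩ ∈ Subgroup.center R :=
        QuotientGroup.eq.mp (hrep _)
      obtain ⟨c, hc⟩ := hR.exists_scalar hz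
      have hxe : (x : Matrix ι ι F) = (c : F) • X (QuotientGroup.mk (⟨x, hx⟩ : R)) := by
        have := congrArg (fun y : Matrix ι ι F => X (QuotientGroup.mk (⟨x, hx⟩ : R)) * y) hc
        simp only [X, Subgroup.coe_mul, Subgroup.coe_inv, ← Units.val_mul, mul_inv_cancel_left,
          Matrix.mul_smul, mul_one] at this
        exact this
      show (x : Matrix ι ι F) ∈ _
      rw [hxe]
      exact Submodule.smul_mem _ _ (Submodule.subset_span ⟨_, rfl⟩)
    rw [← spanAlg_toSubmodule, hR.span_top, Algebra.top_toSubmodule] at h1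
    exact h1
  have hli : LinearIndependent F X := by
    refine linearIndependent_of_top_le_span_of_card_eq_finrank hspan ?_
    rw [Module.finrank_matrix, Module.finrank_self, mul_one, ← Nat.card_eq_fintype_card, hR.index_eq]
  set T := A.map (QuotientGroup.mk' (Subgroup.center R))
  have hT : ∀ q : T, X q.1 ∈ (spanAlg (A.map R.subtype)).toSubmodule := by
    rintro ⟨q, a, ha, rfl⟩
    have h : ∃ b ∈ A, (QuotientGroup.mk b : R ⧸ Subgroup.center R) = QuotientGroup.mk' _ a := ⟨a, ha, rfl⟩
    refine coe_mem_spanAlg ⟨rep (QuotientGroup.mk' _ a), ?_, rfl⟩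
    simp only [rep, dif_pos h]
    exact h.choose_spec.1
  haveI : Fintype T := Fintype.ofFinite _
  have hliT : LinearIndependent F (fun q : T => (⟨X q.1, hT q⟩ : (spanAlg (A.map R.subtype)).toSubmodule)) :=
    LinearIndependent.of_comp (spanAlg (A.map R.subtype)).toSubmodule.subtype
      (hli.comp (fun q : T => q.1) Subtype.val_injective)
  have h1 : Nat.card T ≤ Module.finrank F (spanAlg (A.map R.subtype)) := by
    rw [Nat.card_eq_fintype_card, ← Subalgebra.finrank_toSubmodule]
    exact hliT.fintype_card_le_finrank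
  refine le_trans ?_ (Nat.mul_le_mul_right _ h1)
  rw [← Nat.card_prod]
  refine Nat.card_le_card_of_injective (fun a : A => ((⟨QuotientGroup.mk' _ (a : R), a, a.2, rfl⟩ : T),
    (⟨(rep (QuotientGroup.mk (a : R)))⁻¹ * (a : R), QuotientGroup.eq.mp (hrep _)⟩ : Subgroup.center R))) ?_
  intro a b hab
  simp only [Prod.mk.injEq, Subtype.mk.injEq] at hab
  obtain ⟨hq, hz⟩ := hab
  have hq' : (QuotientGroup.mk (a : R) : R ⧸ Subgroup.center R) = QuotientGroup.mk (b : R) :=
    congrArg Subtype.val hq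
  rw [hq'] at hz
  exact Subtype.ext (mul_left_cancel hz)

/-- The symplectic type case. -/
theorem sp_symplecticCore (hm : 0 < m) {H : Subgroup (GL ιS F)} (hH : H ≤ spGL m F)
    (hsc : HasSymplecticCore H) : SpHasClass H := by
  classical
  haveI : Nonempty ιS := ⟨Sum.inl ⟨0, hm⟩⟩
  have hinv := invariant_of_le_spGL hH
  obtain ⟨R, r, hRH, hnorm, hR⟩ := hsc
  have hsq : ∀ z : R, z ∈ Subgroup.center R → ∀ c : F,
      ((z : GL ιS F) : Matrix ιS ιS F) = c • (1 : Matrix ιS ιS F) → c * c = 1 := by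
    intro z _ c hc
    have h := hinv _ (hRH z.2)
    rw [hc, Matrix.transpose_smul, Matrix.transpose_one, twist_refl, Matrix.smul_mul, one_mul, Matrix.mul_smul,
      mul_one, smul_smul] at h
    have h0 : (c * c - 1) • (sympGram m F : Matrix ιS ιS F) = 0 := by rw [sub_smul, one_smul, h, sub_self]
    exact sub_eq_zero.mp ((smul_eq_zero.mp h0).resolve_right (sympGram m F).isUnit.ne_zero)
  have hz2 : Nat.card (Subgroup.center R) ≤ 2 := by
    choose g hg using fun z : Subgroup.center R => hR.exists_scalar z.2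
    have hinj : Function.Injective g := fun a b hab => by
      apply Subtype.ext; apply Subtype.ext; apply Units.ext
      rw [hg, hg, hab]
    have hmem : ∀ z, (g z : F) = 1 ∨ (g z : F) = -1 := fun z => mul_self_eq_one_iff.mp (hsq _ z.2 _ (hg z))
    refine (Nat.card_le_card_of_injective
      (fun z => decide ((g z : F) = 1)) (fun a b hab => hinj (Units.ext ?_))).trans (by simp)
    simp only [decide_eq_decide] at hab
    rcases hmem a with h | h
    · rw [h, hab.mp h]
    · rcases hmem b with h' | h'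
      · rw [hab.mpr h', h']
      · rw [h, h']
  have hr2 : r = 2 ∧ Nat.card (Subgroup.center R) = 2 := by
    rcases hR.center_cases with ⟨hodd, hz⟩ | ⟨hr, hz | hz⟩
    · exfalso
      have := hR.type.prime.two_le
      rw [hz] at hz2
      rw [Nat.odd_iff] at hodd
      omega
    · exact ⟨hr, hz⟩
    · omega
  obtain ⟨hr, hz⟩ := hr2
  subst hr
  obtain ⟨p, hchar⟩ := CharP.exists F
  haveI hp : Fact p.Prime := ⟨CharP.char_is_prime F p⟩
  obtain ⟨a, -, hcard⟩ := FiniteField.card F p
  have hp2 : Odd p := hp.out.odd_of_ne_two fun h => hR.ne_char (by rw [← h]; exact CharP.cast_eq_zero F p)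
  rcases Nat.lt_or_ge 1 (a : ℕ) with ha | ha
  · refine sp_subfield hm hH hR.span_top hRH hnorm (F₀ := frobFixed F p 1) ?_ (hR.realisable _ ?_)
    · exact frobFixed_ne_top one_pos (by
        rw [Nat.card_eq_fintype_card, hcard]
        exact Nat.pow_lt_pow_right hp.out.one_lt ha)
    · intro z hz' c hc
      rw [mem_frobFixed, pow_one]
      rcases mul_self_eq_one_iff.mp (hsq z hz' c hc) with h | h
      · rw [h, one_pow]
      · rw [h, hp2.neg_one_pow]
  have ha1 : (a : ℕ) = 1 := by have := a.pos; omega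
  rw [ha1, pow_one] at hcard
  obtain ⟨k, -, hnk, hRk⟩ := hR.card_cases
  rw [hz] at hRk
  have hRk' : Nat.card R = 2 ^ (1 + 2 * k) := by rw [hRk, pow_add, pow_one]
  refine ⟨subgroupNormalizer R ⊓ spGL m F, Or.inl (Or.inr (Or.inr (Or.inr (Or.inr (Or.inr (Or.inl
    ⟨R, p, k, hR.type, hR.absIrred, le_similarity_of_invariant (hinv.mono hRH), hp.out, hp2, hcard, hRk', hz,
      ?_, rfl⟩)))))), le_inf ?_ hH⟩
  · intro A hcomm hinvol
    by_contra hle
    push Not at hle
    have h1 := card_le_finrank_of_cosets hR A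
    rw [hz] at h1
    set 𝒜 := spanAlg (A.map R.subtype) with h𝒜
    have hAc : ∀ x ∈ A.map R.subtype, ∀ y ∈ A.map R.subtype, x * y = y * x := by
      rintro _ ⟨x, hx, rfl⟩ _ ⟨y, hy, rfl⟩
      have := hcomm.is_comm.comm (⟨x, hx⟩ : A) ⟨y, hy⟩
      exact congrArg (fun w : A => ((w : R) : GL ιS F)) this
    have hdim := two_mul_finrank_le sympGram_transpose sympGram_alternating (A := 𝒜)
      (fun x hx y hy => spanAlg_commute_spanAlg hAc hx hy) ?_ ?_
    · have hn : Fintype.card ιS = 2 ^ k := hnk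
      rw [pow_succ] at hle
      have := Nat.two_pow_pos k
      omega
    · intro x hx
      rw [← Subalgebra.mem_toSubmodule, h𝒜, spanAlg_toSubmodule] at hx
      induction hx using Submodule.span_induction with
      | mem y hy =>
        obtain ⟨g, hg, rfl⟩ := hy
        obtain ⟨w, hw, hwg⟩ := hg
        have hgR : g ∈ R := hwg ▸ w.2
        rw [adjM_coe (fun _ => rfl) (hinv g (hRH hgR))]
        congr 1
        have h2 : g * g = 1 := by
          rw [← hwg]; exact congrArg Subtype.val (hinvol w hw)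
        exact inv_eq_of_mul_eq_one_right h2
      | zero => exact adjM_zero
      | add y z _ _ hy hz => rw [adjM_add, hy, hz]
      | smul c y _ hy => rw [adjM_smul, hy, RingEquiv.refl_apply]
    · intro x hx
      rw [hcard]
      haveI : CharP (Matrix ιS ιS F) p := Matrix.charP p
      rw [← Subalgebra.mem_toSubmodule, h𝒜, spanAlg_toSubmodule] at hx
      have key : x ∈ 𝒜 ∧ x ^ p = x := by
        induction hx using Submodule.span_induction with
        | mem y hy =>
          obtain ⟨g, hg, rfl⟩ := hy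
          refine ⟨coe_mem_spanAlg hg, ?_⟩
          obtain ⟨w, hw, hwg⟩ := hg
          have h2 : g * g = 1 := by
            rw [← hwg]; exact congrArg Subtype.val (hinvol w hw)
          obtain ⟨j, hj⟩ := hp2
          show (g : Matrix ιS ιS F) ^ p = _
          rw [← Units.val_pow_eq_pow_val, hj, pow_succ, pow_mul, pow_two g, h2, one_pow, one_mul]
        | zero => exact ⟨zero_mem _, zero_pow hp.out.ne_zero⟩
        | add y z _ _ hy hz =>
          refine ⟨add_mem hy.1 hz.1, ?_⟩
          rw [add_pow_char_of_commute p (spanAlg_commute_spanAlg hAc hy.1 hz.1 : Commute y z), hy.2, hz.2]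
        | smul c y _ hy =>
          refine ⟨Subalgebra.smul_mem _ hy.1 _, ?_⟩
          rw [smul_pow, hy.2, ← hcard, FiniteField.pow_card]
      exact key.2
  · intro g hg
    rw [subgroupNormalizer, Subgroup.mem_normalizer_iff]
    intro x
    refine ⟨fun hx => hnorm g hg x hx, fun hx => ?_⟩
    simpa [mul_assoc] using hnorm g⁻¹ (H.inv_mem hg) _ hx

/-- The tensor induced case. -/
theorem sp_tensorInduced {H : Subgroup (GL ιS F)} (hH : H ≤ spGL m F)
    (hti : HasTensorInduced H) : SpHasClass H := by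
  classical
  have hinv := invariant_of_le_spGL hH
  obtain ⟨t, d, M, e, B, ht, hd, hMH, hMp, hMns, hmem, -, -, -, htrans, hle⟩ := hti
  haveI : Nonempty (Fin d) := ⟨⟨0, by omega⟩⟩
  obtain ⟨c, Gs, cs, hc, hA, hcs, hNd, hsim⟩ :=
    exists_power_gram sympGram_isFormGram hinv hd e B hMH hMp hmem htrans hle
  have htr : ∀ i, (Gs i : Matrix (Fin d) (Fin d) F)ᵀ = cs i • (Gs i : Matrix (Fin d) (Fin d) F) :=
    fun i => twist_refl_transpose (hcs i).2
  let i₀ : Fin t := ⟨0, by omega⟩
  have hcsi : ∀ i, cs i = cs i₀ := by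
    intro i
    obtain ⟨b, u, hu, hb⟩ := hsim i i₀
    rw [twist_refl] at hb
    have h1 := congrArg Matrix.transpose hb
    rw [Matrix.transpose_mul, Matrix.transpose_mul, Matrix.transpose_transpose, htr, Matrix.transpose_smul,
      htr, Matrix.smul_mul, Matrix.mul_smul, ← mul_assoc, hb, smul_smul, smul_smul] at h1
    have h2 : (cs i * u - u * cs i₀) • (Gs i₀ : Matrix (Fin d) (Fin d) F) = 0 := by
      rw [sub_smul, h1, sub_self]
    have h3 := (smul_eq_zero.mp h2).resolve_right (Gs i₀).isUnit.ne_zero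
    exact mul_right_cancel₀ hu (by linear_combination h3)
  have hprod : cs i₀ ^ t = -1 := by
    have h := twist_gramIn sympGram_isFormGram e B (σ := RingEquiv.refl F) (G := sympGram m F)
    rw [twist_refl, hA, Matrix.transpose_smul, pureTensor_transpose] at h
    simp only [htr] at h
    rw [pureTensor_smul_family, smul_smul, smul_smul] at h
    have hprod' : (∏ i, cs i) = cs i₀ ^ t := by
      rw [Finset.prod_congr rfl (fun i _ => hcsi i), Finset.prod_const, Finset.card_univ, Fintype.card_fin]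
    rw [hprod'] at h
    haveI : Nonempty (Fin t → Fin d) := ⟨fun _ => Classical.arbitrary _⟩
    have hne : (pureTensor fun i => (Gs i : Matrix (Fin d) (Fin d) F)) ≠ 0 := fun h0 =>
      (isUnit_gramIn (σ := RingEquiv.refl F) (sympGram m F) e B).ne_zero (by rw [hA, h0, smul_zero])
    have h2 : (c * cs i₀ ^ t - -1 * c) • (pureTensor fun i => (Gs i : Matrix (Fin d) (Fin d) F)) = 0 := by
      rw [sub_smul, h, sub_self]
    have h3 := (smul_eq_zero.mp h2).resolve_right hne
    exact mul_left_cancel₀ hc (by linear_combination h3)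
  have hcs0 : cs i₀ * cs i₀ = 1 := (hcs i₀).1
  by_cases hodd : Odd (Fintype.card F)
  · have h2 := two_ne_zero_of_odd hodd
    have hne1 : (1 : F) ≠ -1 := fun h => h2 (by linear_combination h)
    have hskew : cs i₀ = -1 := by
      rcases mul_self_eq_one_iff.mp hcs0 with h | h
      · rw [h, one_pow] at hprod; exact absurd hprod hne1
      · exact h
    have htodd : Odd t := by
      rw [hskew] at hprod
      rcases Nat.even_or_odd t with h | h
      · rw [h.neg_one_pow] at hprod; exact absurd hprod hne1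
      · exact h
    have ht3 : 3 ≤ t := by
      rcases htodd with ⟨j, hj⟩
      omega
    have h0 : (Gs i₀ : Matrix (Fin d) (Fin d) F)ᵀ = -(Gs i₀ : Matrix (Fin d) (Fin d) F) := by
      rw [htr, hskew, neg_one_smul]
    obtain ⟨P, hPB, hstr⟩ := exists_power_structure (G₀ := Gs i₀) hc hA (fun i => hsim i i₀)
    have hex : ¬ (Fintype.card F = 3 ∧ d = 2) := by
      rintro ⟨h3, rfl⟩
      obtain ⟨Nd, hspan, hperf, -⟩ := hNd i₀
      have hbot := eq_bot_of_perfect_two_three h3 hperf
      have hle1 : spanAlg Nd ≤ ⊥ := spanAlg_le fun x hx => by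
        rw [hbot, Subgroup.mem_bot] at hx
        rw [hx]
        exact one_mem _
      rw [hspan] at hle1
      obtain ⟨c', hc'⟩ := scalar_of_mem_bot (hle1 (Algebra.mem_top (x := Matrix.single (0 : Fin 2) 1 (1 : F))))
      have := congrFun (congrFun hc' 0) 1
      simp at this
    refine ⟨tensorWreathSubgroup d t e P ⊓ spGL m F, Or.inr (Or.inr (Or.inr (Or.inr
      ⟨d, t, e, P, _, hodd, htodd, ht3, hex, isSymplecticForm_of_odd hodd _ h0, ?_, rfl⟩))),
      le_inf (hPB ▸ hle) hH⟩
    rw [sympForm_eq, id_eq_refl]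
    exact hstr
  have h20 := two_eq_zero_of_not_odd hodd
  have hsymm : ∀ i, (Gs i : Matrix (Fin d) (Fin d) F)ᵀ = (Gs i : Matrix (Fin d) (Fin d) F) := by
    intro i
    rw [htr, hcsi]
    rcases mul_self_eq_one_iff.mp hcs0 with h | h
    · rw [h, one_smul]
    · rw [h, show (-1 : F) = 1 by linear_combination -h20, one_smul]
  have halt : ∀ i v, formM (RingEquiv.refl F) (Gs i : Matrix (Fin d) (Fin d) F) v v = 0 := by
    intro i
    obtain ⟨Nd, hspan, -, hNinv⟩ := hNd i
    exact alternating_of_invariant hodd (by rw [Fintype.card_fin]; omega) (absIrred_of_span_top hspan).1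
      (hsymm i) hNinv
  obtain ⟨U₁, hU₁⟩ := exists_upper (hsymm i₀) (diag_eq_zero_of_alt (halt i₀))
  let Us : Fin t → Matrix (Fin d) (Fin d) F :=
    Function.update (fun i => (Gs i : Matrix (Fin d) (Fin d) F)) i₀ U₁
  set U := c • pureTensor Us with hUdef
  have hU : U + Uᵀ = gramIn (RingEquiv.refl F) (sympGram m F) e B := by
    rw [hUdef, Matrix.transpose_smul, ← smul_add, hA, pureTensor_transpose]
    congr 1
    ext x y
    simp only [Matrix.add_apply, pureTensor, Matrix.of_apply]
    rw [← Finset.mul_prod_erase _ _ (Finset.mem_univ i₀), ← Finset.mul_prod_erase _ _ (Finset.mem_univ i₀),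
      ← Finset.mul_prod_erase _ _ (Finset.mem_univ i₀)]
    have e1 : ∀ l ∈ Finset.univ.erase i₀, (Us l)ᵀ (x l) (y l) = (Gs l : Matrix (Fin d) (Fin d) F) (x l) (y l) :=
      fun l hl => by
        simp only [Us, Function.update_of_ne (Finset.mem_erase.mp hl).1, hsymm]
    have e2 : ∀ l ∈ Finset.univ.erase i₀, Us l (x l) (y l) = (Gs l : Matrix (Fin d) (Fin d) F) (x l) (y l) :=
      fun l hl => by simp only [Us, Function.update_of_ne (Finset.mem_erase.mp hl).1]
    rw [Finset.prod_congr rfl e1, Finset.prod_congr rfl e2]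
    simp only [Us, Function.update_self]
    rw [← add_mul, ← hU₁, Matrix.add_apply]
  have hpure : ∀ w : Fin t → (Fin d → F), quadM U (fun x => ∏ i, w i (x i)) = 0 := by
    intro w
    have h1 : quadM (pureTensor Us) (fun x => ∏ i, w i (x i)) = ∏ i, quadM (Us i) (w i) := by
      simp only [quadM, formM, dotProduct, Matrix.mulVec, RingEquiv.refl_apply, pureTensor, Matrix.of_apply,
        Finset.mul_sum, Fintype.prod_sum, ← Finset.prod_mul_distrib]
    haveI : Nontrivial (Fin t) := Fin.nontrivial_iff_two_le.mpr ht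
    obtain ⟨j, hj⟩ := exists_ne i₀
    have h2 : quadM (Us j) (w j) = 0 := by
      simp only [Us, Function.update_of_ne hj, quadM]
      exact halt j _
    have h3 : quadM U (fun x => ∏ i, w i (x i)) = c * quadM (pureTensor Us) (fun x => ∏ i, w i (x i)) := by
      simp only [quadM, hUdef, formM_smul]
    rw [h3, h1, Finset.prod_eq_zero (Finset.mem_univ j) h2, mul_zero]
  obtain ⟨Q, hQ, hpol, hfix⟩ := exists_quad_of_upper hU hinv (fun g hg a => by
    obtain ⟨k', ⟨k, hk, hkk⟩, hk'⟩ := hle hg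
    subst hkk
    obtain ⟨π, gs, hgs⟩ := exists_monoM hk
    have hval : (g : Matrix ιS ιS F) = framed e B (k : Matrix (Fin t → Fin d) (Fin t → Fin d) F) := by
      rw [← hk', framed_apply]
      simp [glReindex, Matrix.reindex_apply]
    have hin : (inFrame e B g : Matrix (Fin t → Fin d) (Fin t → Fin d) F) =
        monoM π (fun i => (gs i : Matrix (Fin d) (Fin d) F)) := by
      apply (framed e B).injective
      rw [framed_inFrame, hval, hgs]
    have e1 : (inFrame e B g : Matrix (Fin t → Fin d) (Fin t → Fin d) F) *ᵥ Pi.single a 1 =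
        fun x => ∏ i, (fun p => (gs i : Matrix (Fin d) (Fin d) F) p (a (π i))) (x i) := by
      rw [hin, Matrix.mulVec_single_one]
      rfl
    have e2 : (Pi.single a (1 : F) : (Fin t → Fin d) → F) =
        fun x => ∏ i, (Pi.single (a i) (1 : F) : Fin d → F) (x i) := by
      funext x
      rcases eq_or_ne x a with rfl | hx
      · simp
      · obtain ⟨i, hi⟩ := Function.ne_iff.mp hx
        rw [Pi.single_eq_of_ne hx]
        exact (Finset.prod_eq_zero (Finset.mem_univ i) (Pi.single_eq_of_ne hi _)).symm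
    rw [e1, hpure (fun i => fun p => (gs i : Matrix (Fin d) (Fin d) F) p (a (π i))), e2,
      hpure (fun i => Pi.single (a i) (1 : F))])
  exact sp_class_of_quad hodd hH hQ (fun u v => by rw [hpol, sympForm_eq]) hfix

/-- The almost simple case. -/
theorem sp_core (hm : 0 < m) {H : Subgroup (GL ιS F)} (hH : H ≤ spGL m F) (hc : HasCore H) :
    SpHasClass H ∨ InSymplecticResidualClass H := by
  classical
  haveI : Nonempty ιS := ⟨Sum.inl ⟨0, hm⟩⟩
  have hinv := invariant_of_le_spGL hH
  obtain ⟨P, hP⟩ := hc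
  have hnorm : Normalises H P := hP.normal
  by_cases hsub : ∃ F₀ : Subfield F, F₀ ≠ ⊤ ∧ RealisableOver F₀ (matrixSet P)
  · obtain ⟨F₀, h0, h1⟩ := hsub
    exact Or.inl (sp_subfield hm hH hP.span_top hP.le hnorm h0 h1)
  push Not at hsub
  have hPinv := hinv.mono hP.le
  have huni : ¬ ∃ (σ : F ≃+* F) (f : (ιS → F) → (ιS → F) → F), IsUnitaryForm σ f ∧
      FixesForm (matrixSet P) f := by
    rintro ⟨σ, f, hf, hfix⟩
    obtain ⟨G', rfl⟩ := exists_gram_unitary hf
    obtain ⟨F₀, h0, h1⟩ := realisable_of_two_forms hP.span_top hPinv hf.ne_refl hf.involutive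
      (invariant_iff_fixes.mpr hfix)
    exact hsub F₀ h0 h1
  by_cases hquad : ∃ Q : (ιS → F) → F, IsNondegenerateQuadraticForm Q ∧ FixesQuadForm (matrixSet P) Q
  swap
  · exact Or.inr ⟨P, hP.residual (fun F₀ h0 => hsub F₀ h0), hquad, huni⟩
  obtain ⟨Q, hQ, hfix⟩ := hquad
  obtain ⟨G', hG', -⟩ := exists_gram_bilinear hQ.polar_bilinear hQ.nondegenerate
  have hG'inv : Invariant (RingEquiv.refl F) P (G' : Matrix ιS ιS F) := by
    refine invariant_iff_fixes.mpr ?_
    rw [← hG']
    intro s hs u v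
    simp only [QuadraticMap.polar, ← Matrix.mulVec_add, hfix s hs]
  obtain ⟨c, hc⟩ := invariant_unique hP.span_top hPinv hG'inv
  have hc0 : c ≠ 0 := fun h => G'.isUnit.ne_zero (by rw [hc, h, zero_smul])
  have hpol : ∀ u v, QuadraticMap.polar Q u v = c * sympForm m F u v := by
    intro u v
    rw [hG', hc, formM_smul, sympForm_eq]
  by_cases hodd : Odd (Fintype.card F)
  · exfalso
    obtain ⟨u, v, huv⟩ : ∃ u v, sympForm m F u v ≠ 0 := by
      refine ⟨Pi.single (Sum.inl ⟨0, hm⟩) 1, ?_⟩
      obtain ⟨-, v, hv⟩ := nondegenerate_formM (RingEquiv.refl F) (sympGram m F)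
        (Pi.single (Sum.inl ⟨0, hm⟩) (1 : F) : ιS → F) (by simp)
      exact ⟨v, hv⟩
    have h1 := hpol u v
    rw [QuadraticMap.polar_comm, hpol] at h1
    have hsk := (isSymplecticForm_formM _ sympGram_transpose sympGram_alternating).skew (ι := ιS) u v
    rw [← sympForm_eq] at hsk
    exact mul_ne_zero hc0 huv (mul_left_cancel₀ (two_ne_zero_of_odd hodd)
      (by linear_combination -h1 + c * hsk))
  · have h20 := two_eq_zero_of_not_odd hodd
    left
    set Q' : (ιS → F) → F := fun v => c⁻¹ * Q v with hQ'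
    have hpol' : ∀ u v, QuadraticMap.polar Q' u v = sympForm m F u v := by
      intro u v
      have : QuadraticMap.polar Q' u v = c⁻¹ * QuadraticMap.polar Q u v := by
        simp only [QuadraticMap.polar, hQ']; ring
      rw [this, hpol, ← mul_assoc, inv_mul_cancel₀ hc0, one_mul]
    have hsmul : ∀ (a : F) v, Q' (a • v) = a ^ 2 * Q' v := fun a v => by
      simp only [hQ', hQ.smul]; ring
    have hfun : QuadraticMap.polar Q' = formM (RingEquiv.refl F) (sympGram m F : Matrix ιS ιS F) :=
      funext fun u => funext fun v => by rw [hpol', sympForm_eq]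
    refine sp_class_of_quad hodd hH ⟨hsmul, by rw [hfun]; exact isBilinearForm_formM _,
      by rw [hfun]; exact nondegenerate_formM _ _⟩ hpol' fun g hg v => ?_
    let D : (ιS → F) →+ F := AddMonoidHom.mk' (fun w => Q' ((g : Matrix ιS ιS F) *ᵥ w) - Q' w) (fun a b => by
      have e1 := hpol' ((g : Matrix ιS ιS F) *ᵥ a) ((g : Matrix ιS ιS F) *ᵥ b)
      have e2 := hpol' a b
      have e3 : sympForm m F ((g : Matrix ιS ιS F) *ᵥ a) ((g : Matrix ιS ιS F) *ᵥ b) = sympForm m F a b := by
        rw [sympForm_eq, formM_mulVec, hinv g hg]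
      simp only [QuadraticMap.polar] at e1 e2
      rw [Matrix.mulVec_add]
      linear_combination e1 - e2 + e3)
    have hDsmul : ∀ (a : F) w, D (a • w) = a ^ 2 * D w := fun a w => by
      show Q' _ - Q' _ = a ^ 2 * (Q' _ - Q' _)
      rw [Matrix.mulVec_smul, hsmul, hsmul, mul_sub]
    let W : Submodule F (ιS → F) :=
      { carrier := {w | D w = 0}
        zero_mem' := map_zero D
        add_mem' := fun {a b} (ha : _ = 0) (hb : _ = 0) => by
          show D (a + b) = 0
          rw [map_add, ha, hb, add_zero]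
        smul_mem' := fun a w (hw : _ = 0) => by
          show D (a • w) = 0
          rw [hDsmul, hw, mul_zero] }
    have hPQ : ∀ x ∈ P, ∀ w, Q' ((x : Matrix ιS ιS F) *ᵥ w) = Q' w := fun x hx w => by
      simp only [hQ', hfix _ (coe_mem_matrixSet hx)]
    rcases actsIrreducibly_iff.mp hP.absIrred.1 W (fun x hx w hw => by
      have hw' : D w = 0 := hw
      show Q' _ - Q' _ = 0
      have hy : g * x * g⁻¹ ∈ P := hnorm g hg x hx
      have e : (g : Matrix ιS ιS F) *ᵥ ((x : Matrix ιS ιS F) *ᵥ w) =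
          ((g * x * g⁻¹ : GL ιS F) : Matrix ιS ιS F) *ᵥ ((g : Matrix ιS ιS F) *ᵥ w) := by
        rw [Matrix.mulVec_mulVec, Matrix.mulVec_mulVec, ← Units.val_mul, ← Units.val_mul, inv_mul_cancel_right]
      rw [e, hPQ _ hy, hPQ x hx]
      exact hw') with hW | hW
    · exfalso
      have hinj : Function.Injective D := by
        intro a b hab
        have h : a - b ∈ W := by
          show D (a - b) = 0
          rw [map_sub, hab, sub_self]
        rwa [hW, Submodule.mem_bot, sub_eq_zero] at h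
      have hcardle := Fintype.card_le_of_injective _ hinj
      rw [Fintype.card_fun, Fintype.card_sum, Fintype.card_fin] at hcardle
      have := Nat.pow_lt_pow_right (Fintype.one_lt_card (α := F)) (show 1 < m + m by omega)
      rw [pow_one] at this
      omega
    · have hv : v ∈ W := by rw [hW]; trivial
      exact sub_eq_zero.mp hv

/-- Aschbacher's theorem for symplectic groups. -/
theorem symplectic_class_or_residual (hm : 0 < m) (H : Subgroup (GL ιS F)) (hH : H ≤ spGL m F) :
    (∃ M : Subgroup (GL ιS F), InSymplecticClass m F M ∧ H ≤ M) ∨ InSymplecticResidualClass H := by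
  haveI : Nonempty ιS := ⟨Sum.inl ⟨0, hm⟩⟩
  by_cases hirr : ActsIrreducibly (matrixSet H)
  swap
  · exact Or.inl (sp_reducible hH hirr)
  rcases structure_of_irreducible hirr (by rw [Fintype.card_sum, Fintype.card_fin]; omega) with
    h | h | h | h | h | h
  · exact Or.inl (sp_imprimitive hH h)
  · exact Or.inl (sp_extension hH h)
  · exact Or.inl (sp_tensor hm hH hirr h)
  · exact Or.inl (sp_symplecticCore hm hH h)
  · exact Or.inl (sp_tensorInduced hH h)
  · exact sp_core hm hH h

end Cfsg.Agent.Lib.Aschbacher
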