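/-
Aschbacher's theorem for the unitary groups, part one: the automorphism of order two, the Gram matrix of the
standard form, and the subfield class.
-/
import Cfsg.Agent.Lib.Aschbacher.FormTools
import Cfsg.Agent.Lib.Aschbacher.SymplReal
import Cfsg.Agent.Lib.Forms.Families

set_option autoImplicit false

namespace Cfsg.Agent.Lib.Aschbacher

open Cfsg Cfsg.Geo Matrix

set_option maxHeartbeats 1000000

variable {F : Type*} [Field F] [Fintype F] {n q : ℕ}

/-- `H` lies in a member of the geometric classes of the unitary group. -/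
def UHasClass (q : ℕ) (H : Subgroup (GL (Fin n) F)) : Prop :=
  ∃ M : Subgroup (GL (Fin n) F), InUnitaryClass n F q M ∧ H ≤ M

lemma UHasClass.mono {H H' : Subgroup (GL (Fin n) F)} (h : UHasClass q H') (hle : H ≤ H') : UHasClass q H := by
  obtain ⟨M, hM, hHM⟩ := h
  exact ⟨M, hM, hle.trans hHM⟩

/-- The field has `q²` elements and `σ` is the map `x ↦ x^q`. -/
structure IsQAut (q : ℕ) (σ : F ≃+* F) : Prop where
  card : Fintype.card F = q ^ 2
  eq_pow : ∀ x, σ x = x ^ q
  invol : ∀ x, σ (σ x) = x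
  ne_refl : σ ≠ RingEquiv.refl F

lemma exists_qAut (hF : Fintype.card F = q ^ 2) : ∃ σ : F ≃+* F, IsQAut q σ := by
  obtain ⟨p, hchar⟩ := CharP.exists F
  haveI hp : Fact p.Prime := ⟨CharP.char_is_prime F p⟩
  obtain ⟨a, -, hcard⟩ := FiniteField.card F p
  obtain ⟨b, -, hb⟩ := (Nat.dvd_prime_pow hp.out).mp
    (show q ∣ p ^ (a : ℕ) by rw [← hcard, hF]; exact dvd_pow_self q two_ne_zero)
  have hq2 : 1 < q := by
    have := Fintype.one_lt_card (α := F)
    rw [hF] at this
    by_contra h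
    interval_cases q <;> simp at this
  refine ⟨RingEquiv.ofBijective (iterateFrobenius F p b)
    ⟨(iterateFrobenius F p b).injective,
      Finite.surjective_of_injective (iterateFrobenius F p b).injective⟩, hF, fun x => ?_, fun x => ?_, ?_⟩
  · rw [hb]; exact iterateFrobenius_def ..
  · show iterateFrobenius F p b (iterateFrobenius F p b x) = x
    rw [iterateFrobenius_def, iterateFrobenius_def, ← hb, ← pow_mul, ← sq, ← hF]
    exact FiniteField.pow_card x
  · intro h
    have huniv : {x : F | x ^ q = x} = Set.univ := Set.eq_univ_of_forall fun x => by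
      have h1 := RingEquiv.congr_fun h x
      rw [RingEquiv.refl_apply] at h1
      show x ^ q = x
      rw [hb]
      exact (iterateFrobenius_def ..).symm.trans h1
    have h1 := ncard_pow_eq_self_le (L := F) hq2
    rw [huniv, Set.ncard_univ, Nat.card_eq_fintype_card, hF] at h1
    nlinarith

variable {σ : F ≃+* F}

lemma IsQAut.pow_fun (hσ : IsQAut q σ) : (fun x : F => x ^ q) = ⇑σ := funext fun x => (hσ.eq_pow x).symm

lemma IsQAut.one_lt (hσ : IsQAut q σ) : 1 < q := by
  have := Fintype.one_lt_card (α := F)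
  rw [hσ.card] at this
  by_contra h
  interval_cases q <;> simp at this

lemma IsQAut.hermForm_eq (hσ : IsQAut q σ) :
    hermForm n F q = formM σ ((1 : GL (Fin n) F) : Matrix (Fin n) (Fin n) F) := by
  funext u v
  simp [hermForm, formM, dotProduct, hσ.eq_pow]

lemma IsQAut.isFormGram (hσ : IsQAut q σ) : IsFormGram σ (1 : GL (Fin n) F) 1 :=
  ⟨hσ.invol, by rw [Units.val_one, Matrix.transpose_one, twist_one, one_smul]⟩

lemma IsQAut.mem_GU (hσ : IsQAut q σ) {g : GL (Fin n) F} :
    g ∈ GU n F q ↔ (g : Matrix (Fin n) (Fin n) F)ᵀ * twist σ (g : Matrix (Fin n) (Fin n) F) = 1 := by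
  rw [GU, hσ.hermForm_eq, mem_preserving_iff, Units.val_one, mul_one]

lemma IsQAut.invariant (hσ : IsQAut q σ) {H : Subgroup (GL (Fin n) F)} (hH : H ≤ GU n F q) :
    Invariant σ H ((1 : GL (Fin n) F) : Matrix (Fin n) (Fin n) F) := fun x hx => by
  rw [Units.val_one, mul_one]
  exact hσ.mem_GU.mp (hH hx)

lemma IsQAut.le_similarity (hσ : IsQAut q σ) {H : Subgroup (GL (Fin n) F)} (hH : H ≤ GU n F q) :
    H ≤ similarityGroup (hermForm n F q) := fun x hx => ⟨1, fun u v => by
  rw [hσ.hermForm_eq, formM_mulVec, hσ.invariant hH x hx]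
  simp⟩

lemma IsQAut.isUnitaryFormPow (hσ : IsQAut q σ) {d : ℕ} (G : GL (Fin d) F)
    (hG : twist σ (G : Matrix (Fin d) (Fin d) F)ᵀ = (G : Matrix (Fin d) (Fin d) F)) :
    IsUnitaryFormPow q (formM σ (G : Matrix (Fin d) (Fin d) F)) where
  add_left := formM_add_left σ _
  smul_left := formM_smul_left σ _
  herm v w := by rw [← hσ.eq_pow, formM_swap hσ.invol, hG]
  nondegenerate := nondegenerate_formM σ G

/-- The fixed field of the automorphism of order two. -/
def fixedSub (σ : F ≃+* F) : Subfield F := (σ : F →+* F).eqLocusField (RingHom.id F)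

omit [Fintype F] in
lemma mem_fixedSub {a : F} : a ∈ fixedSub σ ↔ σ a = a := Iff.rfl

lemma IsQAut.card_fixedSub (hσ : IsQAut q σ) : Nat.card (fixedSub σ) = q := by
  obtain ⟨x, hx⟩ : ∃ x, σ x ≠ x := by
    by_contra h
    push Not at h
    exact hσ.ne_refl (RingEquiv.ext h)
  have h : Nat.card F = Nat.card (fixedSub σ) ^ 2 :=
    card_eq_sq_of_involution (τ := (σ : F →+* F)) hσ.invol hx
  rw [Nat.card_eq_fintype_card, hσ.card] at h
  exact (Nat.pow_left_injective two_ne_zero h).symm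

lemma IsQAut.fixedSub_ne_top (hσ : IsQAut q σ) : fixedSub σ ≠ ⊤ := fun h => by
  refine hσ.ne_refl (RingEquiv.ext fun x => mem_fixedSub.mp ?_)
  rw [h]; trivial

lemma mem_range_map_subfield {ι : Type} [Fintype ι] [DecidableEq ι] (F₀ : Subfield F) {k : GL ι F}
    (hk : ∀ i j, (k : Matrix ι ι F) i j ∈ F₀) :
    k ∈ (Matrix.GeneralLinearGroup.map (F₀.subtype : F₀ →+* F)).range := by
  let k₀ : Matrix ι ι F₀ := Matrix.of fun i j => ⟨(k : Matrix ι ι F) i j, hk i j⟩
  have hk₀ : k₀.map F₀.subtype = (k : Matrix ι ι F) := by ext i j; rfl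
  have hu : IsUnit k₀ := by
    rw [Matrix.isUnit_iff_isUnit_det, isUnit_iff_ne_zero]
    intro h
    have h1 := RingHom.map_det F₀.subtype k₀
    rw [h, map_zero, RingHom.mapMatrix_apply, hk₀] at h1
    exact ((Matrix.isUnit_iff_isUnit_det _).mp k.isUnit).ne_zero h1.symm
  obtain ⟨u, hu⟩ := hu
  refine ⟨u, Units.ext ?_⟩
  show (u : Matrix ι ι F₀).map F₀.subtype = _
  rw [hu, hk₀]

/-- The invertible scalar matrix. -/
def scalarMat (ι : Type) [Fintype ι] [DecidableEq ι] (c : F) (hc : c ≠ 0) : GL ι F :=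
  Units.map (Matrix.scalar ι : F →+* Matrix ι ι F).toMonoidHom (Units.mk0 c hc)

omit [Fintype F] in
lemma scalarMat_mem {ι : Type} [Fintype ι] [DecidableEq ι] (c : F) (hc : c ≠ 0) :
    scalarMat ι c hc ∈ scalars ι F := ⟨_, rfl⟩

omit [Fintype F] in
lemma coe_scalarMat {ι : Type} [Fintype ι] [DecidableEq ι] (c : F) (hc : c ≠ 0) :
    (scalarMat ι c hc : Matrix ι ι F) = c • (1 : Matrix ι ι F) := by
  show Matrix.scalar ι c = _
  simp [← Matrix.smul_one_eq_diagonal]

omit [Fintype F] in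
lemma subfieldSubgroup_mul_scalar {ι : Type} [Fintype ι] [DecidableEq ι] (F₀ : Subfield F) (P : GL ι F)
    {z : GL ι F} (hz : z ∈ scalars ι F) : subfieldSubgroup F₀ (P * z) = subfieldSubgroup F₀ P := by
  have h : (MulAut.conj (P * z)).toMonoidHom = (MulAut.conj P).toMonoidHom := by
    ext1 x
    show P * z * x * (P * z)⁻¹ = P * x * P⁻¹
    rw [mul_assoc P z x, scalars_commute hz x]
    group
  rw [subfieldSubgroup, subfieldSubgroup, h]

/-- A spanning normalised group of similitudes realised over the fixed field gives a class. -/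
theorem u_subfield_two (hσ : IsQAut q σ) (hn : 2 ≤ n) {H N : Subgroup (GL (Fin n) F)} (hH : H ≤ GU n F q)
    (hN : spanAlg N = ⊤) (hnorm : Normalises H N)
    (hsim : ∀ x ∈ N, ∃ c : F,
      (x : Matrix (Fin n) (Fin n) F)ᵀ * twist σ (x : Matrix (Fin n) (Fin n) F) = c • 1)
    {F₀ : Subfield F} (hcard : Fintype.card F = Nat.card F₀ ^ 2)
    (hreal : RealisableOver F₀ (matrixSet N)) : UHasClass q H := by
  classical
  haveI : Nonempty (Fin n) := ⟨⟨0, by omega⟩⟩
  have hq0 : Nat.card F₀ = q := by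
    rw [hσ.card] at hcard
    exact (Nat.pow_left_injective two_ne_zero hcard).symm
  have hmem : ∀ a, a ∈ F₀ ↔ σ a = a := fun a => by rw [mem_subfield_iff, hq0, hσ.eq_pow]
  obtain ⟨P, hP, hPN⟩ := le_subfieldSubgroup hN hnorm hreal
  set Pm : Matrix (Fin n) (Fin n) F := (P : Matrix (Fin n) (Fin n) F) with hPm
  set B : Matrix (Fin n) (Fin n) F := Pmᵀ * twist σ Pm with hB
  have hBf : ∀ u v : Fin n → F, hermForm n F q (Pm *ᵥ u) (Pm *ᵥ v) = formM σ B u v := fun u v => by
    rw [hσ.hermForm_eq, formM_mulVec, Units.val_one, mul_one]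
  have hBu : IsUnit B := by
    refine IsUnit.mul ?_ ?_
    · rw [Matrix.isUnit_iff_isUnit_det, Matrix.det_transpose, ← Matrix.isUnit_iff_isUnit_det]
      exact P.isUnit
    · rw [hPm, ← coe_twistGL]; exact (twistGL σ P).isUnit
  obtain ⟨Bu, hBu'⟩ := hBu
  have hherm : twist σ Bᵀ = B := by
    rw [hB, Matrix.transpose_mul, Matrix.transpose_transpose, twist_mul, ← Matrix.transpose_map,
      twist_twist hσ.invol]
  -- the elements in the new basis
  have hy : ∀ x ∈ N, ∃ c : F, c ≠ 0 ∧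
      ((P⁻¹ * x * P : GL (Fin n) F) : Matrix (Fin n) (Fin n) F)ᵀ * B *
        ((P⁻¹ * x * P : GL (Fin n) F) : Matrix (Fin n) (Fin n) F) = c • B := by
    intro x hx
    obtain ⟨c, hc⟩ := hsim x hx
    refine ⟨c, ?_, ?_⟩
    · rintro rfl
      rw [zero_smul] at hc
      have hu : IsUnit ((x : Matrix (Fin n) (Fin n) F)ᵀ * twist σ (x : Matrix (Fin n) (Fin n) F)) := by
        refine IsUnit.mul ?_ ?_
        · rw [Matrix.isUnit_iff_isUnit_det, Matrix.det_transpose, ← Matrix.isUnit_iff_isUnit_det]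
          exact x.isUnit
        · rw [← coe_twistGL]; exact (twistGL σ x).isUnit
      rw [hc] at hu
      exact hu.ne_zero rfl
    set y : GL (Fin n) F := P⁻¹ * x * P with hy
    have htw : twist σ (y : Matrix (Fin n) (Fin n) F) = (y : Matrix (Fin n) (Fin n) F) := by
      ext i j
      exact (hmem _).mp (hPN x hx i j)
    have hPy : Pm * (y : Matrix (Fin n) (Fin n) F) = (x : Matrix (Fin n) (Fin n) F) * Pm := by
      rw [hy, hPm, ← Units.val_mul, ← Units.val_mul]
      congr 1
      group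
    conv_lhs => arg 2; rw [← htw]
    calc (y : Matrix (Fin n) (Fin n) F)ᵀ * B * twist σ (y : Matrix (Fin n) (Fin n) F)
        = (Pm * (y : Matrix (Fin n) (Fin n) F))ᵀ * twist σ (Pm * (y : Matrix (Fin n) (Fin n) F)) := by
          rw [hB, Matrix.transpose_mul, twist_mul]; simp only [mul_assoc]
      _ = Pmᵀ * ((x : Matrix (Fin n) (Fin n) F)ᵀ * twist σ (x : Matrix (Fin n) (Fin n) F)) * twist σ Pm := by
          rw [hPy, Matrix.transpose_mul, twist_mul]; simp only [mul_assoc]
      _ = c • B := by rw [hc, Matrix.mul_smul, mul_one, Matrix.smul_mul, hB]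
  -- symmetric or skew
  obtain ⟨ε, hε⟩ : ∃ ε : F, Bᵀ = ε • B := by
    set Bi : Matrix (Fin n) (Fin n) F := ((Bu⁻¹ : GL (Fin n) F) : Matrix (Fin n) (Fin n) F) with hBi
    have hBiB : Bi * B = 1 := by rw [hBi, ← hBu', Units.inv_mul]
    have hBBi : B * Bi = 1 := by rw [hBi, ← hBu', Units.mul_inv]
    have hW : ∀ x ∈ N,
        Bi * Bᵀ * ((P⁻¹ * x * P : GL (Fin n) F) : Matrix (Fin n) (Fin n) F) =
          ((P⁻¹ * x * P : GL (Fin n) F) : Matrix (Fin n) (Fin n) F) * (Bi * Bᵀ) := by
      intro x hx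
      obtain ⟨c, hc0, h1⟩ := hy x hx
      set y := ((P⁻¹ * x * P : GL (Fin n) F) : Matrix (Fin n) (Fin n) F)
      set yi := (((P⁻¹ * x * P)⁻¹ : GL (Fin n) F) : Matrix (Fin n) (Fin n) F)
      have hyy : y * yi = 1 := Units.mul_inv _
      have hyt : yiᵀ * yᵀ = 1 := by rw [← Matrix.transpose_mul, hyy, Matrix.transpose_one]
      have h2 : yᵀ * Bᵀ * y = c • Bᵀ := by
        have := congrArg Matrix.transpose h1
        rwa [Matrix.transpose_mul, Matrix.transpose_mul, Matrix.transpose_transpose, Matrix.transpose_smul,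
          ← mul_assoc] at this
      have e1 : B * y = c • (yiᵀ * B) := by
        rw [← Matrix.mul_smul, ← h1, ← mul_assoc, ← mul_assoc, hyt, one_mul]
      have e2 : Bᵀ * y = c • (yiᵀ * Bᵀ) := by
        rw [← Matrix.mul_smul, ← h2, ← mul_assoc, ← mul_assoc, hyt, one_mul]
      have e3 : c • yiᵀ = B * y * Bi := by
        rw [e1, Matrix.smul_mul, mul_assoc, hBBi, mul_one]
      calc Bi * Bᵀ * y = Bi * ((c • yiᵀ) * Bᵀ) := by rw [mul_assoc, e2, Matrix.smul_mul]
        _ = Bi * B * y * (Bi * Bᵀ) := by rw [e3]; simp only [mul_assoc]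
        _ = y * (Bi * Bᵀ) := by rw [hBiB, one_mul]
    obtain ⟨ε, hε⟩ := (absIrred_of_span_top hN).2 (conjM P (Bi * Bᵀ)) (by
      rintro _ ⟨x, hx, rfl⟩
      have := congrArg (conjM P) (hW x hx)
      rw [map_mul, map_mul (conjM P) _ (Bi * Bᵀ), conjM_coe] at this
      rwa [show P * (P⁻¹ * x * P) * P⁻¹ = x by group] at this)
    refine ⟨ε, ?_⟩
    have h3 : Bi * Bᵀ = ε • 1 := (conjM P).injective (by rw [hε, map_smul, map_one])
    calc Bᵀ = B * (Bi * Bᵀ) := by rw [← mul_assoc, hBBi, one_mul]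
      _ = ε • B := by rw [h3, Matrix.mul_smul, mul_one]
  have hB0 : B ≠ 0 := by rw [← hBu']; exact Bu.isUnit.ne_zero
  have hεε : ε * ε = 1 := by
    have h := congrArg Matrix.transpose hε
    rw [Matrix.transpose_transpose, Matrix.transpose_smul, hε, smul_smul] at h
    have h0 : (ε * ε - 1) • B = 0 := by rw [sub_smul, one_smul, ← h, sub_self]
    exact sub_eq_zero.mp ((smul_eq_zero.mp h0).resolve_right hB0)
  have hσB : twist σ B = ε • B := by
    conv_lhs => rw [← hherm]
    rw [twist_twist hσ.invol, hε]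
  have hle : H ≤ subfieldSubgroup F₀ P ⊓ GU n F q := le_inf hP hH
  have hoddF : Odd (Fintype.card F) ↔ Odd q := by
    rw [hσ.card, Nat.odd_pow_iff two_ne_zero]
  by_cases hcase : ε = 1 ∧ Odd q
  · obtain ⟨rfl, hodd⟩ := hcase
    refine ⟨_, Or.inl (Or.inr (Or.inr (Or.inr (Or.inr (Or.inr (Or.inl
      ⟨F₀, P, hodd, hcard, fun u v hu hv => ?_, rfl⟩)))))), hle⟩
    rw [one_mul, hBf]
    refine formM_mem_subfield (fun a ha => by rw [(hmem a).mp ha]; exact ha) (fun i j => ?_) hu hv
    rw [hmem]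
    have h := congrFun (congrFun hσB i) j
    rwa [one_smul] at h
  -- the alternating case
  have hneg : (-1 : F) = ε := by
    rcases mul_self_eq_one_iff.mp hεε with h | h
    · have h2 := two_eq_zero_of_not_odd (F := F) (fun ho => hcase ⟨h, hoddF.mp ho⟩)
      rw [h]
      linear_combination -h2
    · exact h.symm
  subst hneg
  have hskew : Bᵀ = -B := by rw [hε, neg_one_smul]
  have halt : ∀ v, formM (RingEquiv.refl F) B v v = 0 := by
    by_cases hodd : Odd (Fintype.card F)
    · intro v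
      have h1 := formM_transpose B v v
      rw [hskew, ← neg_one_smul F B, formM_smul] at h1
      apply mul_left_cancel₀ (two_ne_zero_of_odd hodd)
      linear_combination -h1
    · have h2 := two_eq_zero_of_not_odd hodd
      haveI : CharP F 2 := CharTwo.of_one_ne_zero_of_two_eq_zero one_ne_zero h2
      have hsym : Bᵀ = B := by
        rw [hskew]
        ext i j
        rw [Matrix.neg_apply]
        linear_combination -B i j * h2
      set N' := ((cj P⁻¹ N) ⊔ scalars (Fin n) F) ⊓
        preserving (Units.coeHom (Matrix (Fin n) (Fin n) F)) (formM (RingEquiv.refl F) B) with hN'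
      have hinv : Invariant (RingEquiv.refl F) N' B := fun x hx => mem_preserving_iff.mp hx.2
      have hspan : spanAlg N' = ⊤ := by
        rw [eq_top_iff]
        intro X _
        have hX : X ∈ spanAlg (cj P⁻¹ N) := by
          rw [mem_spanAlg_cj, hN]; trivial
        refine (spanAlg_le fun y hy' => ?_ : spanAlg (cj P⁻¹ N) ≤ spanAlg N') hX
        obtain ⟨x, hx, rfl⟩ := hy'
        obtain ⟨c, hc0, h1⟩ := hy x hx
        obtain ⟨s, hs⟩ := (frobeniusEquiv F 2).surjective c
        rw [frobeniusEquiv_apply, frobenius_def] at hs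
        have hs0 : s ≠ 0 := by
          rintro rfl
          exact hc0 (by rw [← hs]; simp)
        set y : GL (Fin n) F := (MulAut.conj P⁻¹).toMonoidHom x with hy
        have hyv : y = P⁻¹ * x * P := by simp [hy]
        set z := scalarMat (Fin n) s⁻¹ (inv_ne_zero hs0)
        have hval : ((z * y : GL (Fin n) F) : Matrix (Fin n) (Fin n) F) = s⁻¹ • (y : Matrix (Fin n) (Fin n) F) := by
          rw [Units.val_mul, coe_scalarMat, Matrix.smul_mul, one_mul]
        have hzy : z * y ∈ N' := by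
          refine ⟨Subgroup.mul_mem _ (Subgroup.mem_sup_right (scalarMat_mem _ _))
            (Subgroup.mem_sup_left ⟨x, hx, rfl⟩), mem_preserving_iff.mpr ?_⟩
          rw [hval, twist_refl, Matrix.transpose_smul, Matrix.smul_mul, Matrix.smul_mul, Matrix.mul_smul,
            hyv, h1, smul_smul, smul_smul, ← hs]
          rw [show s⁻¹ * s⁻¹ * s ^ 2 = 1 by field_simp, one_smul]
        have := Subalgebra.smul_mem _ (coe_mem_spanAlg hzy) s
        rwa [hval, smul_smul, mul_inv_cancel₀ hs0, one_smul] at this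
      rw [← hBu'] at hinv hsym ⊢
      exact alternating_of_invariant hodd (by rw [Fintype.card_fin]; omega) (absIrred_of_span_top hspan).1
        hsym hinv
  have hev : Even n := by
    have hf := isSymplecticForm_formM Bu (by rw [hBu', hskew]) (by rw [hBu']; exact halt)
    have := even_of_isSymplecticForm hf
    rwa [Fintype.card_fin] at this
  obtain ⟨ζ, hζ0, hζ⟩ := exists_twist hσ.ne_refl (c := (-1 : F)) (by rw [map_neg, map_one]; ring) hσ.invol
  refine ⟨_, Or.inl (Or.inr (Or.inr (Or.inr (Or.inr (Or.inr (Or.inr (Or.inl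
    ⟨F₀, P, ζ, hev, hcard, hζ0, by rw [← hσ.eq_pow]; linear_combination -hζ,
      fun u v hu hv => ?_, fun u hu => ?_, rfl⟩))))))), hle⟩
  · rw [hBf, ← formM_smul]
    refine formM_mem_subfield (fun a ha => by rw [(hmem a).mp ha]; exact ha) (fun i j => ?_) hu hv
    rw [hmem, Matrix.smul_apply, smul_eq_mul, map_mul]
    have h : σ (B i j) = -(B i j) := by
      have h' := congrFun (congrFun hσB i) j
      simpa using h'
    rw [h]
    linear_combination (B i j) * hζ
  · rw [hBf]
    have : formM σ B u u = formM (RingEquiv.refl F) B u u := by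
      simp only [formM, RingEquiv.refl_apply, fun i => (hmem _).mp (hu i)]
    rw [this, halt]

/-- Groups normalising a spanning subgroup realised over a proper subfield. -/
theorem u_subfield (hσ : IsQAut q σ) (hn : 2 ≤ n) {H N : Subgroup (GL (Fin n) F)} (hH : H ≤ GU n F q)
    (hN : spanAlg N = ⊤) (hNH : N ≤ H) (hnorm : Normalises H N) {F₀ : Subfield F} (hne : F₀ ≠ ⊤)
    (hreal : RealisableOver F₀ (matrixSet N)) : UHasClass q H := by
  classical
  haveI : Nonempty (Fin n) := ⟨⟨0, by omega⟩⟩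
  obtain ⟨F₁, r, hle, hr, hcard, -⟩ := exists_prime_index hne
  rw [Nat.card_eq_fintype_card (α := F)] at hcard
  obtain ⟨B, hB⟩ := hreal
  have hreal₁ : RealisableOver F₁ (matrixSet N) := ⟨B, fun s hs i j => hle (hB s hs i j)⟩
  rcases hr.eq_two_or_odd' with rfl | hrodd
  · refine u_subfield_two hσ hn hH hN hnorm (fun x hx => ⟨1, ?_⟩) hcard hreal₁
    rw [one_smul]
    exact hσ.mem_GU.mp (hH (hNH hx))
  obtain ⟨P, hP, hPN⟩ := le_subfieldSubgroup hN hnorm hreal₁
  obtain ⟨c, G₁, hc, hG₁, ⟨i₀, j₀, h1⟩, hG⟩ :=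
    exists_rational_gram hN ((hσ.invariant hH).mono hNH) (P := P) hPN
  rw [Units.val_one, mul_one] at hG
  have hherm : σ c • twist σ (G₁ : Matrix (Fin n) (Fin n) F)ᵀ = c • (G₁ : Matrix (Fin n) (Fin n) F) := by
    rw [← twist_smul, ← Matrix.transpose_smul, ← hG, Matrix.transpose_mul, Matrix.transpose_transpose,
      twist_mul, ← Matrix.transpose_map, twist_twist hσ.invol]
  set u := σ ((G₁ : Matrix (Fin n) (Fin n) F) j₀ i₀) with hu
  have huF : u ∈ F₁ := ringEquiv_mem_subfield σ F₁ (hG₁ _ _)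
  have hcu : σ c * u = c := by
    have h := congrFun (congrFun hherm i₀) j₀
    simpa [h1] using h
  have huu : u * σ u = 1 := by
    have h := congrArg σ hcu
    rw [map_mul, hσ.invol] at h
    apply mul_left_cancel₀ hc
    have h' : c * σ u * u = c := by rw [h, hcu]
    linear_combination h'
  -- the restriction of σ
  let σh : F₁ →+* F₁ := ((σ : F →+* F).comp F₁.subtype).codRestrict F₁
    (fun a => ringEquiv_mem_subfield σ F₁ a.2)
  let σ₁ : F₁ ≃+* F₁ :=
    RingEquiv.ofBijective σh ⟨σh.injective, Finite.surjective_of_injective σh.injective⟩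
  have hσ₁ : ∀ a : F₁, (σ₁ a : F) = σ a := fun a => rfl
  have hne₁ : σ₁ ≠ RingEquiv.refl F₁ := by
    intro hEq
    obtain ⟨p, hchar⟩ := CharP.exists F
    haveI hp : Fact p.Prime := ⟨CharP.char_is_prime F p⟩
    obtain ⟨e, -, hFp⟩ := FiniteField.card F p
    obtain ⟨b, -, hb⟩ := (Nat.dvd_prime_pow hp.out).mp
      (show Nat.card F₁ ∣ p ^ (e : ℕ) by rw [← hFp, hcard]; exact dvd_pow_self _ hr.ne_zero)
    obtain ⟨a, -, ha⟩ := (Nat.dvd_prime_pow hp.out).mp
      (show q ∣ p ^ (e : ℕ) by rw [← hFp, hσ.card]; exact dvd_pow_self q two_ne_zero)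
    have hbr : b * r = a * 2 := by
      apply Nat.pow_right_injective hp.out.two_le
      show p ^ (b * r) = p ^ (a * 2)
      rw [pow_mul, pow_mul, ← hb, ← ha, ← hcard, hσ.card]
    obtain ⟨s, hs⟩ := hrodd
    have hbev : b = 2 * (a - b * s) ∧ a = b * s + (a - b * s) := by
      rw [hs] at hbr
      have : b * (2 * s + 1) = 2 * (b * s) + b := by ring
      omega
    set b' := a - b * s with hb'
    have hb'0 : 0 < b' := by
      by_contra h
      have hb0 : b = 0 := by omega
      rw [hb0, pow_zero] at hb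
      have := subfield_card_one_lt F₁
      omega
    have hpb : ∀ x : F, x ∈ F₁ → x ^ (p ^ (b * s)) = x := by
      intro x hx
      rw [pow_mul p b s, ← hb]
      have hxF := (mem_subfield_iff F₁ x).mp hx
      have key : ∀ k : ℕ, x ^ (Nat.card F₁ ^ k) = x := fun k => by
        induction k with
        | zero => simp
        | succ k ih => rw [pow_succ, pow_mul, ih, hxF]
      exact key s
    have huniv : {x : F₁ | x ^ (p ^ b') = x} = Set.univ := Set.eq_univ_of_forall fun x => by
      show x ^ (p ^ b') = x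
      apply Subtype.ext
      have h2 : σ (x : F) = x := by rw [← hσ₁, hEq, RingEquiv.refl_apply]
      rw [hσ.eq_pow, ha, hbev.2, pow_add, pow_mul, hpb _ x.2] at h2
      rw [SubmonoidClass.coe_pow]
      exact h2
    have h3 := ncard_pow_eq_self_le (L := F₁) (Q := p ^ b') (Nat.one_lt_pow hb'0.ne' hp.out.one_lt)
    rw [huniv, Set.ncard_univ, hb, hbev.1] at h3
    have := Nat.pow_lt_pow_right hp.out.one_lt (show b' < 2 * b' by omega)
    omega
  obtain ⟨a, ha0, ha⟩ := exists_twist hne₁ (c := (⟨u, huF⟩ : F₁)) (Subtype.ext (by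
    show u * (σ₁ ⟨u, huF⟩ : F) = 1
    rw [hσ₁]; exact huu)) (fun x => Subtype.ext (by rw [hσ₁, hσ₁, hσ.invol]))
  have ha' : u * σ (a : F) = a := by
    have h := congrArg Subtype.val ha
    simpa [hσ₁] using h
  have ha0' : (a : F) ≠ 0 := fun h => ha0 (Subtype.ext h)
  have hσa : σ (a : F) ≠ 0 := (map_ne_zero σ).mpr ha0'
  have hwfix : σ ((a : F) / c) = (a : F) / c := by
    rw [map_div₀, div_eq_div_iff ((map_ne_zero σ).mpr hc) hc]
    conv_lhs => arg 2; rw [← hcu]
    linear_combination σ c * ha'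
  obtain ⟨ν, hν⟩ := Cfsg.Agent.Lib.Forms.exists_norm_eq (σ := (σ : F →+* F))
    (fun h => hσ.ne_refl (RingEquiv.ext fun z => RingHom.congr_fun h z)) hσ.invol hwfix
  have hν' : ν * σ ν = (a : F) / c := hν
  have hν0 : ν ≠ 0 := by
    rintro rfl
    rw [zero_mul] at hν'
    exact div_ne_zero ha0' hc hν'.symm
  set z := scalarMat (Fin n) ν hν0 with hz
  refine ⟨subfieldSubgroup F₁ (P * z) ⊓ GU n F q, Or.inl (Or.inr (Or.inr (Or.inr (Or.inr (Or.inl
    ⟨F₁, r, P * z, hr, hrodd, hcard, fun v w hv hw => ?_, rfl⟩))))),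
    le_inf (by rw [subfieldSubgroup_mul_scalar F₁ P (scalarMat_mem _ _)]; exact hP) hH⟩
  have hPz : ((P * z : GL (Fin n) F) : Matrix (Fin n) (Fin n) F) = ν • (P : Matrix (Fin n) (Fin n) F) := by
    rw [Units.val_mul, hz, coe_scalarMat, Matrix.mul_smul, mul_one]
  rw [one_mul, hσ.hermForm_eq, formM_mulVec, Units.val_one, mul_one, hPz, Matrix.transpose_smul, twist_smul,
    Matrix.smul_mul, Matrix.mul_smul, hG, smul_smul, smul_smul, hν', div_mul_cancel₀ _ hc]
  exact formM_mem_subfield (fun x hx => ringEquiv_mem_subfield σ F₁ hx)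
    (fun i j => by rw [Matrix.smul_apply]; exact F₁.mul_mem a.2 (hG₁ i j)) hv hw

/-- A group whose twist is, up to scalars, a conjugate of itself by a matrix of twisted square a scalar. -/
theorem u_class_of_twist_conj (hσ : IsQAut q σ) (hn : 2 ≤ n) {H : Subgroup (GL (Fin n) F)}
    (hH : H ≤ GU n F q) (hspan : spanAlg H = ⊤) {C : GL (Fin n) F} {δ : F}
    (hC2 : ((twistGL σ C * C : GL (Fin n) F) : Matrix (Fin n) (Fin n) F) = δ • 1)
    (hC : ∀ g ∈ H, ∃ l : F, twist σ (g : Matrix (Fin n) (Fin n) F) = l • conjM C (g : Matrix (Fin n) (Fin n) F)) :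
    UHasClass q H := by
  classical
  haveI : Nonempty (Fin n) := ⟨⟨0, by omega⟩⟩
  have hDD : twistGL σ C * C ∈ scalars (Fin n) F := mem_scalars_of_commute hC2
  have hfix : ∀ g ∈ H, ∃ (μ : F) (hμ : μ ≠ 0),
      twist σ ((scalarMat (Fin n) μ hμ * g : GL (Fin n) F) : Matrix (Fin n) (Fin n) F) =
        conjM C ((scalarMat (Fin n) μ hμ * g : GL (Fin n) F) : Matrix (Fin n) (Fin n) F) := by
    intro g hg
    obtain ⟨l, hl⟩ := hC g hg
    have hll : l * σ l = 1 := by
      have h := congrArg (twist σ) hl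
      rw [twist_twist hσ.invol, twist_smul] at h
      have e : twist σ (conjM C (g : Matrix (Fin n) (Fin n) F)) =
          conjM (twistGL σ C) (twist σ (g : Matrix (Fin n) (Fin n) F)) := by
        rw [conjM_coe, conjM_apply, ← coe_twistGL, ← coe_twistGL, ← Units.val_mul, ← Units.val_mul,
          map_mul, map_mul, map_inv]
      rw [e, hl, map_smul, ← conjM_mul, smul_smul, conjM_coe,
        scalars_commute hDD g, mul_inv_cancel_right] at h
      have h0 : (σ l * l - 1) • (g : Matrix (Fin n) (Fin n) F) = 0 := by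
        rw [sub_smul, one_smul, ← h, sub_self]
      rw [mul_comm]
      exact sub_eq_zero.mp ((smul_eq_zero.mp h0).resolve_right g.isUnit.ne_zero)
    obtain ⟨μ, hμ0, hμ⟩ := exists_twist hσ.ne_refl hll hσ.invol
    refine ⟨μ, hμ0, ?_⟩
    rw [Units.val_mul, coe_scalarMat, Matrix.smul_mul, one_mul, twist_smul, hl, smul_smul, map_smul,
      mul_comm, hμ]
  let T : Subgroup (GL (Fin n) F) := (twistGL σ).eqLocus (MulAut.conj C).toMonoidHom
  set N : Subgroup (GL (Fin n) F) := (H ⊔ scalars (Fin n) F) ⊓ T with hN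
  have hmemT : ∀ x : GL (Fin n) F, twist σ (x : Matrix (Fin n) (Fin n) F) =
      conjM C (x : Matrix (Fin n) (Fin n) F) → x ∈ T := fun x hx => Units.ext (by
    rw [coe_twistGL, hx, conjM_coe]
    rfl)
  have hmem : ∀ g ∈ H, ∃ z ∈ scalars (Fin n) F, z * g ∈ N := fun g hg => by
    obtain ⟨μ, hμ, h⟩ := hfix g hg
    exact ⟨_, scalarMat_mem μ hμ,
      Subgroup.mul_mem _ (Subgroup.mem_sup_right (scalarMat_mem μ hμ)) (Subgroup.mem_sup_left hg), hmemT _ h⟩
  have hNspan : spanAlg N = ⊤ := by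
    refine eq_top_iff.mpr (hspan ▸ spanAlg_le fun g hg => ?_)
    obtain ⟨μ, hμ, h⟩ := hfix g hg
    have hm : scalarMat (Fin n) μ hμ * g ∈ N :=
      ⟨Subgroup.mul_mem _ (Subgroup.mem_sup_right (scalarMat_mem μ hμ)) (Subgroup.mem_sup_left hg), hmemT _ h⟩
    have := Subalgebra.smul_mem _ (coe_mem_spanAlg hm) μ⁻¹
    rwa [Units.val_mul, coe_scalarMat, Matrix.smul_mul, one_mul, smul_smul, inv_mul_cancel₀ hμ, one_smul] at this
  have hnorm : Normalises H N := by
    intro g hg x hx
    obtain ⟨z, hz, hzg⟩ := hmem g hg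
    have e : g * x * g⁻¹ = z * g * x * (z * g)⁻¹ := by
      rw [scalars_commute hz g, mul_assoc g z x, scalars_commute hz x]
      group
    rw [e]
    exact N.mul_mem (N.mul_mem hzg hx) (N.inv_mem hzg)
  haveI : (scalars (Fin n) F).Normal := scalars_normal
  have hsim : ∀ x ∈ N, ∃ c : F,
      (x : Matrix (Fin n) (Fin n) F)ᵀ * twist σ (x : Matrix (Fin n) (Fin n) F) = c • 1 := by
    intro x hx
    obtain ⟨h, hh, z, hz, rfl⟩ := Subgroup.mem_sup_of_normal_right.mp hx.1
    obtain ⟨c, hc⟩ := (mem_scalars_iff z).mp hz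
    refine ⟨(c : F) * σ (c : F), ?_⟩
    rw [Units.val_mul, hc, Matrix.mul_smul, mul_one, Matrix.transpose_smul, twist_smul, Matrix.smul_mul,
      Matrix.mul_smul, hσ.mem_GU.mp (hH hh), smul_smul]
  refine u_subfield_two hσ hn hH hNspan hnorm hsim (F₀ := fixedSub σ) ?_
    (realisable_of_twist_conj hNspan (fixedSub σ) (σ := σ)
      (fun x => by rw [hσ.card_fixedSub, hσ.eq_pow]) (C := C) fun x hx => ?_)
  · rw [hσ.card_fixedSub, hσ.card]
  · have h : twistGL σ x = C * x * C⁻¹ := hx.2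
    rw [← coe_twistGL, h, conjM_coe]

end Cfsg.Agent.Lib.Aschbacher
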