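/-
Aschbacher's theorem for the unitary groups, part two: the reducible, imprimitive, extension field and
symplectic type cases, and stabilisers of tensor powers.
-/
import Cfsg.Agent.Lib.Aschbacher.UnitarySubfield
import Cfsg.Agent.Lib.Aschbacher.FormBasis

set_option autoImplicit false

namespace Cfsg.Agent.Lib.Aschbacher

open Cfsg Cfsg.Geo Matrix
open scoped Kronecker

set_option maxHeartbeats 1000000

variable {F : Type*} [Field F] [Fintype F] {n q : ℕ} {σ : F ≃+* F}

/-- The reducible case. -/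
theorem u_reducible (hσ : IsQAut q σ) {H : Subgroup (GL (Fin n) F)} (hH : H ≤ GU n F q)
    (hred : ¬ ActsIrreducibly (matrixSet H)) : UHasClass q H := by
  rcases exists_subspace_of_reducible hσ.isFormGram (hσ.invariant hH) hred with
    ⟨W, hW0, hts, hle⟩ | ⟨W, U, hW0, hU0, hi, hs, hd, htot, hndW, hndU, hoWU, hoUW, hWi, hUi⟩
  · exact ⟨subspaceStabilizer W ⊓ GU n F q, Or.inl (Or.inl
      ⟨W, hW0, fun u hu v hv => by rw [hσ.hermForm_eq]; exact hts u hu v hv, rfl⟩), le_inf hle hH⟩
  rw [Fintype.card_fin] at htot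
  rcases Nat.lt_or_ge (2 * Module.finrank F W) n with hlt | hge
  · exact ⟨subspaceStabilizer W ⊓ GU n F q, Or.inl (Or.inr (Or.inl
      ⟨W, hW0, by rw [hσ.hermForm_eq]; exact hndW, hlt, rfl⟩)), le_inf (le_subspaceStabilizer hWi) hH⟩
  · obtain ⟨hD, hle⟩ := decomposition_of_pair (H := H) hW0 hi hs (k := Module.finrank F W) rfl (by omega) hWi hUi
    refine ⟨decompositionStabilizer ![W, U] ⊓ GU n F q, Or.inl (Or.inr (Or.inr (Or.inl
      ⟨2, _, ![W, U], ⟨hD, ?_, ?_⟩, rfl⟩))), le_inf hle hH⟩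
    · intro i
      rw [hσ.hermForm_eq]
      fin_cases i
      · exact hndW
      · exact hndU
    · intro i j hij
      rw [hσ.hermForm_eq]
      fin_cases i <;> fin_cases j
      · exact absurd rfl hij
      · exact hoWU
      · exact hoUW
      · exact absurd rfl hij

/-- The imprimitive case. -/
theorem u_imprimitive (hσ : IsQAut q σ) {H : Subgroup (GL (Fin n) F)} (hH : H ≤ GU n F q)
    (him : HasImprimitive H) : UHasClass q H := by
  rcases exists_decomposition_of_imprimitive hσ.isFormGram (hσ.invariant hH) him with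
    ⟨t, e, he, hself⟩ | ⟨e, he, h01, h10⟩
  · obtain ⟨m, hm, hle⟩ := he.nondegenerate hσ.invol hself
    exact ⟨decompositionStabilizer (fun i => rangeOf (e i)) ⊓ GU n F q, Or.inl (Or.inr (Or.inr (Or.inl
      ⟨t, m, _, by rw [hσ.hermForm_eq]; exact hm, rfl⟩))), le_inf hle hH⟩
  · obtain ⟨k, hk, hle⟩ := he.decomposition
    have h2k := finrank_of_two_members hk
    rw [Fintype.card_fin] at h2k
    refine ⟨decompositionStabilizer (fun i => rangeOf (e i)) ⊓ GU n F q, Or.inl (Or.inr (Or.inr (Or.inr (Or.inl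
      ⟨k, _, h2k, hk, fun i => ?_, rfl⟩)))), le_inf hle hH⟩
    rw [hσ.hermForm_eq]
    fin_cases i
    · exact totallySingular_of_adj hσ.invol (he.idem 0) h01 (he.orth 1 0 (by decide))
    · exact totallySingular_of_adj hσ.invol (he.idem 1) h10 (he.orth 0 1 (by decide))

/-- The extension field case. -/
theorem u_extension (hσ : IsQAut q σ) (hn : 1 ≤ n) {H : Subgroup (GL (Fin n) F)} (hH : H ≤ GU n F q)
    (hext : HasExtension H) : UHasClass q H := by
  haveI : Nonempty (Fin n) := ⟨⟨0, by omega⟩⟩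
  obtain ⟨r, K, hr, hK, hnorm, hstab, -⟩ :=
    exists_stable_field hσ.isFormGram (hσ.invariant hH) hext
  have hodd := stable_field_sesquilinear hσ.ne_refl hσ.isFormGram hr hK hstab
  refine ⟨subalgebraNormalizer K ⊓ GU n F q, Or.inr (Or.inl ⟨r, K, hr, hodd, hK,
    fun k hk => ⟨adjM σ (1 : GL (Fin n) F) k, (hstab k).mpr hk, fun u v => ?_⟩, rfl⟩),
    le_inf hnorm hH⟩
  rw [hσ.hermForm_eq, formM_adjM hσ.invol]

/-- The symplectic type case. -/
theorem u_symplecticCore (hσ : IsQAut q σ) (hn : 2 ≤ n) {H : Subgroup (GL (Fin n) F)} (hH : H ≤ GU n F q)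
    (hsc : HasSymplecticCore H) : UHasClass q H := by
  classical
  haveI : Nonempty (Fin n) := ⟨⟨0, by omega⟩⟩
  obtain ⟨R, r, hRH, hnorm, hR⟩ := hsc
  obtain ⟨p, hchar⟩ := CharP.exists F
  haveI hp : Fact p.Prime := ⟨CharP.char_is_prime F p⟩
  obtain ⟨a, -, hcard⟩ := FiniteField.card F p
  set z := Nat.card (Subgroup.center R) with hz
  choose g hg using fun x : Subgroup.center R => hR.exists_scalar x.2
  have hmul : ∀ x y, g (x * y) = g x * g y := fun x y => by
    apply Units.ext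
    have h := hg (x * y)
    rw [Subgroup.coe_mul, Subgroup.coe_mul, Units.val_mul, hg, hg, Matrix.smul_mul, one_mul, smul_smul] at h
    have := congrFun (congrFun h ⟨0, by omega⟩) ⟨0, by omega⟩
    simpa [eq_comm] using this
  let f : Subgroup.center R →* Fˣ := MonoidHom.mk' g hmul
  have hf : Function.Injective f := fun x y h => by
    have h' : g x = g y := h
    apply Subtype.ext; apply Subtype.ext; apply Units.ext
    rw [hg, hg, h']
  have hzdvd : z ∣ p ^ (a : ℕ) - 1 := by
    have h1 := Subgroup.card_dvd_of_injective f hf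
    rwa [Nat.card_units, Nat.card_eq_fintype_card (α := F), hcard] at h1
  by_cases hmin : ∃ d, 0 < d ∧ d < (a : ℕ) ∧ z ∣ p ^ d - 1
  · obtain ⟨d, hd0, hda, hzd⟩ := hmin
    refine u_subfield hσ hn hH hR.span_top hRH hnorm (F₀ := frobFixed F p d) ?_ (hR.realisable _ ?_)
    · exact frobFixed_ne_top hd0 (by
        rw [Nat.card_eq_fintype_card, hcard]
        exact Nat.pow_lt_pow_right hp.out.one_lt hda)
    · intro x hx c hc
      rw [mem_frobFixed]
      have hcg : (c : F) = (g ⟨x, hx⟩ : F) := by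
        have h1 := hg ⟨x, hx⟩
        rw [hc] at h1
        simpa using congrFun (congrFun h1 ⟨0, by omega⟩) ⟨0, by omega⟩
      obtain ⟨k, hk⟩ := hzd
      have hpow : p ^ d = z * k + 1 := by
        have := Nat.one_le_pow d p hp.out.pos
        omega
      have hroot : (g ⟨x, hx⟩ : F) ^ z = 1 := by
        rw [← Units.val_pow_eq_pow_val, show g ⟨x, hx⟩ ^ z = f (⟨x, hx⟩ ^ z) from (map_pow f _ _).symm,
          hz, pow_card_eq_one', map_one, Units.val_one]
      rw [hcg, hpow, pow_succ, pow_mul, hroot, one_pow, one_mul]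
  push Not at hmin
  have hrp : r ≠ p := fun h => hR.ne_char (by rw [h]; exact CharP.cast_eq_zero F p)
  have hfield : IsMinimalFieldFor z p a F := ⟨hp.out, hchar, hcard, hzdvd, fun d h1 h2 => hmin d h1 h2⟩
  have heven : ∃ b, 0 < b ∧ (a : ℕ) = 2 * b := by
    obtain ⟨b, -, hb⟩ := (Nat.dvd_prime_pow hp.out).mp
      (show q ∣ p ^ (a : ℕ) by rw [← hcard, hσ.card]; exact dvd_pow_self q two_ne_zero)
    have h1 : p ^ (a : ℕ) = p ^ (2 * b) := by rw [← hcard, hσ.card, hb, ← pow_mul, mul_comm]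
    have h2 := Nat.pow_right_injective hp.out.two_le h1
    exact ⟨b, by have := a.pos; omega, h2⟩
  obtain ⟨b, hb0, hab⟩ := heven
  obtain ⟨m, hm1, hnm, hRcard⟩ := hR.card_cases
  have hle : H ≤ subgroupNormalizer R ⊓ GU n F q := by
    refine le_inf (fun g hg => ?_) hH
    rw [subgroupNormalizer, Subgroup.mem_normalizer_iff]
    intro x
    refine ⟨fun hx => hnorm g hg x hx, fun hx => ?_⟩
    simpa [mul_assoc] using hnorm g⁻¹ (H.inv_mem hg) _ hx
  have hclass6 : (Odd r ∧ z = r) ∨ (r = 2 ∧ (a : ℕ) = 2 ∧ z = 4) → UHasClass q H := fun h =>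
    ⟨subgroupNormalizer R ⊓ GU n F q, Or.inl (Or.inr (Or.inr (Or.inr (Or.inr (Or.inr (Or.inr (Or.inr
      ⟨r, R, p, a, m, hR.type, hR.absIrred, hσ.le_similarity (hRH.trans hH), hrp, hfield, (by
        rcases h with ⟨h1, h2⟩ | ⟨h1, h2, h3⟩
        · exact Or.inl ⟨h1, h2, hm1, by rw [hRcard, ← hz, h2, pow_add, pow_one]⟩
        · exact Or.inr ⟨h1, h2, h3, by rw [hRcard, ← hz, h3, h1, pow_add]; norm_num⟩), rfl⟩))))))), hle⟩
  rcases hR.center_cases with ⟨hrodd, hzr⟩ | ⟨hr2, hz2 | hz4⟩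
  · exact hclass6 (Or.inl ⟨hrodd, hzr⟩)
  · exfalso
    rw [← hz] at hz2
    apply hmin 1 one_pos (by omega)
    rw [hz2, pow_one]
    have hp2 := hp.out.odd_of_ne_two (fun h => hrp (hr2.trans h.symm))
    obtain ⟨j, hj⟩ := hp2
    exact ⟨j, by omega⟩
  · rw [← hz] at hz4
    refine hclass6 (Or.inr ⟨hr2, ?_, hz4⟩)
    have hp2 := hp.out.odd_of_ne_two (fun h => hrp (hr2.trans h.symm))
    obtain ⟨j, hj⟩ := hp2
    by_contra h
    apply hmin 2 two_pos (by omega)
    rw [hz4, hj]
    refine ⟨j * j + j, ?_⟩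
    have : (2 * j + 1) ^ 2 = 4 * (j * j + j) + 1 := by ring
    omega

/-- An irreducible group spans the matrix algebra, or is imprimitive or lies in an extension field group. -/
theorem span_top_or_of_irreducible (hn : 2 ≤ n) {H : Subgroup (GL (Fin n) F)}
    (hirr : ActsIrreducibly (matrixSet H)) : HasImprimitive H ∨ HasExtension H ∨ spanAlg H = ⊤ := by
  classical
  haveI : Nonempty (Fin n) := ⟨⟨0, by omega⟩⟩
  have hns : ¬ H ≤ scalars (Fin n) F := fun h => by
    have := card_le_one_of_le_scalars h hirr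
    rw [Fintype.card_fin] at this
    omega
  rcases spanAlg_trichotomy hirr (Normalises.self H) with ⟨t, e, ht, he⟩ | ⟨r, hr, hE⟩ | ⟨d, φ, hd, hinj, hφ⟩
  · left
    obtain ⟨m, hm, hst, htr⟩ :=
      he.decomposition hirr (fun g hg a => conjM_mem_spanAlg_iff (Normalises.self H) hg) ht
    exact ⟨H, t, e, m, le_rfl, Normalises.self H, he, hm, hst, htr⟩
  · exact Or.inr (Or.inl ⟨H, r, le_rfl, Normalises.self H, hns, hr, hE⟩)
  · refine Or.inr (Or.inr ?_)
    haveI : Nonempty (Fin d) := ⟨⟨0, hd⟩⟩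
    obtain ⟨m, e, B, hframe⟩ := exists_frame φ
    have hmem : ∀ X, X ∈ spanAlg H ↔ ∃ a, X = framed e B (a ⊗ₖ (1 : Matrix (Fin m) (Fin m) F)) := by
      intro X
      rw [← hφ, AlgHom.mem_range]
      exact exists_congr fun a => by rw [hframe, eq_comm]
    have hm1 : m = 1 := by
      rcases Nat.lt_or_ge m 2 with h | h
      · rcases Nat.eq_zero_or_pos m with h0 | h0
        · subst h0
          exact isEmptyElim (e ⟨0, by omega⟩).2
        · omega
      exfalso
      let l₀ : Fin m := ⟨0, by omega⟩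
      let l₁ : Fin m := ⟨1, by omega⟩
      let E : Matrix (Fin m) (Fin m) F := Matrix.single l₀ l₀ 1
      let X := framed e B ((1 : Matrix (Fin d) (Fin d) F) ⊗ₖ E)
      have hEE : E * E = E := by simp [E]
      have hX2 : X * X = X := by
        simp only [X, ← map_mul, ← Matrix.mul_kronecker_mul, one_mul, hEE]
      have hcomm : ∀ g ∈ H, X * (g : Matrix (Fin n) (Fin n) F) = (g : Matrix (Fin n) (Fin n) F) * X := by
        intro g hg
        obtain ⟨a, ha⟩ := (hmem _).mp (coe_mem_spanAlg hg)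
        rw [ha]
        simp only [X, ← map_mul, ← Matrix.mul_kronecker_mul, one_mul, mul_one]
      rcases actsIrreducibly_iff.mp hirr (rangeOf X) (fun g hg w hw => by
        have h1 := (mem_rangeOf_idem hX2).mp hw
        refine (mem_rangeOf_idem hX2).mpr ?_
        rw [Matrix.mulVec_mulVec, hcomm g hg, ← Matrix.mulVec_mulVec, h1]) with h | h
      · have h' : Matrix.toLin' X = 0 := LinearMap.range_eq_bot.mp h
        have h2 : X = 0 := by simpa using h'
        have h3 := (framed e B).injective (h2.trans (map_zero _).symm)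
        have := congrFun (congrFun h3 (⟨0, hd⟩, l₀)) (⟨0, hd⟩, l₀)
        simp [E] at this
      · have h2 : X = 1 := by
          apply Matrix.toLin'.injective
          refine LinearMap.ext fun v => ?_
          rw [toLin'_mulVec, toLin'_mulVec, Matrix.one_mulVec]
          exact (mem_rangeOf_idem hX2).mp (by rw [h]; trivial)
        have h3 := (framed e B).injective (h2.trans (map_one _).symm)
        have h4 := congrFun (congrFun h3 (⟨0, hd⟩, l₁)) (⟨0, hd⟩, l₁)
        simp [E, l₀, l₁, Matrix.single_apply] at h4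
    subst hm1
    rw [eq_top_iff]
    intro X _
    refine (hmem X).mpr ⟨Matrix.of fun i j => (framed e B).symm X (i, 0) (j, 0), ?_⟩
    rw [← AlgEquiv.symm_apply_eq]
    ext ⟨i, k⟩ ⟨j, l⟩
    simp [Subsingleton.elim k 0, Subsingleton.elim l 0]

/-! ### Tensor powers -/

omit [Fintype F] in
lemma monoM_smul_family {d t : ℕ} (π : Equiv.Perm (Fin t)) (c : Fin t → F)
    (gs : Fin t → Matrix (Fin d) (Fin d) F) :
    monoM π (fun i => c i • gs i) = (∏ i, c i) • monoM π gs := by
  ext x y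
  simp [monoM, Finset.prod_mul_distrib]

omit [Fintype F] in
lemma monoM_transpose {d t : ℕ} (π : Equiv.Perm (Fin t)) (gs : Fin t → Matrix (Fin d) (Fin d) F) :
    (monoM π gs)ᵀ = monoM π.symm (fun i => (gs (π.symm i))ᵀ) := by
  ext x y
  simp only [monoM, Matrix.transpose_apply, Matrix.of_apply]
  rw [← Equiv.prod_comp π.symm (fun l => gs l (y l) (x (π l)))]
  simp

omit [Fintype F] in
lemma monoM_twist {d t : ℕ} (π : Equiv.Perm (Fin t)) (gs : Fin t → Matrix (Fin d) (Fin d) F) :
    twist σ (monoM π gs) = monoM π (fun i => twist σ (gs i)) := by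
  ext x y
  simp [monoM]

omit [Fintype F] in
lemma twist_framed {ι κ : Type} [Fintype ι] [DecidableEq ι] [Fintype κ] [DecidableEq κ] (e : ι ≃ κ)
    (P : GL ι F) (k : Matrix κ κ F) :
    twist σ (framed e P k) = conjM (twistGL σ P * P⁻¹) (framed e P (twist σ k)) := by
  have e1 : twist σ (k.submatrix e e) = (twist σ k).submatrix e e := rfl
  rw [framed_apply, framed_apply, twist_mul, twist_mul, e1, ← coe_twistGL, ← coe_twistGL, map_inv, conjM_apply]
  simp only [Units.val_mul, _root_.mul_inv_rev, inv_inv, mul_assoc]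
  simp only [← mul_assoc ((P⁻¹ : GL ι F) : Matrix ι ι F), Units.inv_mul, one_mul]

/-- A tensor power frame in which the standard form is a multiple of the identity. -/
theorem exists_standard_power (hσ : IsQAut q σ) {d t : ℕ} {e : Fin n ≃ (Fin t → Fin d)} {B : GL (Fin n) F}
    {c : F} (hc : c ≠ 0) {Gs : Fin t → GL (Fin d) F} {cs : Fin t → F}
    (hA : gramIn σ (1 : GL (Fin n) F) e B = c • pureTensor (fun i => (Gs i : Matrix (Fin d) (Fin d) F)))
    (hcs : ∀ i, cs i * σ (cs i) = 1 ∧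
      twist σ (Gs i : Matrix (Fin d) (Fin d) F)ᵀ = cs i • (Gs i : Matrix (Fin d) (Fin d) F)) :
    ∃ (P : GL (Fin n) F) (c' : F), c' ≠ 0 ∧
      tensorWreathSubgroup d t e P = tensorWreathSubgroup d t e B ∧
      gramIn σ (1 : GL (Fin n) F) e P = c' • 1 ∧
      IsTensorPowerFormStructure (⇑σ) (hermForm n F q) (hermForm d F q) e P := by
  classical
  have hcong : ∀ i, ∃ (b : GL (Fin d) F) (u : F), u ≠ 0 ∧
      (b : Matrix (Fin d) (Fin d) F)ᵀ * (Gs i : Matrix (Fin d) (Fin d) F) *
        twist σ (b : Matrix (Fin d) (Fin d) F) = u • ((1 : GL (Fin d) F) : Matrix (Fin d) (Fin d) F) := by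
    intro i
    obtain ⟨μ, hμ0, hμ⟩ := exists_twist hσ.ne_refl (hcs i).1 hσ.invol
    set G' : GL (Fin d) F := Units.mk0 μ hμ0 • Gs i with hG'
    have hval : (G' : Matrix (Fin d) (Fin d) F) = μ • (Gs i : Matrix (Fin d) (Fin d) F) := rfl
    have hF : IsFormGram σ G' 1 := ⟨hσ.invol, by
      rw [one_smul, hval, Matrix.transpose_smul, twist_smul, (hcs i).2, smul_smul, mul_comm, hμ]⟩
    obtain ⟨b, hb⟩ := exists_congr_one hσ.ne_refl G' hF
    refine ⟨b, μ⁻¹, inv_ne_zero hμ0, ?_⟩
    rw [Units.val_one, ← hb, hval, Matrix.mul_smul, Matrix.smul_mul, smul_smul, inv_mul_cancel₀ hμ0, one_smul]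
  obtain ⟨P, hP, hstr⟩ := exists_power_structure (G₀ := (1 : GL (Fin d) F)) hc hA hcong
  obtain ⟨c', hc', hval⟩ := id hstr
  refine ⟨P, c', hc', hP, formM_injective σ fun u v => ?_, by rw [hσ.hermForm_eq, hσ.hermForm_eq]; exact hstr⟩
  rw [← formM_frame, hval, gramMatrix_formM, formM_smul]
  congr 1
  rw [← formOfGram_eq, formOfGram]
  refine Finset.sum_congr rfl fun a _ => Finset.sum_congr rfl fun b _ => ?_
  congr 2
  rw [Units.val_one, Matrix.one_apply]
  split_ifs with h
  · subst h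
    exact Finset.prod_eq_one fun i _ => Matrix.one_apply_eq _
  · obtain ⟨i, hi⟩ := Function.ne_iff.mp h
    exact Finset.prod_eq_zero (Finset.mem_univ i) (Matrix.one_apply_ne hi)

/-- Isometries stabilising a standard tensor power frame are monomial in similitudes. -/
theorem exists_monomial_similitudes (hσ : IsQAut q σ) {d t : ℕ} [Nonempty (Fin d)]
    {e : Fin n ≃ (Fin t → Fin d)} {P : GL (Fin n) F} {c : F} (hc : c ≠ 0)
    (hA : gramIn σ (1 : GL (Fin n) F) e P = c • 1) {g : GL (Fin n) F}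
    (hg : g ∈ tensorWreathSubgroup d t e P) (hgU : g ∈ GU n F q) :
    ∃ (π : Equiv.Perm (Fin t)) (gs : Fin t → GL (Fin d) F),
      (g : Matrix (Fin n) (Fin n) F) = framed e P (monoM π (fun i => (gs i : Matrix (Fin d) (Fin d) F))) ∧
      ∀ i, ∃ u : F, u ≠ 0 ∧ σ u = u ∧
        (gs i : Matrix (Fin d) (Fin d) F)ᵀ * twist σ (gs i : Matrix (Fin d) (Fin d) F) = u • 1 := by
  obtain ⟨k', ⟨k, hk, hkk⟩, hk'⟩ := hg
  subst hkk
  obtain ⟨π, gs, hgs⟩ := exists_monoM hk
  have hval : (g : Matrix (Fin n) (Fin n) F) = framed e P (monoM π (fun i => (gs i : Matrix (Fin d) (Fin d) F))) := by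
    rw [← hk', framed_apply, ← hgs]
    simp [glReindex, Matrix.reindex_apply]
  refine ⟨π, gs, hval, fun i => ?_⟩
  have h := gramIn_invariant (σ := σ) (G := (1 : GL (Fin n) F)) e P
    (by rw [Units.val_one, mul_one]; exact hσ.mem_GU.mp hgU) hval
  rw [hA, Matrix.mul_smul, mul_one, Matrix.smul_mul] at h
  have h1 := smul_right_injective (Matrix (Fin t → Fin d) (Fin t → Fin d) F) hc h
  rw [monoM_twist, monoM_transpose, monoM_mul] at h1
  have h2 : pureTensor (fun l => (gs (π.symm l) : Matrix (Fin d) (Fin d) F)ᵀ *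
      twist σ (gs (π.symm l) : Matrix (Fin d) (Fin d) F)) =
      pureTensor (1 : Fin t → Matrix (Fin d) (Fin d) F) := by
    rw [pureTensor_one, ← h1, ← monoM_refl]
    congr 1
    ext l
    simp
  obtain ⟨u, hu, hu'⟩ := pureTensor_eq_cases (fun l => one_ne_zero) h2 (π i)
  have hu'' : (gs i : Matrix (Fin d) (Fin d) F)ᵀ * twist σ (gs i : Matrix (Fin d) (Fin d) F) = u • 1 := by
    simpa using hu'
  refine ⟨u, hu, ?_, hu''⟩
  have h3 := congrArg (fun M => twist σ Mᵀ) hu''
  simp only [Matrix.transpose_mul, Matrix.transpose_transpose, Matrix.transpose_smul, Matrix.transpose_one,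
    twist_mul, twist_smul, twist_one] at h3
  rw [← Matrix.transpose_map, twist_twist hσ.invol, hu''] at h3
  let i₀ : Fin d := Classical.arbitrary _
  have h4 := congrFun (congrFun h3 i₀) i₀
  simpa [eq_comm] using h4

omit [Fintype F] in
lemma altTwo_sq : altTwo F * altTwo F = (-1 : F) • (1 : Matrix (Fin 2) (Fin 2) F) := by
  ext i j; fin_cases i <;> fin_cases j <;> simp [altTwo]

/-- Tensor powers of planes. -/
theorem u_wreath_two (hσ : IsQAut q σ) (hn : 2 ≤ n) {H : Subgroup (GL (Fin n) F)} (hH : H ≤ GU n F q)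
    (hspan : spanAlg H = ⊤) {t : ℕ} {e : Fin n ≃ (Fin t → Fin 2)} {P : GL (Fin n) F} {c : F} (hc : c ≠ 0)
    (hA : gramIn σ (1 : GL (Fin n) F) e P = c • 1) (hle : H ≤ tensorWreathSubgroup 2 t e P) :
    UHasClass q H := by
  classical
  set Jt : Matrix (Fin t → Fin 2) (Fin t → Fin 2) F := pureTensor (fun _ => altTwo F) with hJt
  have hJJ : Jt * Jt = (∏ _i : Fin t, (-1 : F)) • 1 := by
    rw [hJt, pureTensor_mul, show (fun _ : Fin t => altTwo F) * (fun _ => altTwo F) =
      fun _ => (-1 : F) • (1 : Matrix (Fin 2) (Fin 2) F) from funext fun _ => altTwo_sq,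
      pureTensor_smul_family (fun _ => (-1 : F)) (fun _ => (1 : Matrix (Fin 2) (Fin 2) F))]
    exact congrArg _ pureTensor_one
  set δ : F := ∏ _i : Fin t, (-1 : F) with hδ
  have hδ0 : δ ≠ 0 := Finset.prod_ne_zero_iff.mpr fun _ _ => neg_ne_zero.mpr one_ne_zero
  let Jg : GL (Fin n) F := ⟨framed e P Jt, framed e P (δ⁻¹ • Jt),
    by rw [← map_mul, Matrix.mul_smul, hJJ, smul_smul, inv_mul_cancel₀ hδ0, one_smul, map_one],
    by rw [← map_mul, Matrix.smul_mul, hJJ, smul_smul, inv_mul_cancel₀ hδ0, one_smul, map_one]⟩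
  set T : GL (Fin n) F := twistGL σ P * P⁻¹ with hT
  have hσJ : twist σ Jt = Jt := by
    rw [hJt, ← monoM_refl, monoM_twist]
    congr 1
    funext i
    ext a b
    fin_cases a <;> fin_cases b <;> simp [altTwo]
  have hσT : twistGL σ T = T⁻¹ := by
    have hPP : twistGL σ (twistGL σ P) = P := Units.ext (by
      rw [coe_twistGL, coe_twistGL, twist_twist hσ.invol])
    rw [hT, map_mul, map_inv, hPP, _root_.mul_inv_rev, inv_inv]
  have hσJg : twistGL σ Jg = T * Jg * T⁻¹ := Units.ext (by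
    rw [coe_twistGL]
    show twist σ (framed e P Jt) = _
    rw [twist_framed, hσJ, ← hT, ← conjM_coe])
  refine u_class_of_twist_conj hσ hn hH hspan (C := T * Jg) (δ := δ) ?_ fun g hg => ?_
  · rw [map_mul, hσT, hσJg, show T⁻¹ * (T * Jg * T⁻¹) * (T * Jg) = Jg * Jg by group, Units.val_mul]
    show framed e P Jt * framed e P Jt = _
    rw [← map_mul, hJJ, map_smul, map_one]
  obtain ⟨π, gs, hval, hu⟩ := exists_monomial_similitudes hσ hc hA (hle hg) (hH hg)
  choose u hu0 _ hu using hu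
  set l : Fin t → F := fun i => u i / (gs i : Matrix (Fin 2) (Fin 2) F).det with hl
  have hJl : ∀ i, twist σ (gs i : Matrix (Fin 2) (Fin 2) F) * altTwo F =
      l i • (altTwo F * (gs i : Matrix (Fin 2) (Fin 2) F)) := by
    intro i
    have hdet := ((Matrix.isUnit_iff_isUnit_det _).mp (gs i).isUnit).ne_zero
    have hTu : IsUnit (gs i : Matrix (Fin 2) (Fin 2) F)ᵀ := by
      rw [Matrix.isUnit_iff_isUnit_det, Matrix.det_transpose, ← Matrix.isUnit_iff_isUnit_det]
      exact (gs i).isUnit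
    refine hTu.mul_left_cancel ?_
    rw [← mul_assoc, hu, Matrix.smul_mul, one_mul, Matrix.mul_smul, ← mul_assoc, altTwo_congr, smul_smul]
    congr 1
    rw [hl]
    field_simp
  refine ⟨∏ i, l i, ?_⟩
  have key : twist σ (monoM π (fun i => (gs i : Matrix (Fin 2) (Fin 2) F))) * Jt =
      (∏ i, l i) • (Jt * monoM π (fun i => (gs i : Matrix (Fin 2) (Fin 2) F))) := by
    rw [monoM_twist, hJt, ← monoM_refl, monoM_mul, monoM_mul, Equiv.trans_refl, Equiv.refl_trans,
      show (fun i => twist σ (gs i : Matrix (Fin 2) (Fin 2) F) * altTwo F) =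
        fun i => l i • (altTwo F * (gs i : Matrix (Fin 2) (Fin 2) F)) from funext hJl, monoM_smul_family]
    rfl
  rw [conjM_mul, hval, twist_framed, ← hT, ← map_smul]
  congr 1
  apply Jg.isUnit.mul_right_cancel
  rw [conjM_apply, Matrix.smul_mul, mul_assoc _ _ (Jg : Matrix (Fin n) (Fin n) F), Units.inv_mul, mul_one]
  show framed e P _ * framed e P Jt = _ • (framed e P Jt * framed e P _)
  rw [← map_mul, ← map_mul, ← map_smul, key]

/-- Tensor powers, outside the case of three-dimensional factors over the field of four elements. -/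
theorem u_wreath (hσ : IsQAut q σ) (hn : 2 ≤ n) {H : Subgroup (GL (Fin n) F)} (hH : H ≤ GU n F q)
    (hirr : ActsIrreducibly (matrixSet H)) {d t : ℕ} (hd : 2 ≤ d) (ht : 2 ≤ t) (hex : ¬ (q = 2 ∧ d = 3))
    {e : Fin n ≃ (Fin t → Fin d)} {B : GL (Fin n) F} (hle : H ≤ tensorWreathSubgroup d t e B)
    {c : F} (hc : c ≠ 0) {Gs : Fin t → GL (Fin d) F} {cs : Fin t → F}
    (hA : gramIn σ (1 : GL (Fin n) F) e B = c • pureTensor (fun i => (Gs i : Matrix (Fin d) (Fin d) F)))
    (hcs : ∀ i, cs i * σ (cs i) = 1 ∧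
      twist σ (Gs i : Matrix (Fin d) (Fin d) F)ᵀ = cs i • (Gs i : Matrix (Fin d) (Fin d) F)) :
    UHasClass q H := by
  obtain ⟨P, c', hc', hP, hA', hstr⟩ := exists_standard_power hσ hc hA hcs
  rcases Nat.lt_or_ge d 3 with hd3 | hd3
  · obtain rfl : d = 2 := by omega
    rcases span_top_or_of_irreducible hn hirr with h | h | h
    · exact u_imprimitive hσ hH h
    · exact u_extension hσ (by omega) hH h
    · exact u_wreath_two hσ hn hH h hc' hA' (hP ▸ hle)
  · refine ⟨tensorWreathSubgroup d t e P ⊓ GU n F q, Or.inr (Or.inr (Or.inr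
      ⟨d, t, e, P, hermForm d F q, hd3, ht, hex, ?_, ?_, rfl⟩)), le_inf (hP ▸ hle) hH⟩
    · rw [hσ.hermForm_eq]
      exact hσ.isUnitaryFormPow 1 (by rw [Units.val_one, Matrix.transpose_one, twist_one])
    · rw [hσ.pow_fun]
      exact hstr

end Cfsg.Agent.Lib.Aschbacher
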