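/-
Aschbacher's theorem for the unitary groups, part three: the unitary group in dimension three over the field of
four elements, and the tensor square of it.
-/
import Cfsg.Agent.Lib.Aschbacher.UnitaryCases
import Cfsg.Agent.Lib.Classical.UnitaryOrder
import Cfsg.Agent.Lib.Burnside.Paqb

set_option autoImplicit false

namespace Cfsg.Agent.Lib.Aschbacher

open Cfsg Cfsg.Geo Matrix
open scoped Kronecker

set_option maxHeartbeats 1000000

variable {F : Type*} [Field F] [Fintype F] {n : ℕ} {σ : F ≃+* F}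

lemma isSolvable_GU_three_two (hσ : IsQAut 2 σ) : Group.IsSolvable (GU 3 F 2) := by
  refine Cfsg.Agent.Lib.Burnside.isSolvable_of_card_eq_prime_pow_mul (p := 2) (q := 3) (a := 3) (b := 4)
    Nat.prime_two Nat.prime_three ?_
  rw [Cfsg.Agent.Lib.Classical.natCard_GU hσ.card]
  simp [Finset.prod_range_succ, Nat.even_iff]

/-- A perfect subgroup of the unitary group in dimension three over the field of four elements is trivial. -/
lemma eq_bot_of_perfect_GU_three_two (hσ : IsQAut 2 σ) {N : Subgroup (GL (Fin 3) F)} (hN : N ≤ GU 3 F 2)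
    (hp : ⁅N, N⁆ = N) : N = ⊥ := by
  by_contra hne
  haveI := isSolvable_GU_three_two hσ
  set N' := N.subgroupOf (GU 3 F 2) with hN'
  have hmap : N'.map (GU 3 F 2).subtype = N := by
    rw [hN', Subgroup.subgroupOf_map_subtype, inf_eq_left.mpr hN]
  have hp' : ⁅N', N'⁆ = N' := by
    apply Subgroup.map_injective (GU 3 F 2).subtype_injective
    rw [Subgroup.map_commutator, hmap, hp]
  have hne' : N' ≠ ⊥ := fun h => hne (by rw [← hmap, h, Subgroup.map_bot])
  exact (Group.IsSolvable.commutator_lt_of_ne_bot hne').ne hp'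

lemma two_eq_zero_two (hσ : IsQAut 2 σ) : (2 : F) = 0 :=
  two_eq_zero_of_not_odd (by rw [hσ.card]; decide)

lemma exists_omega (hσ : IsQAut 2 σ) : ∃ w : F, w * w + w + 1 = 0 := by
  classical
  obtain ⟨x, hx⟩ : ∃ x : F, x ≠ 0 ∧ x ≠ 1 := by
    by_contra h
    push Not at h
    have hsub : (Finset.univ : Finset F) ⊆ {0, 1} := fun x _ => by
      by_cases hx : x = 0
      · simp [hx]
      · simp [h x hx]
    have := (Finset.card_le_card hsub).trans Finset.card_le_two
    rw [Finset.card_univ, hσ.card] at this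
    omega
  refine ⟨x, ?_⟩
  have h3 := FiniteField.pow_card_sub_one_eq_one x hx.1
  rw [hσ.card] at h3
  norm_num at h3
  have h : (x - 1) * (x * x + x + 1) = 0 := by linear_combination h3
  exact (mul_eq_zero.mp h).resolve_left (sub_ne_zero.mpr hx.2)

/-- Diagonal reflections and a full matrix in the unitary group. -/
lemma exists_generators (hσ : IsQAut 2 σ) :
    ∃ (w : F) (d : Fin 3 → GL (Fin 3) F) (M s : GL (Fin 3) F), w ≠ 0 ∧ w ≠ 1 ∧ w * w * w = 1 ∧
      (∀ i, d i ∈ GU 3 F 2 ∧ (d i : Matrix (Fin 3) (Fin 3) F) = Matrix.diagonal (fun j => if j = i then w else 1) ∧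
        d i * d i * d i = 1) ∧
      (M ∈ GU 3 F 2 ∧ ∀ a b, (M : Matrix (Fin 3) (Fin 3) F) a b ≠ 0) ∧
      (s ∈ GU 3 F 2 ∧ s * s = 1 ∧ s ∉ scalars (Fin 3) F) := by
  obtain ⟨w, hw⟩ := exists_omega hσ
  have h2 := two_eq_zero_two hσ
  have hw0 : w ≠ 0 := fun h => by simp [h] at hw
  have hw1 : w ≠ 1 := fun h => by
    rw [h] at hw
    exact one_ne_zero (α := F) (by linear_combination hw - h2)
  have hw3 : w * w * w = 1 := by linear_combination (w - 1) * hw
  have hσw : σ w = w * w := by rw [hσ.eq_pow, sq]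
  let D : Fin 3 → Matrix (Fin 3) (Fin 3) F := fun i => Matrix.diagonal (fun j => if j = i then w else 1)
  let D' : Fin 3 → Matrix (Fin 3) (Fin 3) F := fun i => Matrix.diagonal (fun j => if j = i then w * w else 1)
  have hDD : ∀ i, D i * D' i = 1 ∧ D' i * D i = 1 := fun i => by
    constructor
    · rw [Matrix.diagonal_mul_diagonal, ← Matrix.diagonal_one]
      congr 1; funext j; split_ifs
      · linear_combination hw3
      · rw [mul_one]
    · rw [Matrix.diagonal_mul_diagonal, ← Matrix.diagonal_one]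
      congr 1; funext j; split_ifs
      · linear_combination hw3
      · rw [mul_one]
  let d : Fin 3 → GL (Fin 3) F := fun i => ⟨D i, D' i, (hDD i).1, (hDD i).2⟩
  let Mm : Matrix (Fin 3) (Fin 3) F := !![1, 1, 1; 1, w, w * w; 1, w * w, w]
  let Mi : Matrix (Fin 3) (Fin 3) F := !![1, 1, 1; 1, w * w, w; 1, w, w * w]
  have hMM : Mm * Mi = 1 ∧ Mi * Mm = 1 := by
    constructor <;> ext a b <;> fin_cases a <;> fin_cases b <;>
      simp [Mm, Mi, Matrix.mul_apply, Fin.sum_univ_three] <;>
      first
        | linear_combination h2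
        | linear_combination hw
        | linear_combination hw + w * h2
        | linear_combination (w * w - w + 1) * hw - w * hw3 + w * h2
        | linear_combination h2 + 2 * hw3
        | linear_combination hw + (w - 1) * hw * w
        | linear_combination w * hw3 + hw
  let M : GL (Fin 3) F := ⟨Mm, Mi, hMM.1, hMM.2⟩
  let S : Matrix (Fin 3) (Fin 3) F := !![0, 1, 0; 1, 0, 0; 0, 0, 1]
  have hSS : S * S = 1 := by
    ext a b; fin_cases a <;> fin_cases b <;> simp [S, Matrix.mul_apply, Fin.sum_univ_three]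
  let s : GL (Fin 3) F := ⟨S, S, hSS, hSS⟩
  refine ⟨w, d, M, s, hw0, hw1, hw3, fun i => ⟨?_, rfl, ?_⟩, ⟨?_, ?_⟩, ?_, ?_, ?_⟩
  · rw [hσ.mem_GU]
    show (D i)ᵀ * twist σ (D i) = 1
    rw [Matrix.diagonal_transpose, twist, Matrix.diagonal_map (map_zero σ), Matrix.diagonal_mul_diagonal,
      ← Matrix.diagonal_one]
    congr 1; funext j
    show (if j = i then w else 1) * σ (if j = i then w else 1) = 1
    split_ifs
    · rw [hσw, ← mul_assoc, hw3]
    · rw [map_one, one_mul]
  · apply Units.ext
    show D i * D i * D i = 1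
    rw [Matrix.diagonal_mul_diagonal, Matrix.diagonal_mul_diagonal, ← Matrix.diagonal_one]
    congr 1; funext j; split_ifs
    · exact hw3
    · simp
  · rw [hσ.mem_GU]
    show Mmᵀ * twist σ Mm = 1
    have e1 : Mmᵀ = Mm := by ext a b; fin_cases a <;> fin_cases b <;> simp [Mm]
    have e2 : twist σ Mm = Mi := by
      ext a b; fin_cases a <;> fin_cases b <;> simp [Mm, Mi, hσw] <;> linear_combination w * hw3
    rw [e1, e2, hMM.1]
  · intro a b
    show Mm a b ≠ 0
    fin_cases a <;> fin_cases b <;> simp [Mm, hw0]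
  · rw [hσ.mem_GU]
    show Sᵀ * twist σ S = 1
    have e1 : Sᵀ = S := by ext a b; fin_cases a <;> fin_cases b <;> simp [S]
    have e2 : twist σ S = S := by ext a b; fin_cases a <;> fin_cases b <;> simp [S]
    rw [e1, e2, hSS]
  · exact Units.ext hSS
  · intro h
    obtain ⟨c, hc⟩ := (mem_scalars_iff _).mp h
    have := congrFun (congrFun (show S = (c : F) • (1 : Matrix (Fin 3) (Fin 3) F) from hc) 0) 1
    simp [S] at this

omit [Fintype F] in
/-- A matrix supported on a row and a column, zero where they meet, is singular. -/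
lemma det_cross_eq_zero {i : Fin 3} {Z : Matrix (Fin 3) (Fin 3) F}
    (h : ∀ a b, (a ≠ i ∧ b ≠ i) ∨ (a = i ∧ b = i) → Z a b = 0) : Z.det = 0 := by
  rw [Matrix.det_fin_three]
  fin_cases i <;> simp [h]

/-- Normal subgroups of the unitary group in dimension three over the field of four elements are scalar or span. -/
theorem span_top_GU_three_two (hσ : IsQAut 2 σ) {N : Subgroup (GL (Fin 3) F)} (hN : N ≤ GU 3 F 2)
    (hnorm : Normalises (GU 3 F 2) N) (hns : ¬ N ≤ scalars (Fin 3) F) : spanAlg N = ⊤ := by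
  classical
  obtain ⟨w, d, M, s, hw0, hw1, hw3, hd, ⟨hM, hMne⟩, -⟩ := exists_generators hσ
  have hconjd : ∀ i (k : Matrix (Fin 3) (Fin 3) F) a b,
      (conjM (d i) k) a b * (if b = i then w else 1) = (if a = i then w else 1) * k a b := by
    intro i k a b
    have h : conjM (d i) k * (d i : Matrix (Fin 3) (Fin 3) F) = (d i : Matrix (Fin 3) (Fin 3) F) * k := by
      rw [conjM_apply, mul_assoc, Units.inv_mul, mul_one]
    have h' := congrFun (congrFun h a) b
    rwa [(hd i).2.1, Matrix.mul_diagonal, Matrix.diagonal_mul] at h'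
  have hcross : ∀ i (k : Matrix (Fin 3) (Fin 3) F), (conjM (d i) k - k).det = 0 := by
    intro i k
    refine det_cross_eq_zero (i := i) fun a b hab => ?_
    rw [Matrix.sub_apply, sub_eq_zero]
    have h := hconjd i k a b
    rcases hab with ⟨ha, hb⟩ | ⟨ha, hb⟩
    · rwa [if_neg ha, if_neg hb, mul_one, one_mul] at h
    · rw [if_pos ha, if_pos hb] at h
      exact mul_right_cancel₀ hw0 (h.trans (mul_comm _ _))
  have hdiag : ∀ k : Matrix (Fin 3) (Fin 3) F, (∀ i, conjM (d i) k = k) → ∀ a b, a ≠ b → k a b = 0 := by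
    intro k hk a b hab
    have h := hconjd a k a b
    rw [hk a, if_neg (Ne.symm hab), if_pos rfl, mul_one] at h
    have h0 : (w - 1) * k a b = 0 := by linear_combination -h
    exact (mul_eq_zero.mp h0).resolve_left (sub_ne_zero.mpr hw1)
  have hirr : ActsIrreducibly (matrixSet (GU 3 F 2)) := by
    rw [actsIrreducibly_iff]
    intro W hW
    by_cases hW0 : W = ⊥
    · exact Or.inl hW0
    right
    have key : ∀ v ∈ W, ∀ i, v i ≠ 0 → (Pi.single i (1 : F) : Fin 3 → F) ∈ W := by
      intro v hv i hvi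
      have h := W.sub_mem (hW (d i) (hd i).1 v hv) hv
      have e : (d i : Matrix (Fin 3) (Fin 3) F) *ᵥ v - v = ((w - 1) * v i) • (Pi.single i (1 : F) : Fin 3 → F) := by
        funext j
        rw [(hd i).2.1, Pi.sub_apply, Matrix.mulVec_diagonal]
        rcases eq_or_ne j i with rfl | hj
        · simp; ring
        · simp [hj]
      rw [e] at h
      have h' := W.smul_mem ((w - 1) * v i)⁻¹ h
      rwa [smul_smul, inv_mul_cancel₀ (mul_ne_zero (sub_ne_zero.mpr hw1) hvi), one_smul] at h'
    obtain ⟨v, hv, hv0⟩ := W.ne_bot_iff.mp hW0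
    obtain ⟨i, hi⟩ := Function.ne_iff.mp hv0
    have hcol := hW M hM _ (key v hv i hi)
    have hall : ∀ j, (Pi.single j (1 : F) : Fin 3 → F) ∈ W := fun j =>
      key _ hcol j (by rw [Matrix.mulVec_single_one]; exact hMne j i)
    rw [eq_top_iff]
    intro x _
    rw [pi_eq_sum_univ' x]
    exact Submodule.sum_mem _ fun j _ => W.smul_mem _ (hall j)
  rcases spanAlg_trichotomy hirr hnorm with ⟨t, e, ht, he⟩ | ⟨r, hr, hE⟩ | ⟨k, φ, hk, hinj, hφ⟩
  · exfalso
    have hperm : ∀ g ∈ GU 3 F 2, ∃ p : Equiv.Perm (Fin t), ∀ i, conjM g (e i) = e (p i) := fun g hg =>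
      he.exists_perm_conj g (fun a => conjM_mem_spanAlg_iff hnorm hg)
    have hinje : Function.Injective e := by
      intro i j h
      by_contra hij
      exact he.ne_zero i (by rw [← he.idem i]; nth_rewrite 2 [h]; exact he.orth i j hij)
    have hfix : ∀ i l, conjM (d i) (e l) = e l := by
      intro i l
      obtain ⟨p, hp⟩ := hperm (d i) (hd i).1
      rw [hp]
      congr 1
      by_contra hne
      have h3 : p (p (p l)) = l := hinje (by
        rw [← hp, ← hp, ← hp, ← conjM_mul, ← conjM_mul, (hd i).2.2, conjM_one])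
      have h12 : p (p l) ≠ p l := fun h => hne (p.injective h)
      have h02 : p (p l) ≠ l := fun h => by rw [h] at h3; exact hne h3
      set x := e l + w • e (p l) + (w * w) • e (p (p l)) with hx
      have hconjx : conjM (d i) x = (w * w) • x := by
        rw [hx, map_add, map_add, map_smul, map_smul, hp, hp, hp, h3, smul_add, smul_add, smul_smul, smul_smul,
          hw3, show w * w * (w * w) = w by linear_combination w * hw3, one_smul]
        abel
      have hent : ∀ a b, a = i ∨ b ≠ i → x a b = 0 := by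
        intro a b hab
        have h := hconjd i x a b
        rw [hconjx, Matrix.smul_apply, smul_eq_mul] at h
        have hw2 : w * w ≠ 1 := fun h' => hw1 (by rw [← hw3, h', one_mul])
        rcases eq_or_ne a i with ha | ha
        · rcases eq_or_ne b i with hb | hb
          · rw [if_pos ha, if_pos hb] at h
            have : (w - 1) * x a b = 0 := by linear_combination -h + x a b * hw3
            exact (mul_eq_zero.mp this).resolve_left (sub_ne_zero.mpr hw1)
          · rw [if_pos ha, if_neg hb, mul_one] at h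
            have : (w * (w - 1)) * x a b = 0 := by linear_combination h
            exact (mul_eq_zero.mp this).resolve_left (mul_ne_zero hw0 (sub_ne_zero.mpr hw1))
        · have hb : b ≠ i := hab.resolve_left ha
          rw [if_neg ha, if_neg hb, mul_one, one_mul] at h
          have : (w * w - 1) * x a b = 0 := by linear_combination h
          exact (mul_eq_zero.mp this).resolve_left (sub_ne_zero.mpr hw2)
      have hxx : x * x = 0 := by
        ext a b
        rw [Matrix.mul_apply]
        refine Finset.sum_eq_zero fun c _ => ?_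
        rcases eq_or_ne c i with hc | hc
        · rw [hent c b (Or.inl hc), mul_zero]
        · rw [hent a c (Or.inr hc), zero_mul]
      have hex : e l * x = e l := by
        rw [hx, mul_add, mul_add, Matrix.mul_smul, Matrix.mul_smul, he.idem, he.orth _ _ (Ne.symm hne),
          he.orth _ _ (Ne.symm h02)]
        simp
      have hxe : x * e l = e l := by
        rw [hx, add_mul, add_mul, Matrix.smul_mul, Matrix.smul_mul, he.idem, he.orth _ _ hne,
          he.orth _ _ h02]
        simp
      apply he.ne_zero l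
      calc e l = e l * (x * e l) := by rw [hxe, he.idem]
        _ = e l * x * (x * e l) := by rw [hex, hxe]
        _ = e l * (x * x) * e l := by simp only [mul_assoc]
        _ = 0 := by rw [hxx, mul_zero, zero_mul]
    obtain ⟨p, hp⟩ := hperm M hM
    have hconst : ∀ l, ∀ a b, e l b b = e (p l) a a := by
      intro l a b
      have h : (M : Matrix (Fin 3) (Fin 3) F) * e l = e (p l) * (M : Matrix (Fin 3) (Fin 3) F) := by
        rw [← hp, conjM_apply, mul_assoc, Units.inv_mul, mul_one]
      have h' := congrFun (congrFun h a) b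
      rw [Matrix.mul_apply, Matrix.mul_apply,
        Finset.sum_eq_single b (fun c _ hc => by rw [hdiag _ (fun i => hfix i l) c b hc, mul_zero])
          (fun hh => absurd (Finset.mem_univ b) hh),
        Finset.sum_eq_single a (fun c _ hc => by rw [hdiag _ (fun i => hfix i (p l)) a c (Ne.symm hc), zero_mul])
          (fun hh => absurd (Finset.mem_univ a) hh)] at h'
      exact mul_left_cancel₀ (hMne a b) (h'.trans (mul_comm _ _))
    have hone : ∀ l, e l = 1 := by
      intro l
      have heq : e l = e l 0 0 • (1 : Matrix (Fin 3) (Fin 3) F) := by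
        ext a b
        rcases eq_or_ne a b with rfl | hab
        · rw [Matrix.smul_apply, Matrix.one_apply_eq, smul_eq_mul, mul_one, hconst l 0 a, hconst l 0 0]
        · rw [hdiag _ (fun i => hfix i l) a b hab, Matrix.smul_apply, Matrix.one_apply_ne hab, smul_zero]
      have h0 : e l 0 0 * e l 0 0 = e l 0 0 := by
        have h := congrFun (congrFun (he.idem l) 0) 0
        rw [heq, Matrix.smul_mul, one_mul, smul_smul] at h
        simpa using h
      have hne : e l 0 0 ≠ 0 := fun h => he.ne_zero l (by rw [heq, h, zero_smul])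
      rw [heq, mul_left_cancel₀ hne (h0.trans (mul_one _).symm), one_smul]
    have := he.orth ⟨0, by omega⟩ ⟨1, by omega⟩ (by simp)
    rw [hone, hone, one_mul] at this
    exact one_ne_zero this
  · exfalso
    set K := centreAlg (spanAlg N) with hK
    have hstab : ∀ g ∈ GU 3 F 2, ∀ x ∈ K, conjM g x ∈ K := by
      intro g hg x hx
      rw [hK, mem_centreAlg] at hx ⊢
      refine ⟨(conjM_mem_spanAlg_iff hnorm hg).mpr hx.1, fun a ha => ?_⟩
      obtain ⟨b, rfl⟩ := (conjM g).surjective a
      rw [← map_mul, ← map_mul, hx.2 b ((conjM_mem_spanAlg_iff hnorm hg).mp ha)]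
    have hzero : ∀ z ∈ K, z.det = 0 → z = 0 := by
      intro z hz hdet
      by_contra hne
      obtain ⟨y, -, hy⟩ := hE.inv z hz hne
      have := congrArg Matrix.det hy
      rw [Matrix.det_mul, hdet, zero_mul, Matrix.det_one] at this
      exact zero_ne_one this
    have hle : K ≤ ⊥ := by
      intro z hz
      have hfix : ∀ i, conjM (d i) z = z := fun i =>
        sub_eq_zero.mp (hzero _ (K.sub_mem (hstab _ (hd i).1 z hz) hz) (hcross i z))
      have hsub : z - z 0 0 • (1 : Matrix (Fin 3) (Fin 3) F) = 0 := by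
        refine hzero _ (K.sub_mem hz (K.smul_mem K.one_mem _)) ?_
        rw [Matrix.det_fin_three]
        simp [hdiag z hfix]
      rw [sub_eq_zero.mp hsub]
      exact Subalgebra.smul_mem _ (one_mem _) _
    have := hE.finrank_eq
    rw [le_bot_iff.mp hle, Subalgebra.finrank_bot] at this
    omega
  · haveI : Nonempty (Fin k) := ⟨⟨0, hk⟩⟩
    obtain ⟨m, e, B, hframe⟩ := exists_frame φ
    have hmem : ∀ X, X ∈ spanAlg N ↔ ∃ a, X = framed e B (a ⊗ₖ (1 : Matrix (Fin m) (Fin m) F)) := by
      intro X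
      rw [← hφ, AlgHom.mem_range]
      exact exists_congr fun a => by rw [hframe, eq_comm]
    have hcard : k * m = 3 := by
      have := Fintype.card_congr e
      simpa using this.symm
    rcases (Nat.dvd_prime Nat.prime_three).mp ⟨m, hcard.symm⟩ with rfl | rfl
    · exfalso
      apply hns
      apply le_scalars_of_span_le_bot
      intro X hX
      obtain ⟨a, rfl⟩ := (hmem X).mp hX
      have : a = a 0 0 • (1 : Matrix (Fin 1) (Fin 1) F) := by
        ext i j
        simp [Subsingleton.elim i 0, Subsingleton.elim j 0]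
      rw [this, Matrix.smul_kronecker, Matrix.one_kronecker_one, map_smul, map_one]
      exact Subalgebra.smul_mem _ (one_mem _) _
    · obtain rfl : m = 1 := by omega
      rw [eq_top_iff]
      intro X _
      refine (hmem X).mpr ⟨Matrix.of fun i j => (framed e B).symm X (i, 0) (j, 0), ?_⟩
      rw [← AlgEquiv.symm_apply_eq]
      ext ⟨i, k⟩ ⟨j, l⟩
      simp [Subsingleton.elim k 0, Subsingleton.elim l 0]

/-- The tensor square of the unitary group in dimension three over the field of four elements. -/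
theorem u_wreath_three_two (hσ : IsQAut 2 σ) {H : Subgroup (GL (Fin n) F)} (hH : H ≤ GU n F 2)
    {e : Fin n ≃ (Fin 2 → Fin 3)} {P : GL (Fin n) F} {c : F} (hc : c ≠ 0)
    (hA : gramIn σ (1 : GL (Fin n) F) e P = c • 1) (hle : H ≤ tensorWreathSubgroup 3 2 e P) :
    UHasClass 2 H := by
  classical
  have hn : n = 9 := by simpa using Fintype.card_congr e
  haveI : Nonempty (Fin n) := ⟨⟨0, by omega⟩⟩
  set U := GU 3 F 2 with hU
  haveI hsol := isSolvable_GU_three_two hσ
  obtain ⟨w, d, M, s, -, -, -, -, ⟨hM, hMne⟩, hs, hss, hsns⟩ := exists_generators hσ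
  -- the minimal normal subgroup of the factor
  have hUns : ¬ U ≤ scalars (Fin 3) F := fun h => hsns (h hs)
  obtain ⟨K, hKU, hKn, hKns, hKmin⟩ := exists_minimal_normalised (Normalises.self U) hUns
  have hKspan := span_top_GU_three_two hσ hKU hKn hKns
  have hKder : ∀ x ∈ K, ∀ y ∈ K, x * y * x⁻¹ * y⁻¹ ∈ scalars (Fin 3) F := by
    rcases hKmin ⁅K, K⁆ (Subgroup.commutator_le_self K) hKn.commutator with h | h
    · exact fun x hx y hy => h (Subgroup.commutator_mem_commutator hx hy)
    · exact absurd (eq_bot_of_perfect_GU_three_two hσ hKU h) (fun h' => hKns (h' ▸ bot_le))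
  -- the embedding of pairs
  let φ : GL (Fin 3) F × GL (Fin 3) F → Matrix (Fin n) (Fin n) F := fun x =>
    framed e P (pureTensor ![(x.1 : Matrix (Fin 3) (Fin 3) F), (x.2 : Matrix (Fin 3) (Fin 3) F)])
  have hpmul : ∀ a b a' b' : Matrix (Fin 3) (Fin 3) F,
      pureTensor ![a, b] * pureTensor ![a', b'] = pureTensor ![a * a', b * b'] := fun a b a' b' => by
    rw [pureTensor_mul]; congr 1; funext i; fin_cases i <;> rfl
  have hp1 : pureTensor ![(1 : Matrix (Fin 3) (Fin 3) F), 1] = 1 := by
    rw [← pureTensor_one]; congr 1; funext i; fin_cases i <;> rfl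
  let φh : GL (Fin 3) F × GL (Fin 3) F →* Matrix (Fin n) (Fin n) F :=
    { toFun := φ
      map_one' := by simp only [φ, Prod.fst_one, Prod.snd_one, Units.val_one, hp1, map_one]
      map_mul' := fun x y => by simp only [φ, Prod.fst_mul, Prod.snd_mul, Units.val_mul, ← map_mul, hpmul] }
  let ψ : GL (Fin 3) F × GL (Fin 3) F →* GL (Fin n) F := φh.toHomUnits
  have hψ : ∀ x y, (ψ (x, y) : Matrix (Fin n) (Fin n) F) =
      framed e P (pureTensor ![(x : Matrix (Fin 3) (Fin 3) F), (y : Matrix (Fin 3) (Fin 3) F)]) := fun x y => rfl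
  have hψscal : ∀ x y, ψ (x, y) ∈ scalars (Fin n) F → x ∈ scalars (Fin 3) F ∧ y ∈ scalars (Fin 3) F := by
    intro x y h
    obtain ⟨u, hu⟩ := (mem_scalars_iff _).mp h
    rw [hψ] at hu
    have h1 : pureTensor ![(x : Matrix (Fin 3) (Fin 3) F), (y : Matrix (Fin 3) (Fin 3) F)] =
        pureTensor ![(u : F) • (1 : Matrix (Fin 3) (Fin 3) F), 1] := by
      apply (framed e P).injective
      rw [hu]
      have : pureTensor ![(u : F) • (1 : Matrix (Fin 3) (Fin 3) F), 1] = (u : F) • (1 : Matrix (Fin 2 → Fin 3) (Fin 2 → Fin 3) F) := by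
        rw [← hp1]
        ext a b
        simp [pureTensor, Fin.prod_univ_two, mul_assoc]
      rw [this, map_smul, map_one]
    have h2 := pureTensor_eq_cases (bs := ![(u : F) • (1 : Matrix (Fin 3) (Fin 3) F), 1]) (fun i => by
      fin_cases i
      · simp [u.ne_zero]
      · exact one_ne_zero) h1
    obtain ⟨a, -, ha⟩ := h2 0
    obtain ⟨b, -, hb⟩ := h2 1
    exact ⟨mem_scalars_of_commute (c := a * (u : F)) (by simpa [smul_smul] using ha),
      mem_scalars_of_commute (c := b) (by simpa using hb)⟩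
  have hscalψ : ∀ x y, x ∈ scalars (Fin 3) F → y ∈ scalars (Fin 3) F → ψ (x, y) ∈ scalars (Fin n) F := by
    intro x y hx hy
    obtain ⟨u, hu⟩ := (mem_scalars_iff _).mp hx
    obtain ⟨v, hv⟩ := (mem_scalars_iff _).mp hy
    apply mem_scalars_of_commute (c := (u : F) * (v : F))
    rw [hψ, hu, hv]
    have : pureTensor ![(u : F) • (1 : Matrix (Fin 3) (Fin 3) F), (v : F) • 1] =
        ((u : F) * (v : F)) • (1 : Matrix (Fin 2 → Fin 3) (Fin 2 → Fin 3) F) := by
      rw [← hp1]
      ext a b
      simp [pureTensor, Fin.prod_univ_two]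
      ring
    rw [this, map_smul, map_one]
  set Γ := tensorWreathSubgroup 3 2 e P ⊓ GU n F 2 with hΓ
  set R := (K.prod K).map ψ with hR
  -- membership in the stabiliser
  have hframedGU : ∀ (g : GL (Fin n) F) (k : Matrix (Fin 2 → Fin 3) (Fin 2 → Fin 3) F),
      (g : Matrix (Fin n) (Fin n) F) = framed e P k → kᵀ * twist σ k = 1 → g ∈ GU n F 2 := by
    intro g k hg hk
    rw [hσ.mem_GU]
    refine formM_injective σ fun u v => ?_
    have hmv := formM_mulVec σ (1 : Matrix (Fin n) (Fin n) F) (g : Matrix (Fin n) (Fin n) F)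
      (g : Matrix (Fin n) (Fin n) F) u v
    rw [mul_one] at hmv
    rw [← hmv]
    have hid : ∀ w : Fin n → F, w = (P : Matrix (Fin n) (Fin n) F) *ᵥ
        (((((P⁻¹ : GL (Fin n) F) : Matrix (Fin n) (Fin n) F) *ᵥ w) ∘ e.symm) ∘ e) := fun w => by
      rw [show ((((P⁻¹ : GL (Fin n) F) : Matrix (Fin n) (Fin n) F) *ᵥ w) ∘ e.symm) ∘ e =
        ((P⁻¹ : GL (Fin n) F) : Matrix (Fin n) (Fin n) F) *ᵥ w by funext i; simp,
        Matrix.mulVec_mulVec, Units.mul_inv, Matrix.one_mulVec]
    have hkf : ∀ w : Fin n → F, (g : Matrix (Fin n) (Fin n) F) *ᵥ w = (P : Matrix (Fin n) (Fin n) F) *ᵥ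
        ((k *ᵥ ((((P⁻¹ : GL (Fin n) F) : Matrix (Fin n) (Fin n) F) *ᵥ w) ∘ e.symm)) ∘ e) := fun w => by
      rw [hg, ← frame_mulVec]
      exact hid _
    rw [show (1 : Matrix (Fin n) (Fin n) F) = ((1 : GL (Fin n) F) : Matrix (Fin n) (Fin n) F) from Units.val_one.symm,
      hkf u, hkf v, formM_frame, hA, formM_mulVec, Matrix.mul_smul, mul_one, Matrix.smul_mul, hk]
    conv_rhs => rw [hid u, hid v, formM_frame, hA]
  have hwreath : ∀ (g : GL (Fin n) F) (k : GL (Fin 2 → Fin 3) F),
      (g : Matrix (Fin n) (Fin n) F) = framed e P (k : Matrix (Fin 2 → Fin 3) (Fin 2 → Fin 3) F) →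
      k ∈ tensorWreathStandard 3 2 F → g ∈ tensorWreathSubgroup 3 2 e P := fun g k hg hk =>
    mem_map_glReindex_conj (k := k) hk hg
  have hψΓ : ∀ x ∈ U, ∀ y ∈ U, ψ (x, y) ∈ Γ := by
    intro x hx y hy
    let z : GL (Fin 2 → Fin 3) F := ⟨pureTensor ![(x : Matrix (Fin 3) (Fin 3) F), (y : Matrix (Fin 3) (Fin 3) F)],
      pureTensor ![((x⁻¹ : GL (Fin 3) F) : Matrix (Fin 3) (Fin 3) F), ((y⁻¹ : GL (Fin 3) F) : Matrix (Fin 3) (Fin 3) F)],
      by rw [hpmul, Units.mul_inv, Units.mul_inv, hp1], by rw [hpmul, Units.inv_mul, Units.inv_mul, hp1]⟩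
    refine ⟨hwreath _ z (hψ x y) (Subgroup.subset_closure (Or.inl ⟨![x, y], fun a b => ?_⟩)),
      hframedGU _ _ (hψ x y) ?_⟩
    · simp [z, pureTensor, Fin.prod_univ_two]
    · rw [pureTensor_transpose, ← monoM_refl, ← monoM_refl, monoM_twist, monoM_refl, monoM_refl, pureTensor_mul]
      rw [show ((fun i => (![(x : Matrix (Fin 3) (Fin 3) F), (y : Matrix (Fin 3) (Fin 3) F)] i)ᵀ) *
        fun i => twist σ (![(x : Matrix (Fin 3) (Fin 3) F), (y : Matrix (Fin 3) (Fin 3) F)] i)) = 1 from
        funext fun i => by fin_cases i <;> simp [hσ.mem_GU.mp hx, hσ.mem_GU.mp hy], pureTensor_one]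
  -- every element of the stabiliser is monomial in the factor group
  have hΓform : ∀ g ∈ Γ, ∃ (π : Equiv.Perm (Fin 2)) (gs : Fin 2 → GL (Fin 3) F),
      (g : Matrix (Fin n) (Fin n) F) = framed e P (monoM π (fun i => (gs i : Matrix (Fin 3) (Fin 3) F))) ∧
      ∀ i, gs i ∈ U := by
    intro g hg
    obtain ⟨π, gs, hval, hu⟩ := exists_monomial_similitudes hσ hc hA hg.1 hg.2
    refine ⟨π, gs, hval, fun i => ?_⟩
    obtain ⟨u, hu0, hσu, hu'⟩ := hu i
    have hu1 : u = 1 := by
      rw [hσ.eq_pow, sq] at hσu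
      exact mul_left_cancel₀ hu0 (hσu.trans (mul_one u).symm)
    rw [hu1, one_smul] at hu'
    exact hσ.mem_GU.mpr hu'
  -- the interchange of the factors
  obtain ⟨τ, hτΓ, hτ⟩ : ∃ τ : GL (Fin n) F, τ ∈ Γ ∧ ∀ x y, τ * ψ (x, y) * τ⁻¹ = ψ (y, x) := by
    let S : Matrix (Fin 2 → Fin 3) (Fin 2 → Fin 3) F := monoM (Equiv.swap 0 1) 1
    have hSS : S * S = 1 := by
      rw [monoM_mul, ← monoM_one]
      congr 1
      · ext i; simp
      · funext i; simp
    let z : GL (Fin 2 → Fin 3) F := ⟨S, S, hSS, hSS⟩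
    let τ : GL (Fin n) F := ⟨framed e P S, framed e P S, by rw [← map_mul, hSS, map_one],
      by rw [← map_mul, hSS, map_one]⟩
    refine ⟨τ, ⟨hwreath τ z rfl (Subgroup.subset_closure (Or.inr ⟨Equiv.swap 0 1, fun a b => ?_⟩)),
      hframedGU τ S rfl ?_⟩, fun x y => ?_⟩
    · show S a b = if b = a ∘ Equiv.swap 0 1 then (1 : F) else 0
      simp only [S, monoM, Matrix.of_apply, Fin.prod_univ_two, Pi.one_apply, Matrix.one_apply,
        Equiv.swap_apply_left, Equiv.swap_apply_right]
      by_cases h : b = a ∘ Equiv.swap 0 1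
      · subst h; simp
      · rw [if_neg h]
        split_ifs with h0 h1
        all_goals first
          | (simp; done)
          | exact absurd (funext fun i => by fin_cases i <;> simp [h0, h1]) h
    · rw [monoM_transpose, monoM_twist, monoM_mul, ← monoM_one]
      congr 1
      · ext i; simp
      · funext i; simp [twist_one]
    · rw [mul_inv_eq_iff_eq_mul]
      apply Units.ext
      rw [Units.val_mul, Units.val_mul, hψ, hψ]
      show framed e P S * _ = _ * framed e P S
      rw [← map_mul, ← map_mul, ← monoM_refl, ← monoM_refl, monoM_mul, monoM_mul]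
      congr 2
      funext i
      fin_cases i <;> simp
  have hΓU : Γ ≤ GU n F 2 := inf_le_right
  have hRΓ : R ≤ Γ := by
    rintro _ ⟨⟨x, y⟩, ⟨hx, hy⟩, rfl⟩
    exact hψΓ x (hKU hx) y (hKU hy)
  have hRn : Normalises Γ R := by
    rintro g hg _ ⟨⟨x, y⟩, ⟨hx, hy⟩, rfl⟩
    obtain ⟨π, gs, hval, hgs⟩ := hΓform g hg
    let xy : Fin 2 → GL (Fin 3) F := ![x, y]
    let z : Fin 2 → GL (Fin 3) F := fun i => gs i * xy (π i) * (gs i)⁻¹
    have hz : ∀ i, z i ∈ K := fun i => hKn _ (hgs i) _ (by
      show xy (π i) ∈ K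
      generalize π i = j
      fin_cases j
      · exact hx
      · exact hy)
    refine ⟨(z 0, z 1), ⟨hz 0, hz 1⟩, ?_⟩
    rw [eq_mul_inv_iff_mul_eq]
    apply Units.ext
    rw [Units.val_mul, Units.val_mul, hψ, hψ, hval, ← map_mul, ← map_mul, ← monoM_refl, ← monoM_refl,
      monoM_mul, monoM_mul]
    congr 2
    funext i
    have e1 : ![(z 0 : Matrix (Fin 3) (Fin 3) F), (z 1 : Matrix (Fin 3) (Fin 3) F)] i = (z i : Matrix (Fin 3) (Fin 3) F) := by
      fin_cases i <;> rfl
    have e2 : ![(x : Matrix (Fin 3) (Fin 3) F), (y : Matrix (Fin 3) (Fin 3) F)] (π i) =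
        (xy (π i) : Matrix (Fin 3) (Fin 3) F) := by
      generalize π i = j
      fin_cases j <;> rfl
    simp only [Equiv.refl_apply, e1, e2, z, ← Units.val_mul, inv_mul_cancel_right]
  have hRspan : spanAlg R = ⊤ := by
    have hfac : ∀ a b : Matrix (Fin 3) (Fin 3) F, framed e P (pureTensor ![a, b]) ∈ spanAlg R := by
      intro a b
      have h1 : ∀ a : Matrix (Fin 3) (Fin 3) F, ∀ y ∈ K,
          framed e P (pureTensor ![a, (y : Matrix (Fin 3) (Fin 3) F)]) ∈ (spanAlg R).toSubmodule := by
        intro a y hy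
        have ha : a ∈ Submodule.span F (matrixSet K) := by rw [← spanAlg_toSubmodule, hKspan]; trivial
        induction ha using Submodule.span_induction with
        | mem x hx =>
          obtain ⟨g, hg, rfl⟩ := hx
          exact coe_mem_spanAlg (x := ψ (g, y)) ⟨(g, y), ⟨hg, hy⟩, rfl⟩
        | zero =>
          have : pureTensor ![(0 : Matrix (Fin 3) (Fin 3) F), (y : Matrix (Fin 3) (Fin 3) F)] = 0 := by
            ext u v; simp [pureTensor, Fin.prod_univ_two]
          rw [this, map_zero]; exact zero_mem _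
        | add u v _ _ hu hv =>
          have : pureTensor ![u + v, (y : Matrix (Fin 3) (Fin 3) F)] =
              pureTensor ![u, (y : Matrix (Fin 3) (Fin 3) F)] + pureTensor ![v, (y : Matrix (Fin 3) (Fin 3) F)] := by
            ext p q; simp [pureTensor, Fin.prod_univ_two, add_mul]
          rw [this, map_add]; exact add_mem hu hv
        | smul r u _ hu =>
          have : pureTensor ![r • u, (y : Matrix (Fin 3) (Fin 3) F)] =
              r • pureTensor ![u, (y : Matrix (Fin 3) (Fin 3) F)] := by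
            ext p q; simp [pureTensor, Fin.prod_univ_two, mul_assoc]
          rw [this, map_smul]; exact Submodule.smul_mem _ _ hu
      rw [← Subalgebra.mem_toSubmodule]
      have hb : b ∈ Submodule.span F (matrixSet K) := by rw [← spanAlg_toSubmodule, hKspan]; trivial
      induction hb using Submodule.span_induction with
      | mem x hx =>
        obtain ⟨g, hg, rfl⟩ := hx
        exact h1 a g hg
      | zero =>
        have : pureTensor ![a, (0 : Matrix (Fin 3) (Fin 3) F)] = 0 := by
          ext u v; simp [pureTensor, Fin.prod_univ_two]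
        rw [this, map_zero]; exact zero_mem _
      | add u v _ _ hu hv =>
        have : pureTensor ![a, u + v] = pureTensor ![a, u] + pureTensor ![a, v] := by
          ext p q; simp [pureTensor, Fin.prod_univ_two, mul_add]
        rw [this, map_add]; exact add_mem hu hv
      | smul r u _ hu =>
        have : pureTensor ![a, r • u] = r • pureTensor ![a, u] := by
          ext p q; simp [pureTensor, Fin.prod_univ_two]; ring
        rw [this, map_smul]; exact Submodule.smul_mem _ _ hu
    rw [eq_top_iff]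
    intro X _
    rw [← (framed e P).apply_symm_apply X, Matrix.matrix_eq_sum_single ((framed e P).symm X), map_sum]
    refine sum_mem fun p _ => ?_
    rw [map_sum]
    refine sum_mem fun q _ => ?_
    have : Matrix.single p q ((framed e P).symm X p q) =
        pureTensor ![Matrix.single (p 0) (q 0) ((framed e P).symm X p q), Matrix.single (p 1) (q 1) (1 : F)] := by
      ext u v
      simp only [pureTensor, Matrix.of_apply, Fin.prod_univ_two, Matrix.cons_val_zero, Matrix.cons_val_one,
        Matrix.single_apply]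
      by_cases h : p = u ∧ q = v
      · obtain ⟨rfl, rfl⟩ := h; simp
      · rw [if_neg h]
        split_ifs with h0 h1
        all_goals first
          | (simp; done)
          | exact absurd ⟨funext fun i => by fin_cases i <;> first | exact h0.1 | exact h1.1,
            funext fun i => by fin_cases i <;> first | exact h0.2 | exact h1.2⟩ h
    rw [this]
    exact hfac _ _
  have hRder : ∀ x ∈ R, ∀ y ∈ R, x * y * x⁻¹ * y⁻¹ ∈ scalars (Fin n) F := by
    rintro _ ⟨⟨x, y⟩, ⟨hx, hy⟩, rfl⟩ _ ⟨⟨x', y'⟩, ⟨hx', hy'⟩, rfl⟩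
    rw [← map_inv, ← map_inv, ← map_mul, ← map_mul, ← map_mul]
    exact hscalψ _ _ (hKder x hx x' hx') (hKder y hy y' hy')
  have hRns : ¬ R ≤ scalars (Fin n) F := fun h => hKns fun x hx =>
    (hψscal x 1 (h ⟨(x, 1), ⟨hx, K.one_mem⟩, rfl⟩)).1
  -- the factor group moves every non-scalar element of K modulo scalars
  have hmove : ∀ x ∈ K, x ∉ scalars (Fin 3) F → ∃ g ∈ U, g * x * g⁻¹ * x⁻¹ ∉ scalars (Fin 3) F := by
    intro x hx hxs
    by_contra hcon
    push Not at hcon
    haveI : (scalars (Fin 3) F).Normal := scalars_normal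
    let π := QuotientGroup.mk' (scalars (Fin 3) F)
    let K₀ := K ⊓ (Subgroup.centralizer ((U.map π : Subgroup _) : Set _)).comap π
    have hmemK₀ : ∀ z, z ∈ K₀ ↔ z ∈ K ∧ ∀ g ∈ U, g * z * g⁻¹ * z⁻¹ ∈ scalars (Fin 3) F := by
      intro z
      refine and_congr_right fun _ => ?_
      show π z ∈ Subgroup.centralizer ((U.map π : Subgroup _) : Set _) ↔ _
      rw [Subgroup.mem_centralizer_iff]
      constructor
      · intro h g hg
        rw [← QuotientGroup.eq_one_iff]
        show π (g * z * g⁻¹ * z⁻¹) = 1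
        simp only [map_mul, map_inv, h (π g) ⟨g, hg, rfl⟩]
        group
      · rintro h _ ⟨g, hg, rfl⟩
        have h1 : π (g * z * g⁻¹ * z⁻¹) = 1 := (QuotientGroup.eq_one_iff _).mpr (h g hg)
        simp only [map_mul, map_inv] at h1
        exact mul_inv_eq_iff_eq_mul.mp (mul_inv_eq_one.mp h1)
    have hK₀n : Normalises U K₀ := by
      intro g hg z hz
      rw [hmemK₀] at hz ⊢
      refine ⟨hKn g hg z hz.1, fun g' hg' => ?_⟩
      have h1 := hz.2 (g⁻¹ * g' * g) (U.mul_mem (U.mul_mem (U.inv_mem hg) hg') hg)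
      have h2 := scalars_normal.conj_mem _ h1 g
      convert h2 using 1
      group
    rcases hKmin K₀ inf_le_left hK₀n with h | h
    · exact hxs (h ((hmemK₀ x).mpr ⟨hx, hcon⟩))
    · apply hsns
      refine centralizer_scalar (absIrred_of_span_top hKspan) fun z hz => ?_
      have hz' : z ∈ K₀ := by rw [h]; exact hz
      obtain ⟨u, hu⟩ := (mem_scalars_iff _).mp (((hmemK₀ z).mp hz').2 s hs)
      have hsz : ((s * z * s⁻¹ : GL (Fin 3) F) : Matrix (Fin 3) (Fin 3) F) = (u : F) • (z : Matrix (Fin 3) (Fin 3) F) := by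
        rw [show s * z * s⁻¹ = s * z * s⁻¹ * z⁻¹ * z by group, Units.val_mul, hu, Matrix.smul_mul, one_mul]
      rw [← conjM_coe] at hsz
      have h2 := congrArg (conjM s) hsz
      rw [← conjM_mul, hss, conjM_one, map_smul, hsz, smul_smul] at h2
      have h3 : ((u : F) * u - 1) • (z : Matrix (Fin 3) (Fin 3) F) = 0 := by
        rw [sub_smul, one_smul, ← h2, sub_self]
      have hu1 : (u : F) = 1 := by
        have h4 := sub_eq_zero.mp ((smul_eq_zero.mp h3).resolve_right z.isUnit.ne_zero)
        have h2F := two_eq_zero_two hσ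
        have h5 : ((u : F) - 1) * ((u : F) - 1) = 0 := by linear_combination h4 + (1 - (u : F)) * h2F
        exact sub_eq_zero.mp (mul_self_eq_zero.mp h5)
      rw [hu1, one_smul, conjM_coe] at hsz
      exact mul_inv_eq_iff_eq_mul.mp (Units.ext hsz)
  have hRmin : ∀ L : Subgroup (GL (Fin n) F), L ≤ R → Normalises Γ L → L ≤ scalars (Fin n) F ∨ L = R := by
    intro L hL hLn
    by_cases hLs : L ≤ scalars (Fin n) F
    · exact Or.inl hLs
    right
    obtain ⟨l, hl, hls⟩ := SetLike.not_le_iff_exists.mp hLs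
    obtain ⟨x, hx, y, hy, hxs, hxy⟩ : ∃ x ∈ K, ∃ y ∈ K, x ∉ scalars (Fin 3) F ∧ ψ (x, y) ∈ L := by
      obtain ⟨⟨x, y⟩, ⟨hx, hy⟩, rfl⟩ := hL hl
      by_cases hxs : x ∈ scalars (Fin 3) F
      · refine ⟨y, hy, x, hx, fun hys => hls (hscalψ x y hxs hys), ?_⟩
        rw [← hτ x y]
        exact hLn τ hτΓ _ hl
      · exact ⟨x, hx, y, hy, hxs, hl⟩
    obtain ⟨g, hg, hgx⟩ := hmove x hx hxs
    let ι₁ : GL (Fin 3) F →* GL (Fin n) F := ψ.comp (MonoidHom.inl _ _)
    let L₁ := K ⊓ L.comap ι₁
    have hL₁ : ¬ L₁ ≤ scalars (Fin 3) F := fun h => hgx (h ⟨K.mul_mem (hKn g hg x hx) (K.inv_mem hx), by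
      show ψ (g * x * g⁻¹ * x⁻¹, 1) ∈ L
      have e : ψ (g * x * g⁻¹ * x⁻¹, 1) = ψ (g, 1) * ψ (x, y) * (ψ (g, 1))⁻¹ * (ψ (x, y))⁻¹ := by
        rw [← map_inv, ← map_inv, ← map_mul, ← map_mul, ← map_mul]
        congr 1
        ext <;> simp
      rw [e]
      exact L.mul_mem (hLn _ (hψΓ g hg 1 U.one_mem) _ hxy) (L.inv_mem hxy)⟩)
    have hL₁n : Normalises U L₁ := by
      intro g' hg' z hz
      refine ⟨hKn g' hg' z hz.1, ?_⟩
      show ψ (g' * z * g'⁻¹, 1) ∈ L
      have e : ψ (g' * z * g'⁻¹, 1) = ψ (g', 1) * ψ (z, 1) * (ψ (g', 1))⁻¹ := by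
        rw [← map_inv, ← map_mul, ← map_mul]
        congr 1
        ext <;> simp
      rw [e]
      exact hLn _ (hψΓ g' hg' 1 U.one_mem) _ hz.2
    have hall : ∀ z ∈ K, ψ (z, 1) ∈ L := fun z hz => by
      have h := (hKmin L₁ inf_le_left hL₁n).resolve_left hL₁
      have : z ∈ L₁ := by rw [h]; exact hz
      exact this.2
    refine le_antisymm hL ?_
    rintro _ ⟨⟨a, b⟩, ⟨ha, hb⟩, rfl⟩
    have hb' : ψ (1, b) ∈ L := by
      rw [← hτ b 1]
      exact hLn τ hτΓ _ (hall b hb)
    have e : ψ (a, b) = ψ (a, 1) * ψ (1, b) := by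
      rw [← map_mul]; congr 1; ext <;> simp
    rw [e]
    exact L.mul_mem (hall a ha) hb'
  obtain ⟨r, hr⟩ := isSymplecticCore_of_minimal hRn hRns hRmin (absIrred_of_span_top hRspan) hRspan hRder
  exact (u_symplecticCore hσ (by omega) hΓU ⟨R, r, hRΓ, hRn, hr⟩).mono (le_inf hle hH)

end Cfsg.Agent.Lib.Aschbacher
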