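/-
Aschbacher's theorem for the unitary groups.
-/
import Cfsg.Agent.Lib.Aschbacher.UnitarySmall

set_option autoImplicit false

namespace Cfsg.Agent.Lib.Aschbacher

open Cfsg Cfsg.Geo Matrix
open scoped Kronecker

set_option maxHeartbeats 1000000

variable {F : Type*} [Field F] [Fintype F] {n q : ℕ} {σ : F ≃+* F}

omit [Fintype F] in
lemma finTwo_gram {d : ℕ} (e : Fin n ≃ Fin d × Fin d) (P : GL (Fin n) F) (G : GL (Fin n) F)
    {A C : Matrix (Fin d) (Fin d) F} (hA : gramIn σ G e P = A ⊗ₖ C) :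
    gramIn σ G (e.trans (finTwoArrowEquiv (Fin d)).symm) P = pureTensor ![A, C] := by
  ext x y
  have h := congrFun (congrFun hA (x 0, x 1)) (y 0, y 1)
  simp only [gramIn, Matrix.submatrix_apply, kroneckerMap_apply] at h
  simp [gramIn, pureTensor, Fin.prod_univ_two, ← h]

/-- The tensor case. -/
theorem u_tensor (hσ : IsQAut q σ) (hn : 2 ≤ n) {H : Subgroup (GL (Fin n) F)} (hH : H ≤ GU n F q)
    (hirr : ActsIrreducibly (matrixSet H)) (ht : HasTensor H) : UHasClass q H := by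
  classical
  obtain ⟨N, d, m, e, B, hNH, -, hd, hm, hmem, hle⟩ := ht
  haveI : Nonempty (Fin d) := ⟨⟨0, by omega⟩⟩
  haveI : Nonempty (Fin m) := ⟨⟨0, by omega⟩⟩
  obtain ⟨G₁, G₂, c₁, c₂, Nd, hA, hcc, hc1, h1, h2, -, -⟩ :=
    exists_tensor_gram hσ.isFormGram (by omega) (by omega) e B hmem ((hσ.invariant hH).mono hNH)
  have hc2 : c₂ * σ c₂ = 1 := by
    have h := congrArg σ hcc
    rw [map_mul, map_one] at h
    calc c₂ * σ c₂ = (c₁ * σ c₁) * (c₂ * σ c₂) := by rw [hc1, one_mul]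
      _ = (c₁ * c₂) * (σ c₁ * σ c₂) := by ring
      _ = 1 := by rw [hcc, h, mul_one]
  obtain ⟨μ, hμ0, hμ⟩ := exists_twist hσ.ne_refl hc1 hσ.invol
  set G₁' : GL (Fin d) F := Units.mk0 μ hμ0 • G₁
  set G₂' : GL (Fin m) F := Units.mk0 μ⁻¹ (inv_ne_zero hμ0) • G₂
  have hv1 : (G₁' : Matrix (Fin d) (Fin d) F) = μ • (G₁ : Matrix (Fin d) (Fin d) F) := rfl
  have hv2 : (G₂' : Matrix (Fin m) (Fin m) F) = μ⁻¹ • (G₂ : Matrix (Fin m) (Fin m) F) := rfl
  have hG1 : twist σ (G₁' : Matrix (Fin d) (Fin d) F)ᵀ = (G₁' : Matrix (Fin d) (Fin d) F) := by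
    rw [hv1, Matrix.transpose_smul, twist_smul, h1, smul_smul, mul_comm, hμ]
  have hG2 : twist σ (G₂' : Matrix (Fin m) (Fin m) F)ᵀ = (G₂' : Matrix (Fin m) (Fin m) F) := by
    rw [hv2, Matrix.transpose_smul, twist_smul, h2, smul_smul]
    congr 1
    have hσμ : σ μ ≠ 0 := (map_ne_zero σ).mpr hμ0
    rw [map_inv₀]
    apply mul_left_cancel₀ hσμ
    rw [← mul_assoc, mul_inv_cancel₀ hσμ, one_mul]
    apply mul_left_cancel₀ (left_ne_zero_of_mul_eq_one hcc)
    rw [hcc, ← mul_assoc, hμ, mul_inv_cancel₀ hμ0]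
  have hA' : gramIn σ (1 : GL (Fin n) F) e B =
      (G₁' : Matrix (Fin d) (Fin d) F) ⊗ₖ (G₂' : Matrix (Fin m) (Fin m) F) := by
    rw [hA, hv1, hv2, Matrix.smul_kronecker, Matrix.kronecker_smul, smul_smul, mul_inv_cancel₀ hμ0, one_smul]
  rcases lt_trichotomy d m with hdm | hdm | hdm
  · refine ⟨tensorProductSubgroup d m e B ⊓ GU n F q, Or.inr (Or.inr (Or.inl
      ⟨d, m, e, B, _, _, hd, hdm, hσ.isUnitaryFormPow G₁' hG1, hσ.isUnitaryFormPow G₂' hG2, ?_, rfl⟩)),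
      le_inf hle hH⟩
    rw [hσ.pow_fun, hσ.hermForm_eq]
    exact tensorFormStructure_of_gram one_ne_zero (by rw [one_smul]; exact hA')
  swap
  · refine ⟨tensorProductSubgroup m d (e.trans (Equiv.prodComm _ _)) B ⊓ GU n F q, Or.inr (Or.inr (Or.inl
      ⟨m, d, _, B, _, _, hm, hdm, hσ.isUnitaryFormPow G₂' hG2, hσ.isUnitaryFormPow G₁' hG1, ?_, rfl⟩)),
      le_inf (hle.trans (tensorProduct_le_swap e B)) hH⟩
    rw [hσ.pow_fun, hσ.hermForm_eq]
    exact tensorFormStructure_of_gram one_ne_zero (by rw [one_smul]; exact gramIn_swap hA')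
  subst hdm
  set e' := e.trans (finTwoArrowEquiv (Fin d)).symm with he'
  have hle' : H ≤ tensorWreathSubgroup d 2 e' B := hle.trans (tensorProduct_le_wreath e B)
  have hA2 : gramIn σ (1 : GL (Fin n) F) e' B =
      (1 : F) • pureTensor (fun i => ((![G₁', G₂'] i : GL (Fin d) F) : Matrix (Fin d) (Fin d) F)) := by
    rw [one_smul, he', finTwo_gram e B 1 hA']
    congr 1
    funext i
    fin_cases i <;> rfl
  have hcs : ∀ i : Fin 2, (fun _ => (1 : F)) i * σ ((fun _ => (1 : F)) i) = 1 ∧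
      twist σ ((![G₁', G₂'] i : GL (Fin d) F) : Matrix (Fin d) (Fin d) F)ᵀ =
        (fun _ => (1 : F)) i • ((![G₁', G₂'] i : GL (Fin d) F) : Matrix (Fin d) (Fin d) F) := fun i => by
    refine ⟨by simp, ?_⟩
    fin_cases i
    · simpa using hG1
    · simpa using hG2
  by_cases hex : q = 2 ∧ d = 3
  · obtain ⟨rfl, rfl⟩ := hex
    obtain ⟨P, c', hc', hP, hA'', -⟩ := exists_standard_power hσ one_ne_zero hA2 hcs
    exact u_wreath_three_two hσ hH hc' hA'' (hP ▸ hle')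
  · exact u_wreath hσ hn hH hirr hd le_rfl hex hle' one_ne_zero hA2 hcs

/-- The tensor induced case. -/
theorem u_tensorInduced (hσ : IsQAut q σ) (hn : 2 ≤ n) {H : Subgroup (GL (Fin n) F)} (hH : H ≤ GU n F q)
    (hirr : ActsIrreducibly (matrixSet H)) (hti : HasTensorInduced H) : UHasClass q H := by
  classical
  obtain ⟨t, d, M, e, B, ht, hd, hMH, hMp, hMns, hmem, -, -, -, htrans, hle⟩ := hti
  obtain ⟨c, Gs, cs, hc, hA, hcs, hNd, -⟩ :=
    exists_power_gram hσ.isFormGram (hσ.invariant hH) hd e B hMH hMp hmem htrans hle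
  refine u_wreath hσ hn hH hirr hd ht ?_ hle hc hA hcs
  rintro ⟨rfl, rfl⟩
  let i₀ : Fin t := ⟨0, by omega⟩
  obtain ⟨Nd, hspan, hperf, hinv⟩ := hNd i₀
  obtain ⟨μ, hμ0, hμ⟩ := exists_twist hσ.ne_refl (hcs i₀).1 hσ.invol
  set G' : GL (Fin 3) F := Units.mk0 μ hμ0 • Gs i₀
  have hval : (G' : Matrix (Fin 3) (Fin 3) F) = μ • (Gs i₀ : Matrix (Fin 3) (Fin 3) F) := rfl
  obtain ⟨b, hb⟩ := exists_congr_one hσ.ne_refl G' ⟨hσ.invol, by
    rw [one_smul, hval, Matrix.transpose_smul, twist_smul, (hcs i₀).2, smul_smul, mul_comm, hμ]⟩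
  have hle1 : cj b⁻¹ Nd ≤ GU 3 F 2 := by
    intro x hx
    rw [mem_cj, inv_inv] at hx
    rw [hσ.mem_GU]
    have h := (hinv.smul μ) _ hx
    rw [← hval] at h
    calc (x : Matrix (Fin 3) (Fin 3) F)ᵀ * twist σ (x : Matrix (Fin 3) (Fin 3) F)
        = (x : Matrix (Fin 3) (Fin 3) F)ᵀ * ((b : Matrix (Fin 3) (Fin 3) F)ᵀ * (G' : Matrix (Fin 3) (Fin 3) F) *
            twist σ (b : Matrix (Fin 3) (Fin 3) F)) * twist σ (x : Matrix (Fin 3) (Fin 3) F) := by rw [hb, mul_one]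
      _ = ((b * x : GL (Fin 3) F) : Matrix (Fin 3) (Fin 3) F)ᵀ * (G' : Matrix (Fin 3) (Fin 3) F) *
            twist σ ((b * x : GL (Fin 3) F) : Matrix (Fin 3) (Fin 3) F) := by
          rw [Units.val_mul, Matrix.transpose_mul, twist_mul]; simp only [mul_assoc]
      _ = (b : Matrix (Fin 3) (Fin 3) F)ᵀ * (((b * x * b⁻¹ : GL (Fin 3) F) : Matrix (Fin 3) (Fin 3) F)ᵀ *
            (G' : Matrix (Fin 3) (Fin 3) F) * twist σ ((b * x * b⁻¹ : GL (Fin 3) F) : Matrix (Fin 3) (Fin 3) F)) *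
            twist σ (b : Matrix (Fin 3) (Fin 3) F) := by
          have e : (b * x : GL (Fin 3) F) = b * x * b⁻¹ * b := by group
          conv_lhs => rw [e]
          rw [Units.val_mul _ b, Matrix.transpose_mul, twist_mul]; simp only [mul_assoc]
      _ = 1 := by rw [h, hb]
  have hbot := eq_bot_of_perfect_GU_three_two hσ hle1 (by rw [cj, ← Subgroup.map_commutator, hperf])
  have hNd : Nd = ⊥ := by
    rwa [cj, Subgroup.map_eq_bot_iff_of_injective _ (MulAut.conj b⁻¹).injective] at hbot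
  have hle2 : spanAlg Nd ≤ ⊥ := spanAlg_le fun x hx => by
    rw [hNd, Subgroup.mem_bot] at hx
    rw [hx]
    exact one_mem _
  rw [hspan] at hle2
  obtain ⟨c', hc'⟩ := scalar_of_mem_bot (hle2 (Algebra.mem_top (x := Matrix.single (0 : Fin 3) 1 (1 : F))))
  have := congrFun (congrFun hc' 0) 1
  simp at this

/-- The almost simple case. -/
theorem u_core (hσ : IsQAut q σ) (hn : 2 ≤ n) {H : Subgroup (GL (Fin n) F)} (hH : H ≤ GU n F q)
    (hc : HasCore H) : UHasClass q H ∨ InUnitaryResidualClass H := by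
  classical
  haveI : Nonempty (Fin n) := ⟨⟨0, by omega⟩⟩
  obtain ⟨P, hP⟩ := hc
  by_cases hsub : ∃ F₀ : Subfield F, F₀ ≠ ⊤ ∧ RealisableOver F₀ (matrixSet P)
  · obtain ⟨F₀, h0, h1⟩ := hsub
    exact Or.inl (u_subfield hσ hn hH hP.span_top hP.le hP.normal h0 h1)
  push Not at hsub
  have hbil : ∀ G : GL (Fin n) F, ¬ Invariant (RingEquiv.refl F) P (G : Matrix (Fin n) (Fin n) F) := by
    intro G hG
    obtain ⟨F₀, h0, h1⟩ :=
      realisable_of_two_forms hP.span_top hG hσ.ne_refl hσ.invol ((hσ.invariant hH).mono hP.le)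
    exact hsub F₀ h0 h1
  refine Or.inr ⟨P, hP.residual (fun F₀ h0 => hsub F₀ h0), ?_, ?_⟩
  · rintro ⟨Q, hQ, hfix⟩
    obtain ⟨G, hG, -⟩ := exists_gram_bilinear hQ.polar_bilinear hQ.nondegenerate
    refine hbil G (invariant_iff_fixes.mpr ?_)
    rw [← hG]
    intro s hs u v
    simp only [QuadraticMap.polar, ← Matrix.mulVec_add, hfix s hs]
  · rintro ⟨f, hf, hfix⟩
    obtain ⟨G, hG, -⟩ := exists_gram_bilinear hf.bilinear hf.nondegenerate
    exact hbil G (invariant_iff_fixes.mpr (hG ▸ hfix))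

/-- Aschbacher's theorem for unitary groups. -/
theorem unitary_class_or_residual (hF : Fintype.card F = q ^ 2) (hn : 2 ≤ n) (H : Subgroup (GL (Fin n) F))
    (hH : H ≤ GU n F q) :
    (∃ M : Subgroup (GL (Fin n) F), InUnitaryClass n F q M ∧ H ≤ M) ∨ InUnitaryResidualClass H := by
  obtain ⟨σ, hσ⟩ := exists_qAut hF
  haveI : Nonempty (Fin n) := ⟨⟨0, by omega⟩⟩
  by_cases hirr : ActsIrreducibly (matrixSet H)
  swap
  · exact Or.inl (u_reducible hσ hH hirr)
  rcases structure_of_irreducible hirr (by rw [Fintype.card_fin]; omega) with h | h | h | h | h | h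
  · exact Or.inl (u_imprimitive hσ hH h)
  · exact Or.inl (u_extension hσ (by omega) hH h)
  · exact Or.inl (u_tensor hσ hn hH hirr h)
  · exact Or.inl (u_symplecticCore hσ hn hH h)
  · exact Or.inl (u_tensorInduced hσ hn hH hirr h)
  · exact u_core hσ hn hH h

end Cfsg.Agent.Lib.Aschbacher
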